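import Mathlib.GroupTheory.Sylow
import Mathlib.GroupTheory.Transfer
import Mathlib.GroupTheory.GroupAction.ConjAct
import Mathlib.GroupTheory.GroupAction.Quotient
import Mathlib.Data.Set.Card.Arithmetic
import Cfsg.Prelude.Def_Transfer

/-!
# Class sizes and Sylow centralisers

If `G` has no normal `p`-complement then at most half of the elements of `G` have a class size
prime to `p`.
-/

set_option autoImplicit false

namespace CfsgLib.ClassSize

variable {G : Type*} [Group G]

/-- The conjugates of `g` form a set whose size is the index of the centraliser. -/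
theorem ncard_setOf_isConj (g : G) :
    {y : G | IsConj g y}.ncard = (Subgroup.centralizer ({g} : Set G)).index := by
  rw [← Nat.card_coe_set_eq, Subgroup.index]
  have hr : ∀ a b : G, a⁻¹ * b ∈ Subgroup.centralizer ({g} : Set G) ↔
      a * g * a⁻¹ = b * g * b⁻¹ := by
    intro a b
    rw [Subgroup.mem_centralizer_singleton_iff, mul_inv_eq_iff_eq_mul (a := a * g), ←
      mul_left_cancel_iff (a := a), ← mul_right_cancel_iff (a := b⁻¹ * a)]
    simp [mul_assoc, eq_comm]
  refine (Nat.card_congr (Equiv.ofBijective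
    (Quotient.lift (fun x : G => (⟨x * g * x⁻¹, isConj_iff.2 ⟨x, rfl⟩⟩ : {y : G | IsConj g y}))
      fun a b h => Subtype.ext ((hr a b).1 (QuotientGroup.leftRel_apply.1 h))) ⟨?_, ?_⟩)).symm
  · rintro ⟨a⟩ ⟨b⟩ h
    exact Quotient.sound (QuotientGroup.leftRel_apply.2 ((hr a b).2 (Subtype.ext_iff.1 h)))
  · rintro ⟨y, hy⟩
    obtain ⟨c, rfl⟩ := isConj_iff.1 hy
    exact ⟨Quotient.mk'' c, rfl⟩

variable [Finite G] (p : ℕ) [Fact p.Prime]

theorem exists_sylow_le_centralizer_iff (x : G) :
    (∃ P : Sylow p G, (P : Subgroup G) ≤ Subgroup.centralizer ({x} : Set G)) ↔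
      ¬ p ∣ (Subgroup.centralizer ({x} : Set G)).index := by
  constructor
  · rintro ⟨P, hP⟩ h
    exact P.not_dvd_index (h.trans (Subgroup.index_dvd_of_le hP))
  · intro h
    obtain ⟨P⟩ := (inferInstance : Nonempty (Sylow p (Subgroup.centralizer ({x} : Set G))))
    obtain ⟨Q, hQ⟩ := (P.2.map (Subgroup.centralizer ({x} : Set G)).subtype).exists_le_sylow
    set R : Subgroup G := (P : Subgroup _).map (Subgroup.centralizer ({x} : Set G)).subtype with hR
    have hcard : Nat.card (Q : Subgroup G) = Nat.card R := by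
      apply Nat.dvd_antisymm
      · have hp : p.Prime := Fact.out
        have h1 : ¬ p ∣ R.index := by
          rw [hR, Subgroup.index_map_subtype, Nat.Prime.dvd_mul hp]
          exact not_or.2 ⟨P.not_dvd_index, h⟩
        obtain ⟨k, hk⟩ := IsPGroup.iff_card.1 Q.2
        have h2 : Nat.card (Q : Subgroup G) ∣ Nat.card R * R.index := by
          rw [Subgroup.card_mul_index]; exact Subgroup.card_subgroup_dvd_card _
        refine Nat.Coprime.dvd_of_dvd_mul_right ?_ h2
        rw [hk]
        exact ((Nat.Prime.coprime_iff_not_dvd hp).2 h1).pow_left k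
      · exact Subgroup.card_dvd_of_le hQ
    refine ⟨Q, ?_⟩
    rw [← Subgroup.eq_of_le_of_card_ge hQ hcard.le]
    exact Subgroup.map_subtype_le _

/-- The set of elements with class size prime to `p`. -/
def coprimeClassSet (G : Type*) [Group G] (p : ℕ) : Set G :=
  {x : G | ¬ p ∣ (Subgroup.centralizer ({x} : Set G)).index}

theorem coprimeClassSet_eq_iUnion :
    coprimeClassSet G p = ⋃ P : Sylow p G, (Subgroup.centralizer ((P : Subgroup G) : Set G) : Set G) := by
  ext x
  simp only [coprimeClassSet, Set.mem_ofPred_eq, ← exists_sylow_le_centralizer_iff, Set.mem_iUnion,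
    SetLike.mem_coe]
  refine exists_congr fun P => ⟨fun h => ?_, fun h => ?_⟩
  · rw [Subgroup.mem_centralizer_iff]
    intro y hy
    exact ((Subgroup.mem_centralizer_singleton_iff).1 (h hy))
  · intro y hy
    rw [Subgroup.mem_centralizer_singleton_iff]
    exact Subgroup.mem_centralizer_iff.1 h y hy

theorem card_centralizer_sylow_eq (P Q : Sylow p G) :
    Nat.card (Subgroup.centralizer ((Q : Subgroup G) : Set G)) =
      Nat.card (Subgroup.centralizer ((P : Subgroup G) : Set G)) := by
  obtain ⟨g, rfl⟩ := MulAction.exists_smul_eq G P Q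
  refine Nat.card_congr
    { toFun := fun x => ⟨g⁻¹ * x * g, ?_⟩
      invFun := fun x => ⟨g * x * g⁻¹, ?_⟩
      left_inv := fun x => by ext; simp [mul_assoc]
      right_inv := fun x => by ext; simp [mul_assoc] }
  · rw [Subgroup.mem_centralizer_iff]
    intro y hy
    have h : g * y * g⁻¹ ∈ ((g • P : Sylow p G) : Subgroup G) := by
      rw [Sylow.coe_subgroup_smul]
      exact ⟨y, hy, rfl⟩
    have h2 := Subgroup.mem_centralizer_iff.1 x.2 _ h
    calc y * (g⁻¹ * (x : G) * g) = g⁻¹ * (g * y * g⁻¹ * x) * g := by group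
      _ = g⁻¹ * (x * (g * y * g⁻¹)) * g := by rw [h2]
      _ = g⁻¹ * (x : G) * g * y := by group
  · rw [Subgroup.mem_centralizer_iff]
    intro y hy
    rw [Sylow.coe_subgroup_smul] at hy
    obtain ⟨z, hz, rfl⟩ := hy
    have h2 := Subgroup.mem_centralizer_iff.1 x.2 _ hz
    show g * z * g⁻¹ * (g * x * g⁻¹) = g * x * g⁻¹ * (g * z * g⁻¹)
    calc g * z * g⁻¹ * (g * x * g⁻¹) = g * (z * x) * g⁻¹ := by group
      _ = g * (x * z) * g⁻¹ := by rw [h2]
      _ = _ := by group

theorem ncard_coprimeClassSet_le (P : Sylow p G) :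
    (coprimeClassSet G p).ncard ≤
      (Subgroup.normalizer (P : Set G)).index *
        Nat.card (Subgroup.centralizer ((P : Subgroup G) : Set G)) := by
  classical
  cases nonempty_fintype (Sylow p G)
  rw [← P.card_eq_index_normalizer, coprimeClassSet_eq_iUnion, Nat.card_eq_fintype_card]
  refine le_trans (Set.ncard_iUnion_le_of_fintype _) ?_
  calc ∑ Q : Sylow p G, ((Subgroup.centralizer ((Q : Subgroup G) : Set G) : Set G)).ncard
      = ∑ _Q : Sylow p G, Nat.card (Subgroup.centralizer ((P : Subgroup G) : Set G)) := by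
        refine Finset.sum_congr rfl fun Q _ => ?_
        rw [← Nat.card_coe_set_eq]
        exact card_centralizer_sylow_eq p P Q
    _ ≤ _ := by simp

theorem two_mul_ncard_coprimeClassSet_le (h : ¬ Cfsg.HasNormalPComplement p G) :
    2 * (coprimeClassSet G p).ncard ≤ Nat.card G := by
  obtain ⟨P⟩ := (inferInstance : Nonempty (Sylow p G))
  set N := Subgroup.normalizer (P : Set G) with hN
  set C := Subgroup.centralizer ((P : Subgroup G) : Set G) with hC
  have hCN : C ≤ N := Subgroup.centralizer_le_normalizer _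
  have hne : C ≠ N := by
    intro he
    exact h ⟨P, _, inferInstance, MonoidHom.ker_transferSylow_isComplement' P he.ge⟩
  have h2 : 2 * Nat.card C ≤ Nat.card N := by
    have hlt : C.relIndex N ≠ 1 := fun he => hne (le_antisymm hCN (Subgroup.relIndex_eq_one.1 he))
    have h0 : C.relIndex N ≠ 0 := by
      intro h0
      have := Subgroup.relIndex_dvd_card C N
      rw [h0, zero_dvd_iff] at this
      exact Nat.card_pos.ne' this
    have hmul : C.relIndex N * Nat.card C = Nat.card N := by
      have := Subgroup.relIndex_mul_relIndex ⊥ C N bot_le hCN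
      rw [Subgroup.relIndex_bot_left, Subgroup.relIndex_bot_left] at this
      rw [mul_comm]; exact this
    rw [← hmul]
    exact Nat.mul_le_mul_right _ (by omega)
  calc 2 * (coprimeClassSet G p).ncard ≤ 2 * (N.index * Nat.card C) :=
        Nat.mul_le_mul_left _ (ncard_coprimeClassSet_le p P)
    _ = N.index * (2 * Nat.card C) := by ring
    _ ≤ N.index * Nat.card N := Nat.mul_le_mul_left _ h2
    _ = Nat.card G := N.index_mul_card

omit [Finite G] [Fact p.Prime] in
theorem one_mem_coprimeClassSet (hp : p ≠ 1) : (1 : G) ∈ coprimeClassSet G p := by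
  have : Subgroup.centralizer ({(1 : G)} : Set G) = ⊤ := by
    ext y; simp [Subgroup.mem_centralizer_singleton_iff]
  simp [coprimeClassSet, this, hp]

end CfsgLib.ClassSize
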