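import Cfsg.Agent.Lib.ClassSize.ThreeSizesCore
import Cfsg.Agent.Lib.FGStruct.PPowerClass
import Cfsg.Agent.Lib.ClassSize.SylowCentralizer

/-!
# Two sets of primes never joined in a class size

Let `A`, `B` be disjoint sets of primes such that no class size has a prime in `A` and one in `B`,
and a prime `p ∈ A` all whose multiples among the class sizes are `A`-numbers. If the largest
nontrivial pure class is a `B`-class, the nontrivial `A`-classes generate, with the centre, an
abelian normal subgroup `M`, and no class outside `M` has a prime of `A`.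
-/

set_option autoImplicit false
set_option linter.style.haveILetI false
set_option linter.unusedSectionVars false

open scoped commutatorElement

namespace CfsgLib.ClassSize.GraphSplit

open CfsgLib.ClassSize.Three

variable {G : Type*} [Group G]

/-- All primes of the class size of `g` lie in `A`. -/
def PureSize (A : Set ℕ) (g : G) : Prop :=
  ∀ r : ℕ, r.Prime → r ∣ (Cz g).index → r ∈ A

theorem index_Cz_conj (g x : G) : (Cz (g * x * g⁻¹)).index = (Cz x).index := by
  rw [Cz_conj]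
  exact Subgroup.index_map_of_bijective (MulAut.conj g).bijective (Cz x)

theorem pureSize_conj {A : Set ℕ} {g x : G} (h : PureSize A x) : PureSize A (g * x * g⁻¹) := by
  intro r hr hd
  refine h r hr ?_
  rwa [index_Cz_conj] at hd

/-- If `C(x) C(y) = G`, conjugates of `x` times conjugates of `y` form one class. -/
theorem isConj_mul_of_coprime [Finite G] {x y : G} (hxy : (Cz x).index.Coprime (Cz y).index)
    (g h : G) : IsConj (x * y) ((g * x * g⁻¹) * (h * y * h⁻¹)) := by
  have hcop : (Cz x).relIndex (Cz y) = (Cz x).index := by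
    have hle := Subgroup.relIndex_le_of_le_right (H := Cz x) (le_top : Cz y ≤ ⊤)
      (by rw [Subgroup.relIndex_top_right]; exact Subgroup.index_ne_zero_of_finite)
    rw [Subgroup.relIndex_top_right] at hle
    refine le_antisymm hle (Nat.le_of_dvd ?_ ?_)
    · exact Nat.pos_of_ne_zero fun e => by
        have h1 := Subgroup.relIndex_dvd_card (Cz x) (Cz y)
        rw [e, zero_dvd_iff] at h1
        exact Nat.card_pos.ne' h1
    · have h1 : (Cz x).relIndex (Cz y) * (Cz y).index = (Cz x ⊓ Cz y).index := by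
        rw [← Subgroup.inf_relIndex_right, Subgroup.relIndex_mul_index inf_le_right]
      exact hxy.dvd_of_dvd_mul_right (h1.symm ▸ Subgroup.index_dvd_of_le inf_le_left)
  -- `G = C(y) C(x)`
  have hcov : ∀ k : G, ∃ c ∈ Cz y, c⁻¹ * k ∈ Cz x := by
    intro k
    have hbij : Function.Bijective (Subgroup.quotientSubgroupOfEmbeddingOfLE (Cz x)
        (le_top : Cz y ≤ ⊤)) := by
      refine (Subgroup.quotientSubgroupOfEmbeddingOfLE (Cz x) le_top).injective.bijective_of_nat_card_le ?_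
      show (Cz x).relIndex ⊤ ≤ (Cz x).relIndex (Cz y)
      rw [Subgroup.relIndex_top_right, hcop]
    obtain ⟨⟨⟨c, hc⟩⟩, hck⟩ := hbij.2 (QuotientGroup.mk (⟨k, Subgroup.mem_top k⟩ : (⊤ : Subgroup G)))
    exact ⟨c, hc, Subgroup.mem_subgroupOf.1 (QuotientGroup.eq.1 hck)⟩
  obtain ⟨c, hc, hck⟩ := hcov (h⁻¹ * g)
  rw [isConj_iff]
  refine ⟨h * c, ?_⟩
  have hx' : h⁻¹ * g * x * (h⁻¹ * g)⁻¹ = c * x * c⁻¹ := by
    calc h⁻¹ * g * x * (h⁻¹ * g)⁻¹
        = c * ((c⁻¹ * (h⁻¹ * g)) * x * (c⁻¹ * (h⁻¹ * g))⁻¹) * c⁻¹ := by group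
      _ = c * x * c⁻¹ := by rw [(mem_Cz.1 hck).eq, mul_inv_cancel_right]
  have hy' : c * y * c⁻¹ = y := by rw [(mem_Cz.1 hc).eq, mul_inv_cancel_right]
  calc h * c * (x * y) * (h * c)⁻¹ = h * ((c * x * c⁻¹) * (c * y * c⁻¹)) * h⁻¹ := by group
    _ = g * x * g⁻¹ * (h * y * h⁻¹) := by rw [← hx', hy']; group

variable [Finite G]

/-- An element lies in a subgroup containing all its powers of prime power order. -/
theorem mem_of_primary {K : Subgroup G} {x : G}
    (h : ∀ r : ℕ, r.Prime → ∀ a ∈ Subgroup.zpowers x, (∃ k, orderOf a = r ^ k) → a ∈ K) :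
    x ∈ K := by
  have hdvd : Nat.card (Subgroup.zpowers x) ∣
      Nat.card (Subgroup.zpowers x ⊓ K : Subgroup G) := by
    refine (Nat.dvd_iff_prime_pow_dvd_dvd _ _).2 fun r k hr hk => ?_
    haveI : Fact r.Prime := ⟨hr⟩
    obtain ⟨T, hT1, hT2, hT3⟩ := exists_full' r (Subgroup.zpowers x)
    have hTK : T ≤ Subgroup.zpowers x ⊓ K := fun a ha =>
      ⟨hT1 ha, h r hr a (hT1 ha) (orderOf_of_mem hT2 ha)⟩
    refine (pow_dvd_pow r ?_).trans (hT3 ▸ Subgroup.card_dvd_of_le hTK)
    exact (Nat.Prime.pow_dvd_iff_le_factorization hr Nat.card_pos.ne').1 hk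
  exact ((Subgroup.eq_of_le_of_card_ge inf_le_left
    (Nat.le_of_dvd Nat.card_pos hdvd)).ge (Subgroup.mem_zpowers x)).2

theorem index_dvd_of_mem_zpowers {x a : G} (ha : a ∈ Subgroup.zpowers x) :
    (Cz a).index ∣ (Cz x).index := by
  refine Subgroup.index_dvd_of_le fun g hg => ?_
  obtain ⟨i, rfl⟩ := Subgroup.mem_zpowers_iff.1 ha
  exact mem_Cz.2 ((mem_Cz.1 hg).zpow_right i)

theorem index_dvd_mul_coprime {x y : G} (hc : Commute x y)
    (hco : (orderOf x).Coprime (orderOf y)) :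
    (Cz x).index ∣ (Cz (x * y)).index ∧ (Cz y).index ∣ (Cz (x * y)).index := by
  rw [Cz_mul_eq hc hco]
  exact ⟨Subgroup.index_dvd_of_le inf_le_left, Subgroup.index_dvd_of_le inf_le_right⟩

theorem exists_prime_of_noncentral {x : G} (hx : x ∉ Subgroup.center G) :
    ∃ r : ℕ, r.Prime ∧ r ∣ (Cz x).index :=
  Nat.exists_prime_and_dvd fun e => hx ((index_Cz_eq_one_iff x).1 e)

/-- `g` is conjugate into `C(P)` when `p` does not divide its class size. -/
theorem exists_conj_mem_centralizer {p : ℕ} [Fact p.Prime] (P : Sylow p G) {g : G}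
    (hg : ¬ p ∣ (Cz g).index) :
    ∃ c : G, c * g * c⁻¹ ∈ Subgroup.centralizer ((P : Subgroup G) : Set G) := by
  obtain ⟨Q, hQ⟩ := (CfsgLib.ClassSize.exists_sylow_le_centralizer_iff p g).2 hg
  obtain ⟨c, hc⟩ := MulAction.exists_smul_eq G Q P
  refine ⟨c, Subgroup.mem_centralizer_iff.2 ?_⟩
  rw [← hc]
  intro u hu
  obtain ⟨w, hw, rfl⟩ := hu
  show c * w * c⁻¹ * (c * g * c⁻¹) = c * g * c⁻¹ * (c * w * c⁻¹)
  calc c * w * c⁻¹ * (c * g * c⁻¹) = c * (w * g) * c⁻¹ := by group
    _ = c * (g * w) * c⁻¹ := by rw [(mem_Cz.1 (hQ hw)).eq]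
    _ = c * g * c⁻¹ * (c * w * c⁻¹) := by group

/-- The structure theorem. -/
theorem split {A B : Set ℕ} (hdis : ∀ r, r ∈ A → r ∉ B)
    (hAB : ∀ g : G, ∀ r s : ℕ, r.Prime → s.Prime → r ∈ A → s ∈ B → r ∣ (Cz g).index →
      ¬ s ∣ (Cz g).index)
    {p : ℕ} [Fact p.Prime] (hpA : p ∈ A) (hpv : ∃ g : G, p ∣ (Cz g).index)
    (hp : ∀ g : G, p ∣ (Cz g).index → PureSize A g)
    {y : G} (hy : y ∉ Subgroup.center G) (hyB : PureSize B y)
    (hmax : ∀ x : G, x ∉ Subgroup.center G → PureSize A x → (Cz x).index < (Cz y).index) :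
    ∃ M : Subgroup G, M.Normal ∧ Subgroup.center G ≤ M ∧ (∀ a ∈ M, ∀ b ∈ M, Commute a b) ∧
      (∀ a ∈ M, PureSize A a) ∧
      (∀ g : G, g ∉ M → g ∉ Subgroup.center G ∧
        ∀ r : ℕ, r.Prime → r ∈ A → ¬ r ∣ (Cz g).index) ∧
      (∃ t : G, t ∉ M) ∧ (∃ x ∈ M, x ∉ Subgroup.center G) ∧ ∃ H : Subgroup G,
        Subgroup.center G ≤ H ∧ (∀ a ∈ H, a ∈ M → a ∈ Subgroup.center G) ∧
        (∀ a b : G, ⁅a, b⁆ ∈ M) ∧ (∀ g : G, g ∉ M → ∃ c : G, c * g * c⁻¹ ∈ H) ∧
        M ⊔ H = ⊤ ∧
        ∀ h ∈ H, h ∉ Subgroup.center G → ∀ x ∈ M,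
          (∃ c ∈ Subgroup.center G, h * x * h⁻¹ = c * x) → x ∈ Subgroup.center G := by
  classical
  haveI : Fintype G := Fintype.ofFinite G
  have hpp : p.Prime := Fact.out
  set b := (Cz y).index with hb
  have hb0 : 0 < b := Nat.pos_of_ne_zero Subgroup.index_ne_zero_of_finite
  -- the stabiliser of the class of `y` under multiplication
  set Y : Set G := {z : G | IsConj y z} with hY
  have hYc : Y.ncard = b := CfsgLib.ClassSize.ncard_setOf_isConj y
  let T : Subgroup G :=
    { carrier := {k : G | ∀ z, z ∈ Y ↔ k * z ∈ Y}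
      one_mem' := fun z => by simp
      mul_mem' := fun {a b} ha hb z => by rw [hb z, ha (b * z), mul_assoc]
      inv_mem' := fun {a} ha z => by
        have := ha (a⁻¹ * z)
        rw [mul_inv_cancel_left] at this
        exact this.symm }
  have hTmem : ∀ k, k ∈ T ↔ ∀ z, z ∈ Y ↔ k * z ∈ Y := fun k => Iff.rfl
  have hYconj : ∀ (g z : G), g * z * g⁻¹ ∈ Y ↔ z ∈ Y := fun g z =>
    ⟨fun h => h.trans (isConj_iff.2 ⟨g, rfl⟩).symm, fun h => h.trans (isConj_iff.2 ⟨g, rfl⟩)⟩
  haveI hTn : T.Normal := ⟨fun k hk g => (hTmem _).2 fun z => by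
    rw [← hYconj g⁻¹ z, ← hYconj g⁻¹ (g * k * g⁻¹ * z), (hTmem k).1 hk (g⁻¹ * z * g⁻¹⁻¹)]
    rw [show k * (g⁻¹ * z * g⁻¹⁻¹) = g⁻¹ * (g * k * g⁻¹ * z) * g⁻¹⁻¹ by group]⟩
  have hTb : Nat.card T ∣ b := by
    letI : MulAction T Y :=
      { smul := fun k z => ⟨(k : G) * z, ((hTmem _).1 k.2 z).1 z.2⟩
        one_smul := fun z => Subtype.ext (one_mul _)
        mul_smul := fun k l z => Subtype.ext (mul_assoc _ _ _) }
    have hfree : ∀ z : Y, MulAction.stabilizer T z = ⊥ := fun z => by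
      rw [eq_bot_iff]
      intro k hk
      exact Subgroup.mem_bot.2 (Subtype.ext
        (mul_eq_right.1 (congrArg Subtype.val (MulAction.mem_stabilizer_iff.1 hk))))
    rw [← hYc, ← Nat.card_coe_set_eq,
      Nat.card_congr (MulAction.selfEquivSigmaOrbits T Y), Nat.card_sigma]
    refine Finset.dvd_sum fun o _ => ?_
    rw [Nat.card_congr (MulAction.orbitEquivQuotientStabilizer T _),
      ← Subgroup.index_eq_card, hfree, Subgroup.index_bot]
  have hTB : ∀ r : ℕ, r.Prime → r ∣ Nat.card T → r ∈ B := fun r hr hd => hyB r hr (hd.trans hTb)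
  -- the pure `A`-classes
  set U : Set G := {x | x ∉ Subgroup.center G ∧ PureSize A x} with hU
  have hUconj : ∀ g, ∀ x ∈ U, g * x * g⁻¹ ∈ U := fun g x hx =>
    ⟨fun h => hx.1 (conj_mem_center_iff.1 h), pureSize_conj hx.2⟩
  have hUpow : ∀ x ∈ U, ∀ a ∈ Subgroup.zpowers x, a ∉ Subgroup.center G → a ∈ U :=
    fun x hx a ha hac => ⟨hac, fun r hr hd => hx.2 r hr (hd.trans (index_dvd_of_mem_zpowers ha))⟩
  -- the key property
  have hstep : ∀ x ∈ U, ∀ g : G, x⁻¹ * (g * x * g⁻¹) ∈ T := by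
    intro x hx g
    have hlt := hmax x hx.1 hx.2
    have hcop : (Cz x).index.Coprime b := Nat.coprime_of_dvd fun r hr h1 h2 =>
      hdis r (hx.2 r hr h1) (hyB r hr h2)
    set W : Set G := {z : G | IsConj (x * y) z} with hW
    have hWc : W.ncard = (Cz (x * y)).index := CfsgLib.ClassSize.ncard_setOf_isConj _
    have himg : ∀ c : G, (fun z => (c * x * c⁻¹) * z) '' Y ⊆ W := by
      rintro c _ ⟨z, hz, rfl⟩
      obtain ⟨h, rfl⟩ := isConj_iff.1 hz
      exact isConj_mul_of_coprime hcop c h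
    have hcard : ∀ c : G, ((fun z => (c * x * c⁻¹) * z) '' Y).ncard = b := fun c => by
      rw [Set.ncard_image_of_injective _ (mul_right_injective _), hYc]
    have hge : b ≤ (Cz (x * y)).index :=
      hWc ▸ hcard 1 ▸ Set.ncard_le_ncard (himg 1) (Set.toFinite _)
    have hdvd : (Cz (x * y)).index ∣ (Cz x).index * b := by
      refine (Subgroup.index_dvd_of_le
        (fun z hz => mem_Cz.2 ((mem_Cz.1 hz.1).mul_right (mem_Cz.1 hz.2)) :
          Cz x ⊓ Cz y ≤ Cz (x * y))).trans ?_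
      have h1 : (Cz x ⊓ Cz y).index ≤ (Cz x).index * b := Subgroup.index_inf_le
      have h2 : (Cz x).index * b ∣ (Cz x ⊓ Cz y).index := hcop.mul_dvd_of_dvd_of_dvd
        (Subgroup.index_dvd_of_le inf_le_left) (Subgroup.index_dvd_of_le inf_le_right)
      exact dvd_of_eq (le_antisymm h1
        (Nat.le_of_dvd (Nat.pos_of_ne_zero Subgroup.index_ne_zero_of_finite) h2))
    have heq : (Cz (x * y)).index = b := by
      refine le_antisymm (Nat.le_of_dvd hb0 ?_) hge
      by_cases hA' : ∃ r : ℕ, r.Prime ∧ r ∈ A ∧ r ∣ (Cz (x * y)).index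
      · obtain ⟨r, hr, hrA, hrd⟩ := hA'
        exfalso
        have hco : (Cz (x * y)).index.Coprime b := Nat.coprime_of_dvd fun s hs h1 h2 =>
          hAB _ r s hr hs hrA (hyB s hs h2) hrd h1
        have := Nat.le_of_dvd (Nat.pos_of_ne_zero Subgroup.index_ne_zero_of_finite)
          (hco.dvd_of_dvd_mul_right hdvd)
        omega
      · refine Nat.Coprime.dvd_of_dvd_mul_left ?_ hdvd
        exact Nat.coprime_of_dvd fun r hr h1 h2 => hA' ⟨r, hr, hx.2 r hr h2, h1⟩
    have hall : ∀ c : G, (fun z => (c * x * c⁻¹) * z) '' Y = W := fun c =>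
      Set.eq_of_subset_of_ncard_le (himg c) (by rw [hcard c, hWc, heq]) (Set.toFinite _)
    refine (hTmem _).2 fun z => ?_
    have e2' : ∀ c w : G, (c * x * c⁻¹) * w ∈ W ↔ w ∈ Y := fun c w => by
      rw [← hall c]
      exact (mul_right_injective (c * x * c⁻¹)).mem_set_image
    have e1 : ∀ w, (x * w ∈ W ↔ w ∈ Y) := fun w => by simpa using e2' 1 w
    have e2 : ∀ w, ((g * x * g⁻¹) * w ∈ W ↔ w ∈ Y) := e2' g
    rw [← e2 z, ← e1 (x⁻¹ * (g * x * g⁻¹) * z)]
    rw [show x * (x⁻¹ * (g * x * g⁻¹) * z) = g * x * g⁻¹ * z by group]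
  have hTC : ∀ x ∈ U, T ≤ Cz x := by
    intro x hx
    refine Subgroup.relIndex_eq_one.1 (Nat.eq_one_of_dvd_coprimes ?_
      (Subgroup.relIndex_dvd_card (Cz x) T) (k := (Cz x).relIndex T) (?_ : _ ∣ (Cz x).index))
    · exact Nat.coprime_of_dvd fun r hr h1 h2 => hdis r (hx.2 r hr h2) (hTB r hr h1)
    · have h1 : (Cz x).relIndex T = (Cz x).relIndex (T ⊔ Cz x) := by
        rw [← Subgroup.inf_relIndex_right (Cz x) T]
        have h2 := Subgroup.relIndex_mul_relIndex (Cz x ⊓ T) (Cz x) (T ⊔ Cz x) inf_le_left le_sup_right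
        have h3 := Subgroup.relIndex_mul_relIndex (Cz x ⊓ T) T (T ⊔ Cz x) inf_le_right le_sup_left
        rw [← h2, Subgroup.inf_relIndex_left, sup_comm T, Subgroup.relIndex_sup_right,
          mul_comm] at h3
        have h0 : T.relIndex (Cz x) ≠ 0 := fun e => by
          have := Subgroup.relIndex_dvd_card T (Cz x)
          rw [e, zero_dvd_iff] at this
          exact Nat.card_pos.ne' this
        rw [sup_comm T]
        exact Nat.eq_of_mul_eq_mul_left (Nat.pos_of_ne_zero h0) h3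
      rw [h1]
      exact ⟨_, (Subgroup.relIndex_mul_index (le_sup_right : Cz x ≤ T ⊔ Cz x)).symm⟩
  have hpowT : ∀ x ∈ U, x ^ Nat.card T ∈ Subgroup.center G := by
    intro x hx
    rw [Subgroup.mem_center_iff]
    intro g
    set k := x⁻¹ * (g * x * g⁻¹)
    have hk : k ∈ T := hstep x hx g
    have hxk : Commute x k := (mem_Cz.1 (hTC x hx hk)).symm
    have h1 : g * x * g⁻¹ = x * k := by simp only [k]; group
    have h2 : g * x ^ Nat.card T * g⁻¹ = x ^ Nat.card T := by
      rw [← conj_pow, h1, hxk.mul_pow,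
        show k ^ Nat.card T = 1 from congrArg Subtype.val (pow_card_eq_one' (x := (⟨k, hk⟩ : T))),
        mul_one]
    exact mul_inv_eq_iff_eq_mul.1 h2
  -- any two elements of `U` commute
  have hUcomm : ∀ x ∈ U, ∀ x' ∈ U, Commute x x' := by
    have hprim : ∀ x ∈ U, ∀ x' ∈ U, ∀ r r' : ℕ, r.Prime → r'.Prime →
        (∃ k, orderOf x = r ^ k) → (∃ k, orderOf x' = r' ^ k) → Commute x x' := by
      intro x hx x' hx' r r' hr hr' ⟨i, hi⟩ ⟨j, hj⟩
      by_cases hrr : r = r'
      · subst hrr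
        haveI : Fact r.Prime := ⟨hr⟩
        have hrB : r ∈ B := by
          by_contra hrB
          refine hx'.1 ?_
          have h1 := hpowT x' hx'
          obtain ⟨l, hl⟩ := exists_pow_eq_self_of_coprime
            (show (Nat.card T).Coprime (orderOf x') from hj ▸
              (Nat.Coprime.pow_right j ((hr.coprime_iff_not_dvd.2 fun h => hrB (hTB r hr h)).symm)))
          rw [← hl]
          exact pow_mem h1 l
        obtain ⟨R, hR⟩ := (CfsgLib.ClassSize.exists_sylow_le_centralizer_iff r x).2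
          (fun h => hdis r (hx.2 r hr h) hrB)
        obtain ⟨R', hR'⟩ := (isPGroup_zpowers hj).exists_le_sylow
        obtain ⟨g, hg⟩ := MulAction.exists_smul_eq G R' R
        have h1 : g * x' * g⁻¹ ∈ (R : Subgroup G) := by
          rw [← hg]
          exact Subgroup.smul_mem_pointwise_smul x' (MulAut.conj g) _ (hR' (Subgroup.mem_zpowers x'))
        have hk := hstep x' hx' g
        have h2 : Commute (g * x' * g⁻¹) x := mem_Cz.1 (hR h1)
        have h3 : Commute (x'⁻¹ * (g * x' * g⁻¹)) x := mem_Cz.1 (hTC x hx hk)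
        have h4 := h2.mul_left h3.inv_left
        simpa [mul_assoc] using h4.symm
      · set k := x⁻¹ * (x' * x * x'⁻¹)
        have hk : k ∈ T := hstep x hx x'
        have hxk : Commute x k := (mem_Cz.1 (hTC x hx hk)).symm
        have hx'k : Commute x' k := (mem_Cz.1 (hTC x' hx' hk)).symm
        have h1 : x' * x * x'⁻¹ = x * k := by simp only [k]; group
        have hpow : ∀ l : ℕ, x' ^ l * x * (x' ^ l)⁻¹ = x * k ^ l := by
          intro l
          induction l with
          | zero => simp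
          | succ l ih =>
            calc x' ^ (l + 1) * x * (x' ^ (l + 1))⁻¹
                = x' * (x' ^ l * x * (x' ^ l)⁻¹) * x'⁻¹ := by rw [pow_succ']; group
              _ = (x' * x * x'⁻¹) * (x' * k ^ l * x'⁻¹) := by rw [ih]; group
              _ = x * k ^ (l + 1) := by
                rw [h1, (hx'k.pow_right l).eq, mul_inv_cancel_right, mul_assoc, ← pow_succ']
        have hk1 : k ^ orderOf x' = 1 := by
          have := hpow (orderOf x')
          rw [pow_orderOf_eq_one, one_mul, inv_one, mul_one] at this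
          exact mul_eq_left.1 this.symm
        have hk2 : k ^ orderOf x = 1 := by
          have h3 : (x' * x * x'⁻¹) ^ orderOf x = 1 := by
            rw [conj_pow, pow_orderOf_eq_one]; group
          rwa [h1, hxk.mul_pow, pow_orderOf_eq_one, one_mul] at h3
        have hk0 : k = 1 := by
          rw [← orderOf_eq_one_iff]
          refine Nat.eq_one_of_dvd_coprimes ?_ (orderOf_dvd_of_pow_eq_one hk2)
            (orderOf_dvd_of_pow_eq_one hk1)
          rw [hi, hj]
          exact ((Nat.coprime_primes hr hr').2 hrr).pow _ _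
        rw [hk0, mul_one] at h1
        exact (mul_inv_eq_iff_eq_mul.1 h1).symm
    intro x hx x' hx'
    refine (mem_Cz.1 (mem_of_primary (K := Cz x') fun r hr a ha hak => ?_))
    by_cases hac : a ∈ Subgroup.center G
    · exact center_le_Cz x' hac
    refine mem_Cz.2 (Commute.symm (mem_Cz.1 (mem_of_primary (K := Cz a) fun r' hr' a' ha' hak' => ?_)))
    by_cases hac' : a' ∈ Subgroup.center G
    · exact center_le_Cz a hac'
    exact mem_Cz.2 (hprim a (hUpow x hx a ha hac) a' (hUpow x' hx' a' ha' hac') r r' hr hr' hak hak').symm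
  -- the subgroup `M`
  set S0 : Set G := U ∪ (Subgroup.center G : Set G) with hS0
  set M := Subgroup.closure S0 with hM
  have hMZ : Subgroup.center G ≤ M := fun z hz => Subgroup.subset_closure (Or.inr hz)
  have hUM : ∀ x ∈ U, x ∈ M := fun x hx => Subgroup.subset_closure (Or.inl hx)
  have hgen : ∀ g : G, (∀ x ∈ U, Commute g x) → ∀ a ∈ M, Commute g a := by
    intro g hg a ha
    have hle : M ≤ Cz g := (Subgroup.closure_le _).2 fun z hz => mem_Cz.2 (hz.elim
      (fun hz => (hg z hz).symm) fun hz => (Subgroup.mem_center_iff.1 hz g).symm)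
    exact (mem_Cz.1 (hle ha)).symm
  have hMcomm : ∀ a ∈ M, ∀ b ∈ M, Commute a b := fun a ha =>
    hgen a fun x hx => (hgen x (fun x' hx' => hUcomm x hx x' hx') a ha).symm
  haveI hMn : M.Normal := ⟨fun a ha g => by
    induction ha using Subgroup.closure_induction with
    | mem z hz =>
      exact hz.elim (fun hz => hUM _ (hUconj g z hz))
        fun hz => hMZ ((inferInstance : (Subgroup.center G).Normal).conj_mem z hz g)
    | one => rw [mul_one, mul_inv_cancel]; exact one_mem _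
    | mul u v _ _ hu hv =>
      rw [← conj_mul]
      exact mul_mem hu hv
    | inv u _ hu => rw [← conj_inv]; exact inv_mem hu⟩
  have hMpow : ∀ a ∈ M, a ^ Nat.card T ∈ Subgroup.center G := by
    intro a ha
    induction ha using Subgroup.closure_induction with
    | mem z hz => exact hz.elim (hpowT z) fun hz => pow_mem hz _
    | one => rw [one_pow]; exact one_mem _
    | mul u v hu hv ihu ihv =>
      rw [(hMcomm u hu v hv).mul_pow]; exact mul_mem ihu ihv
    | inv u _ ihu => rw [inv_pow]; exact inv_mem ihu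
  have hMprim : ∀ a ∈ M, ∀ r : ℕ, r.Prime → (∃ k, orderOf a = r ^ k) → r ∉ B →
      a ∈ Subgroup.center G := by
    intro a ha r hr ⟨k, hk⟩ hrB
    obtain ⟨l, hl⟩ := exists_pow_eq_self_of_coprime
      (show (Nat.card T).Coprime (orderOf a) from hk ▸
        (Nat.Coprime.pow_right k ((hr.coprime_iff_not_dvd.2 fun h => hrB (hTB r hr h)).symm)))
    rw [← hl]
    exact pow_mem (hMpow a ha) l
  have hout : ∀ g : G, g ∉ M → g ∉ Subgroup.center G ∧ ¬ p ∣ (Cz g).index := fun g hg =>
    ⟨fun h => hg (hMZ h), fun h => hg (hUM g ⟨fun hc => hg (hMZ hc), hp g h⟩)⟩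
  -- a Sylow subgroup for `p`
  obtain ⟨P⟩ : Nonempty (Sylow p G) := inferInstance
  set H := Subgroup.centralizer ((P : Subgroup G) : Set G) with hH
  have hjordan : ∀ (K : Subgroup G), (∀ g : G, g ∉ M → ∃ c : G, c * g * c⁻¹ ∈ K) → M ⊔ K = ⊤ :=
    fun K hK => CfsgLib.FGStruct.PPowerClass.eq_top_of_conj_cover _ fun g => by
      by_cases hg : g ∈ M
      · exact ⟨1, by simpa using Subgroup.mem_sup_left hg⟩
      · obtain ⟨c, hc⟩ := hK g hg
        exact ⟨c⁻¹, by rw [inv_inv]; exact Subgroup.mem_sup_right hc⟩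
  have hconjH : ∀ g : G, g ∉ M → ∃ c : G, c * g * c⁻¹ ∈ H := fun g hg =>
    exists_conj_mem_centralizer P (hout g hg).2
  have htop : M ⊔ H = ⊤ := hjordan H hconjH
  have hdecomp : ∀ g : G, ∃ a ∈ M, ∃ h ∈ H, a * h = g := fun g =>
    Subgroup.mem_sup_of_normal_left.1 (htop.ge (Subgroup.mem_top g))
  have hdecomp' : ∀ g : G, ∃ h ∈ H, ∃ a ∈ M, h * a = g := fun g =>
    Subgroup.mem_sup_of_normal_right.1 ((sup_comm M H ▸ htop).ge (Subgroup.mem_top g))
  have hPp := P.isPGroup'
  have hpB : p ∉ B := hdis p hpA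
  have hPM : ∀ u ∈ (P : Subgroup G), u ∈ M → u ∈ Subgroup.center G := fun u hu huM =>
    hMprim u huM p hpp (orderOf_of_mem hPp hu) hpB
  have hPab : ∀ t ∈ (P : Subgroup G), ∀ u ∈ (P : Subgroup G), Commute t u := by
    intro t ht u hu
    by_cases htc : t ∈ Subgroup.center G
    · exact (Subgroup.mem_center_iff.1 htc u).symm
    have htM : t ∉ M := fun h => htc (hPM t ht h)
    -- `⁅t, u⁆` is central
    obtain ⟨a, ha, h, hh, rfl⟩ := hdecomp t
    have hhu : Commute h u := (Subgroup.mem_centralizer_iff.1 hh u hu : Commute u h).symm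
    set z := a * h * u * (a * h)⁻¹ * u⁻¹ with hz
    have hzM : z ∈ M := by
      have e : z = a * (u * a⁻¹ * u⁻¹) := by
        rw [hz]
        calc a * h * u * (a * h)⁻¹ * u⁻¹ = a * (h * u * h⁻¹) * a⁻¹ * u⁻¹ := by group
          _ = a * (u * a⁻¹ * u⁻¹) := by rw [hhu.eq, mul_inv_cancel_right]; group
      rw [e]
      exact M.mul_mem ha (hMn.conj_mem _ (M.inv_mem ha) u)
    have hzP : z ∈ (P : Subgroup G) :=
      mul_mem (mul_mem (mul_mem ht hu) (inv_mem ht)) (inv_mem hu)
    have hzc := hPM z hzP hzM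
    obtain ⟨c, hc⟩ := hconjH (a * h) htM
    obtain ⟨a', ha', h', hh', hac⟩ := hdecomp c⁻¹
    have hh'u : Commute h' u := (Subgroup.mem_centralizer_iff.1 hh' u hu : Commute u h').symm
    have hcu : Commute (a * h) (a' * u * a'⁻¹) := by
      have h1 := (show Commute u _ from Subgroup.mem_centralizer_iff.1 hc u hu).symm.map
        (MulAut.conj c⁻¹).toMonoidHom
      have h2 : Commute (a * h) (c⁻¹ * u * c) := by simpa [mul_assoc] using h1
      have h3 : c⁻¹ * u * c = a' * u * a'⁻¹ := by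
        calc c⁻¹ * u * c = a' * (h' * u * h'⁻¹) * a'⁻¹ := by
              rw [show c = (a' * h')⁻¹ by rw [hac, inv_inv]]; group
          _ = a' * u * a'⁻¹ := by rw [hh'u.eq, mul_inv_cancel_right]
      rwa [h3] at h2
    set k := a' * u * a'⁻¹ * u⁻¹ with hk
    have hkM : k ∈ M := by
      rw [hk, show a' * u * a'⁻¹ * u⁻¹ = a' * (u * a'⁻¹ * u⁻¹) by group]
      exact M.mul_mem ha' (hMn.conj_mem _ (M.inv_mem ha') u)
    set t := a * h
    have h4 : t * k * t⁻¹ = k * z⁻¹ := by
      have h5 : t * (k * u) * t⁻¹ = k * u := by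
        rw [show k * u = a' * u * a'⁻¹ by rw [hk]; group, hcu.eq, mul_inv_cancel_right]
      calc t * k * t⁻¹ = t * (k * u) * t⁻¹ * (t * u * t⁻¹)⁻¹ := by group
        _ = k * u * (z * u)⁻¹ := by rw [h5, hz]; group
        _ = k * z⁻¹ := by group
    have hzT : z ^ Nat.card T = 1 := by
      have h6 : (t * k * t⁻¹) ^ Nat.card T = k ^ Nat.card T := by
        rw [conj_pow, Subgroup.mem_center_iff.1 (hMpow k hkM) t, mul_inv_cancel_right]
      rw [h4, (show Commute k z⁻¹ from Subgroup.mem_center_iff.1 (inv_mem hzc) k).mul_pow,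
        mul_eq_left, inv_pow, inv_eq_one] at h6
      exact h6
    obtain ⟨j, hj⟩ := orderOf_of_mem hPp hzP
    have hz1 : z = 1 := orderOf_eq_one_iff.1 (Nat.eq_one_of_dvd_coprimes
      ((hpp.coprime_iff_not_dvd.2 fun hd => hpB (hTB p hpp hd)).pow_left j)
      (dvd_of_eq hj) (orderOf_dvd_of_pow_eq_one hzT))
    rw [hz, mul_inv_eq_one, mul_inv_eq_iff_eq_mul] at hz1
    exact hz1
  have hPH : (P : Subgroup G) ≤ H := fun t ht =>
    Subgroup.mem_centralizer_iff.2 fun u hu => (hPab u hu t ht).eq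
  -- noncentral elements of `P` have pure `B` class size
  have hPB : ∀ t ∈ (P : Subgroup G), t ∉ Subgroup.center G → PureSize B t := by
    intro t ht _ r hr hd
    haveI : Fact r.Prime := ⟨hr⟩
    have hHt : H ≤ Cz t := fun h hh =>
      mem_Cz.2 (Subgroup.mem_centralizer_iff.1 hh t ht : Commute t h).symm
    have hidx : (Cz t).index = (Cz t).relIndex M := by
      have h1 : Cz t ⊔ M = ⊤ := eq_top_iff.2 (htop ▸ sup_le le_sup_right (hHt.trans le_sup_left))
      have h2 := Subgroup.relIndex_mul_relIndex (Cz t ⊓ M) (Cz t) (Cz t ⊔ M) inf_le_left le_sup_left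
      have h3 := Subgroup.relIndex_mul_relIndex (Cz t ⊓ M) M (Cz t ⊔ M) inf_le_right le_sup_right
      rw [← h2, Subgroup.inf_relIndex_right, Subgroup.inf_relIndex_left,
        Subgroup.relIndex_sup_right, mul_comm, h1, Subgroup.relIndex_top_right] at h3
      have h0 : M.relIndex (Cz t) ≠ 0 := fun e => by
        have := Subgroup.relIndex_dvd_card M (Cz t)
        rw [e, zero_dvd_iff] at this
        exact Nat.card_pos.ne' this
      exact (Nat.eq_of_mul_eq_mul_left (Nat.pos_of_ne_zero h0) h3).symm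
    have h4 : r ∣ (Subgroup.center G).relIndex M := by
      refine (hidx ▸ hd).trans ?_
      exact Subgroup.relIndex_dvd_of_le_left M (center_le_Cz t)
    obtain ⟨q, hq⟩ := exists_prime_orderOf_dvd_card'
      (G := M ⧸ (Subgroup.center G).subgroupOf M) r h4
    obtain ⟨a, rfl⟩ := QuotientGroup.mk'_surjective _ q
    refine hTB r hr (hq ▸ orderOf_dvd_of_pow_eq_one ?_)
    rw [← map_pow]
    exact (QuotientGroup.eq_one_iff _).2 (Subgroup.mem_subgroupOf.2 (hMpow a a.2))
  obtain ⟨t0, ht0P, ht0c⟩ : ∃ t ∈ (P : Subgroup G), t ∉ Subgroup.center G := by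
    by_contra hno
    push Not at hno
    obtain ⟨g, hg⟩ := hpv
    refine (CfsgLib.ClassSize.exists_sylow_le_centralizer_iff p g).1 ⟨P, fun u hu => ?_⟩ hg
    exact center_le_Cz g (hno u hu)
  have ht0B := hPB t0 ht0P ht0c
  obtain ⟨kt, hkt⟩ := orderOf_of_mem hPp ht0P
  -- pure `A` elements commute with no such element
  have hnoc : ∀ x ∈ U, x ∉ H := by
    intro x hx hxH
    obtain ⟨r, hr, a, ha, hac, i, hi⟩ := exists_primary_noncentral hx.1
    have haU := hUpow x hx a ha hac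
    have hat : Commute a t0 := by
      obtain ⟨l, rfl⟩ := Subgroup.mem_zpowers_iff.1 ha
      exact (show Commute t0 x from Subgroup.mem_centralizer_iff.1 hxH t0 ht0P).symm.zpow_left l
    have hrp : r ≠ p := fun e => hac (hMprim a (hUM a haU) r hr ⟨i, hi⟩ (e ▸ hpB))
    obtain ⟨h1, h2⟩ := index_dvd_mul_coprime hat
      (by rw [hi, hkt]; exact ((Nat.coprime_primes hr hpp).2 hrp).pow _ _)
    obtain ⟨r1, hr1, hr1d⟩ := exists_prime_of_noncentral hac
    obtain ⟨r2, hr2, hr2d⟩ := exists_prime_of_noncentral ht0c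
    exact hAB _ r1 r2 hr1 hr2 (haU.2 r1 hr1 hr1d) (ht0B r2 hr2 hr2d) (hr1d.trans h1) (hr2d.trans h2)
  -- outside `M` no class size has a prime of `A`
  have hnoA : ∀ g : G, g ∉ M → ∀ r : ℕ, r.Prime → r ∈ A → ¬ r ∣ (Cz g).index := by
    intro g hgM r hr hrA hd
    obtain ⟨c, hc⟩ := hconjH g hgM
    set g' := c * g * c⁻¹
    have hd' : r ∣ (Cz g').index := by
      simp only [g']; rwa [index_Cz_conj]
    obtain ⟨a, b, ha, hb, hab, hprod, ⟨i, hi⟩, hbp⟩ := exists_split p g'
    have haH : a ∈ H := Subgroup.zpowers_le.2 hc ha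
    have haP : a ∈ (P : Subgroup G) := le_full_of_normal hPp le_top
      (by rw [Sylow.card_eq_multiplicity, Subgroup.card_top])
      ((Subgroup.zpowers_le.2 haH).trans (Subgroup.centralizer_le_normalizer _))
      (isPGroup_zpowers hi) le_top (Subgroup.mem_zpowers a)
    by_cases hac : a ∈ Subgroup.center G
    · have hbH : b ∈ H := Subgroup.zpowers_le.2 hc hb
      have hg'b : (Cz g').index ∣ (Cz b).index := Subgroup.index_dvd_of_le fun z hz => mem_Cz.2 (by
        rw [← hprod]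
        exact (show Commute z a from Subgroup.mem_center_iff.1 hac z).mul_right (mem_Cz.1 hz))
      have hbt : Commute b t0 := (Subgroup.mem_centralizer_iff.1 hbH t0 ht0P : Commute t0 b).symm
      obtain ⟨h1, h2⟩ := index_dvd_mul_coprime hbt (hkt ▸ hbp.pow_right kt)
      obtain ⟨r2, hr2, hr2d⟩ := exists_prime_of_noncentral ht0c
      exact hAB _ r r2 hr hr2 hrA (ht0B r2 hr2 hr2d) ((hd'.trans hg'b).trans h1) (hr2d.trans h2)
    · obtain ⟨r2, hr2, hr2d⟩ := exists_prime_of_noncentral hac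
      exact hAB g' r r2 hr hr2 hrA (hPB a haP hac r2 hr2 hr2d) hd'
        (hr2d.trans (index_dvd_of_mem_zpowers ha))
  -- elements of `A`-prime power order are central modulo `M`
  set J := (Subgroup.center (G ⧸ M)).comap (QuotientGroup.mk' M) with hJ
  have hJmem : ∀ u, u ∈ J ↔ ∀ g : G, ⁅u, g⁆ ∈ M := by
    intro u
    rw [hJ, Subgroup.mem_comap, Subgroup.mem_center_iff]
    constructor
    · intro h g
      rw [← QuotientGroup.eq_one_iff, ← QuotientGroup.mk'_apply, map_commutatorElement,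
        commutatorElement_eq_one_iff_mul_comm]
      exact (h _).symm
    · intro h q
      obtain ⟨g, rfl⟩ := QuotientGroup.mk'_surjective _ q
      have h1 := (QuotientGroup.eq_one_iff _).2 (h g)
      rw [← QuotientGroup.mk'_apply, map_commutatorElement,
        commutatorElement_eq_one_iff_mul_comm] at h1
      exact h1.symm
  have hMJ : M ≤ J := fun a ha => (hJmem a).2 fun g => by
    rw [commutatorElement_def, show a * g * a⁻¹ * g⁻¹ = a * (g * a⁻¹ * g⁻¹) by group]
    exact M.mul_mem ha (hMn.conj_mem _ (M.inv_mem ha) g)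
  have hJA : ∀ r : ℕ, r.Prime → r ∈ A → ¬ r ∣ J.index := by
    intro r hr hrA
    haveI : Fact r.Prime := ⟨hr⟩
    obtain ⟨Q⟩ : Nonempty (Sylow r G) := inferInstance
    have htopQ := hjordan (Subgroup.centralizer ((Q : Subgroup G) : Set G)) fun g hg =>
      exists_conj_mem_centralizer Q (hnoA g hg r hr hrA)
    have hQJ : (Q : Subgroup G) ≤ J := fun u hu => (hJmem u).2 fun g => by
      obtain ⟨a, ha, h, hh, rfl⟩ := Subgroup.mem_sup_of_normal_left.1 (htopQ.ge (Subgroup.mem_top g))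
      have hhu : Commute u h := Subgroup.mem_centralizer_iff.1 hh u hu
      rw [commutatorElement_def]
      have : u * (a * h) * u⁻¹ * (a * h)⁻¹ = (u * a * u⁻¹) * a⁻¹ := by
        calc u * (a * h) * u⁻¹ * (a * h)⁻¹ = (u * a * u⁻¹) * (u * h * u⁻¹) * h⁻¹ * a⁻¹ := by group
          _ = (u * a * u⁻¹) * a⁻¹ := by rw [hhu.eq, mul_inv_cancel_right, mul_inv_cancel_right]
      rw [this]
      exact M.mul_mem (hMn.conj_mem a ha u) (M.inv_mem ha)
    exact fun h => Q.not_dvd_index (h.trans (Subgroup.index_dvd_of_le hQJ))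
  have hA'cent : ∀ g : G, (∀ r : ℕ, r.Prime → r ∈ A → ¬ r ∣ orderOf g) → ∀ a ∈ M, Commute g a := by
    intro g hg
    refine hgen g fun x hx => ?_
    set K := Cz x
    have hMK : M ≤ K := fun a ha => mem_Cz.2 (hMcomm a ha x (hUM x hx))
    have htopK : K ⊔ J = ⊤ := by
      rw [← Subgroup.index_eq_one]
      by_contra hne
      obtain ⟨r, hr, hrd⟩ := Nat.exists_prime_and_dvd hne
      exact hJA r hr (hx.2 r hr (hrd.trans (Subgroup.index_dvd_of_le le_sup_left)))
        (hrd.trans (Subgroup.index_dvd_of_le le_sup_right))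
    have hKn : K.Normal := by
      rw [← Subgroup.normalizer_eq_top_iff, eq_top_iff, ← htopK]
      refine sup_le Subgroup.le_normalizer fun j hj => ?_
      rw [Subgroup.mem_normalizer_iff]
      have key : ∀ u ∈ J, ∀ z ∈ K, u * z * u⁻¹ ∈ K := fun u hu z hz => by
        have h1 := K.mul_mem (hMK ((hJmem u).1 hu z)) hz
        rwa [commutatorElement_def, inv_mul_cancel_right] at h1
      refine fun z => ⟨key j hj z, fun hz => ?_⟩
      simpa [mul_assoc] using key j⁻¹ (inv_mem hj) _ hz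
    haveI := hKn
    obtain ⟨l, hl⟩ := exists_pow_eq_self_of_coprime (show K.index.Coprime (orderOf g) from
      Nat.coprime_of_dvd fun r hr h1 h2 => hg r hr (hx.2 r hr h1) h2)
    rw [← hl]
    exact (mem_Cz.1 (K.pow_mem (K.pow_index_mem g) l))
  obtain ⟨x0, hx0⟩ : ∃ x, x ∈ U := by
    obtain ⟨g, hg⟩ := hpv
    exact ⟨g, fun h => by rw [(index_Cz_eq_one_iff g).2 h, Nat.dvd_one] at hg; exact hpp.ne_one hg,
      hp g hg⟩
  have hA'M : ∀ g : G, (∀ r : ℕ, r.Prime → r ∈ A → ¬ r ∣ orderOf g) → g ∈ M := by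
    intro g hg
    by_contra hgM
    obtain ⟨c, hc⟩ := hconjH g hgM
    set g' := c * g * c⁻¹
    have hg'M : g' ∉ M := fun h => hgM (by
      have := hMn.conj_mem _ h c⁻¹
      simpa [g', mul_assoc] using this)
    have hcent := hA'cent g' fun r hr hrA => by
      simp only [g', orderOf_conj]; exact hg r hr hrA
    have hxgM : x0 * g' ∉ M := fun h => hg'M (by
      have := M.mul_mem (M.inv_mem (hUM x0 hx0)) h
      rwa [inv_mul_cancel_left] at this)
    obtain ⟨d, hd⟩ := hconjH _ hxgM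
    obtain ⟨h', hh', a, ha, rfl⟩ := hdecomp' d
    have h1 : a * (x0 * g') * a⁻¹ = x0 * g' := by
      rw [((hMcomm a ha x0 (hUM x0 hx0)).mul_right (hcent a ha).symm).eq, mul_inv_cancel_right]
    have h2 : h' * (x0 * g') * h'⁻¹ ∈ H := by
      rwa [show h' * a * (x0 * g') * (h' * a)⁻¹ = h' * (a * (x0 * g') * a⁻¹) * h'⁻¹ by group,
        h1] at hd
    have h3 : x0 * g' ∈ H := by
      have := H.mul_mem (H.mul_mem (H.inv_mem hh') h2) hh'
      simpa [mul_assoc] using this
    refine hnoc x0 hx0 ?_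
    have := H.mul_mem h3 (H.inv_mem hc)
    rwa [mul_inv_cancel_right] at this
  have hMA : ∀ a ∈ M, PureSize A a := by
    intro a ha r hr hd
    by_contra hrA
    haveI : Fact r.Prime := ⟨hr⟩
    obtain ⟨R⟩ : Nonempty (Sylow r G) := inferInstance
    refine (CfsgLib.ClassSize.exists_sylow_le_centralizer_iff r a).1 ⟨R, fun u hu => ?_⟩ hd
    refine mem_Cz.2 (hMcomm u (hA'M u fun s hs hsA hsd => ?_) a ha)
    obtain ⟨j, hj⟩ := orderOf_of_mem R.isPGroup' hu
    rw [hj] at hsd
    exact hrA ((Nat.prime_dvd_prime_iff_eq hs hr).1 (hs.dvd_of_dvd_pow hsd) ▸ hsA)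
  have hMH : ∀ a ∈ H, a ∈ M → a ∈ Subgroup.center G := fun a haH haM => by
    by_contra hac
    exact hnoc a ⟨hac, hMA a haM⟩ haH
  have hcomm : ∀ a b : G, ⁅a, b⁆ ∈ M := by
    have hJtop : J = ⊤ := by
      rw [← Subgroup.index_eq_one]
      by_contra hne
      obtain ⟨r, hr, hrd⟩ := Nat.exists_prime_and_dvd hne
      by_cases hrA : r ∈ A
      · exact hJA r hr hrA hrd
      · haveI : Fact r.Prime := ⟨hr⟩
        obtain ⟨R⟩ : Nonempty (Sylow r G) := inferInstance
        refine R.not_dvd_index (hrd.trans (Subgroup.index_dvd_of_le fun u hu => hMJ ?_))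
        refine hA'M u fun s hs hsA hsd => ?_
        obtain ⟨j, hj⟩ := orderOf_of_mem R.isPGroup' hu
        rw [hj] at hsd
        exact hrA ((Nat.prime_dvd_prime_iff_eq hs hr).1 (hs.dvd_of_dvd_pow hsd) ▸ hsA)
    exact fun a => (hJmem a).1 (hJtop ▸ Subgroup.mem_top a)
  refine ⟨M, hMn, hMZ, hMcomm, hMA, fun g hg => ⟨(hout g hg).1, hnoA g hg⟩,
    ⟨t0, fun h => ht0c (hPM t0 ht0P h)⟩, ⟨x0, hUM x0 hx0, hx0.1⟩, H,
    fun z hz => Subgroup.mem_centralizer_iff.2 fun u _ => Subgroup.mem_center_iff.1 hz u,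
    hMH, hcomm, hconjH, htop, fun h hhH hhc x hxM hhx => ?_⟩
  by_contra hxc
  have hhM : h ∉ M := fun h' => hhc (hMH h hhH h')
  obtain ⟨r, hr, h1, hh1, hh1M, i, hi⟩ : ∃ r : ℕ, r.Prime ∧ ∃ h1 ∈ Subgroup.zpowers h, h1 ∉ M ∧
      ∃ k, orderOf h1 = r ^ k := by
    by_contra hno
    exact hhM (mem_of_primary fun r hr a ha hak => by
      by_contra haM
      exact hno ⟨r, hr, a, ha, haM, hak⟩)
  have hrA : r ∈ A := by
    by_contra hrA
    refine hh1M (hA'M h1 fun s hs hsA hsd => ?_)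
    rw [hi] at hsd
    exact hrA ((Nat.prime_dvd_prime_iff_eq hs hr).1 (hs.dvd_of_dvd_pow hsd) ▸ hsA)
  obtain ⟨r', hr', x1, hx1, hx1c, j, hj⟩ := exists_primary_noncentral hxc
  have hx1M : x1 ∈ M := Subgroup.zpowers_le.2 hxM hx1
  have hne : r' ≠ r := fun e => hx1c (hMprim x1 hx1M r' hr' ⟨j, hj⟩ (e ▸ hdis r hrA))
  have hc1 : Commute x1 h1 := by
    obtain ⟨c, hc, hcx⟩ := hhx
    obtain ⟨l, rfl⟩ := Submonoid.mem_powers_iff _ _ |>.1 (mem_powers_iff_mem_zpowers.2 hx1)
    obtain ⟨l', rfl⟩ := Submonoid.mem_powers_iff _ _ |>.1 (mem_powers_iff_mem_zpowers.2 hh1)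
    have e1 : h ^ l' * x * (h ^ l')⁻¹ = c ^ l' * x := conj_pow_eq hc hcx l'
    have e2 := conj_pow_left (pow_mem hc l') e1 l
    have e3 := conj_pow_left (pow_mem hc l') e1 (l * r' ^ j)
    rw [pow_mul x, ← hj, pow_orderOf_eq_one, mul_one, mul_one, mul_inv_cancel, hj,
      pow_mul (c ^ l')] at e3
    exact (commute_of_central_commutator (pow_mem (pow_mem hc l') l) e2 (a := r ^ i) (b := r' ^ j)
      (by rw [← hi, pow_orderOf_eq_one]; exact Commute.one_left _) e3.symm
      (((Nat.coprime_primes hr hr').2 hne.symm).pow _ _)).symm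
  obtain ⟨e1, -⟩ := index_dvd_mul_coprime hc1
    (by rw [hi, hj]; exact ((Nat.coprime_primes hr' hr).2 hne).pow _ _)
  obtain ⟨r1, hr1, hr1d⟩ := exists_prime_of_noncentral hx1c
  refine hnoA (x1 * h1) (fun h' => hh1M ?_) r1 hr1 (hMA x1 hx1M r1 hr1 hr1d) (hr1d.trans e1)
  have := M.mul_mem (M.inv_mem hx1M) h'
  rwa [inv_mul_cancel_left] at this

/-- Either the largest pure class is a `B`-class or it is an `A`-class. -/
theorem exists_max {A B : Set ℕ} (hdis : ∀ r, r ∈ A → r ∉ B) {a b : G}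
    (ha : a ∉ Subgroup.center G) (haA : PureSize A a) (hb : b ∉ Subgroup.center G)
    (hbB : PureSize B b) :
    (∃ y : G, y ∉ Subgroup.center G ∧ PureSize B y ∧
      ∀ x : G, x ∉ Subgroup.center G → PureSize A x → (Cz x).index < (Cz y).index) ∨
    (∃ y : G, y ∉ Subgroup.center G ∧ PureSize A y ∧
      ∀ x : G, x ∉ Subgroup.center G → PureSize B x → (Cz x).index < (Cz y).index) := by
  classical
  haveI : Fintype G := Fintype.ofFinite G
  obtain ⟨ya, hya, hamax⟩ := (Finset.univ.filter fun x : G =>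
    x ∉ Subgroup.center G ∧ PureSize A x).exists_max_image (fun x => (Cz x).index)
      ⟨a, by simp [ha, haA]⟩
  obtain ⟨yb, hyb, hbmax⟩ := (Finset.univ.filter fun x : G =>
    x ∉ Subgroup.center G ∧ PureSize B x).exists_max_image (fun x => (Cz x).index)
      ⟨b, by simp [hb, hbB]⟩
  simp only [Finset.mem_filter, Finset.mem_univ, true_and] at hya hyb hamax hbmax
  have hne : (Cz ya).index ≠ (Cz yb).index := by
    intro e
    obtain ⟨r, hr, hd⟩ := exists_prime_of_noncentral hya.1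
    exact hdis r (hya.2 r hr hd) (hyb.2 r hr (e ▸ hd))
  rcases lt_or_gt_of_ne hne with h | h
  · exact Or.inl ⟨yb, hyb.1, hyb.2, fun x hx hxA => lt_of_le_of_lt (hamax x ⟨hx, hxA⟩) h⟩
  · exact Or.inr ⟨ya, hya.1, hya.2, fun x hx hxB => lt_of_le_of_lt (hbmax x ⟨hx, hxB⟩) h⟩

end CfsgLib.ClassSize.GraphSplit
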