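import Mathlib
import Cfsg.Agent.Lib.Fusion.FrobeniusCriterion
import Cfsg.Agent.Lib.PNilpotent.Basic
import Cfsg.Agent.Lib.InvChar.Basic
import Cfsg.Agent.Lib.Frobenius.Fpf

/-!
# Groups with class sizes `1`, `m`, `m * n` (`m`, `n` coprime): basic tools

Centralisers of commuting elements of coprime order, orders of `p`-subgroups of centralisers, and
a few facts on `p`-groups acting modulo the centre.
-/

set_option autoImplicit false
set_option linter.style.haveILetI false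
set_option linter.unusedSectionVars false

open scoped commutatorElement

namespace CfsgLib.ClassSize.Three

variable {G : Type*} [Group G]

/-- The centraliser of an element. -/
abbrev Cz (x : G) : Subgroup G := Subgroup.centralizer ({x} : Set G)

theorem mem_Cz {x y : G} : y ∈ Cz x ↔ Commute y x :=
  Subgroup.mem_centralizer_singleton_iff

theorem mem_Cz_self (x : G) : x ∈ Cz x := mem_Cz.2 (Commute.refl x)

theorem center_le_Cz (x : G) : Subgroup.center G ≤ Cz x := fun _ hz =>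
  mem_Cz.2 (Subgroup.mem_center_iff.1 hz x).symm

theorem index_Cz_eq_one_iff (x : G) : (Cz x).index = 1 ↔ x ∈ Subgroup.center G := by
  simp [Subgroup.mem_center_iff, Subgroup.eq_top_iff', Subgroup.mem_centralizer_singleton_iff]

theorem Cz_conj (g x : G) : Cz (g * x * g⁻¹) = (Cz x).map (MulAut.conj g).toMonoidHom := by
  ext y
  rw [Subgroup.mem_map_equiv, mem_Cz, mem_Cz, MulAut.conj_symm_apply]
  constructor
  · intro h
    have := h.map (MulAut.conj g⁻¹).toMonoidHom
    simpa [mul_assoc] using this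
  · intro h
    have := h.map (MulAut.conj g).toMonoidHom
    simpa [mul_assoc] using this

theorem conj_mem_Cz_iff {g x y : G} : g * y * g⁻¹ ∈ Cz (g * x * g⁻¹) ↔ y ∈ Cz x := by
  rw [Cz_conj, Subgroup.mem_map_equiv, MulAut.conj_symm_apply]
  simp [mul_assoc]

theorem conj_mem_center_iff {g x : G} :
    g * x * g⁻¹ ∈ Subgroup.center G ↔ x ∈ Subgroup.center G := by
  refine ⟨fun h => ?_, fun h => (inferInstance : (Subgroup.center G).Normal).conj_mem x h g⟩
  have := (inferInstance : (Subgroup.center G).Normal).conj_mem _ h g⁻¹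
  simpa [mul_assoc] using this

theorem card_Cz_conj (g x : G) : Nat.card (Cz (g * x * g⁻¹)) = Nat.card (Cz x) := by
  rw [Cz_conj, Subgroup.card_map_of_injective (MulAut.conj g).injective]

theorem orderOf_conj (g x : G) : orderOf (g * x * g⁻¹) = orderOf x := by
  rw [show g * x * g⁻¹ = MulAut.conj g x from (MulAut.conj_apply g x).symm, MulEquiv.orderOf_eq]

theorem conj_mem_Cz {g x y : G} (hg : g * x * g⁻¹ = x) (hy : y ∈ Cz x) : g * y * g⁻¹ ∈ Cz x := by
  rw [← hg]
  exact conj_mem_Cz_iff.2 hy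

/-- A conjugate of an element by `v ^ i`, when `⁅v, w⁆` is central. -/
theorem conj_pow_eq {v w z : G} (hz : z ∈ Subgroup.center G) (h : v * w * v⁻¹ = z * w) (i : ℕ) :
    v ^ i * w * (v ^ i)⁻¹ = z ^ i * w := by
  induction i with
  | zero => simp
  | succ i ih =>
    have hzc : v * z = z * v := Subgroup.mem_center_iff.1 hz v
    have hzi : v * z ^ i = z ^ i * v := Subgroup.mem_center_iff.1 (pow_mem hz i) v
    calc v ^ (i + 1) * w * (v ^ (i + 1))⁻¹
        = v * (v ^ i * w * (v ^ i)⁻¹) * v⁻¹ := by rw [pow_succ']; group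
      _ = v * z ^ i * (w * v⁻¹) := by rw [ih]; group
      _ = z ^ i * (v * w * v⁻¹) := by rw [hzi]; group
      _ = z ^ (i + 1) * w := by rw [h, pow_succ, mul_assoc]

/-- If `⁅v, w⁆` is central, `v ^ a` commutes with `w` exactly when `⁅v, w⁆ ^ a = 1`. -/
theorem commute_pow_iff {v w z : G} (hz : z ∈ Subgroup.center G) (h : v * w * v⁻¹ = z * w) (a : ℕ) :
    Commute (v ^ a) w ↔ z ^ a = 1 := by
  have := conj_pow_eq hz h a
  constructor
  · intro hc
    rw [hc.eq, mul_inv_cancel_right] at this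
    exact mul_eq_right.1 this.symm
  · intro h1
    rw [h1, one_mul, mul_inv_eq_iff_eq_mul] at this
    exact this

/-- If a central commutator of `v` and `w` has order dividing two coprime numbers, it is trivial. -/
theorem commute_of_central_commutator {v w z : G} (hz : z ∈ Subgroup.center G)
    (h : v * w * v⁻¹ = z * w) {a b : ℕ} (ha : Commute (v ^ a) w) (hb : z ^ b = 1)
    (hab : a.Coprime b) : Commute v w := by
  have hza : z ^ a = 1 := (commute_pow_iff hz h a).1 ha
  have h1 : z = 1 := by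
    rw [← orderOf_eq_one_iff]
    exact Nat.eq_one_of_dvd_coprimes hab (orderOf_dvd_of_pow_eq_one hza)
      (orderOf_dvd_of_pow_eq_one hb)
  rw [h1, one_mul, mul_inv_eq_iff_eq_mul] at h
  exact h

theorem conj_pow_left {v w z : G} (hz : z ∈ Subgroup.center G) (h : v * w * v⁻¹ = z * w) (b : ℕ) :
    v * w ^ b * v⁻¹ = z ^ b * w ^ b := by
  calc v * w ^ b * v⁻¹ = (v * w * v⁻¹) ^ b := conj_pow.symm
    _ = z ^ b * w ^ b := by
      rw [h, (show Commute z w from (Subgroup.mem_center_iff.1 hz w).symm).mul_pow]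

section Fin

variable [Finite G]

/-- For commuting elements of coprime order, `C(xy) = C(x) ∩ C(y)`. -/
theorem Cz_mul_eq {x y : G} (hxy : Commute x y) (hco : (orderOf x).Coprime (orderOf y)) :
    Cz (x * y) = Cz x ⊓ Cz y := by
  refine le_antisymm ?_ fun g hg => mem_Cz.2 ((mem_Cz.1 hg.1).mul_right (mem_Cz.1 hg.2))
  intro g hg
  rw [mem_Cz] at hg
  obtain ⟨j, hj⟩ := exists_pow_eq_self_of_coprime (hco.symm : (orderOf y).Coprime (orderOf x))
  have hx : Commute g x := by
    have h1 : (x * y) ^ (orderOf y) = x ^ orderOf y := by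
      rw [hxy.mul_pow, pow_orderOf_eq_one, mul_one]
    rw [← hj, ← h1]
    exact (hg.pow_right _).pow_right _
  refine ⟨mem_Cz.2 hx, mem_Cz.2 ?_⟩
  have h2 := hx.inv_right.mul_right hg
  rwa [inv_mul_cancel_left] at h2

/-- Splitting an element into a `p`-part and a part of order prime to `p`. -/
theorem exists_split (p : ℕ) [Fact p.Prime] (g : G) : ∃ a b : G, a ∈ Subgroup.zpowers g ∧
    b ∈ Subgroup.zpowers g ∧ Commute a b ∧ a * b = g ∧ (∃ k, orderOf a = p ^ k) ∧
    (orderOf b).Coprime p := by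
  obtain ⟨a, b, h1, h2, h3⟩ := CfsgLib.PNilpotent.exists_pPart_decomp (p := p) g
  exact ⟨g ^ a, g ^ b, pow_mem (Subgroup.mem_zpowers g) a, pow_mem (Subgroup.mem_zpowers g) b,
    Commute.pow_pow_self g a b, h1, h2, h3⟩

theorem isPGroup_zpowers {p k : ℕ} {a : G} (h : orderOf a = p ^ k) :
    IsPGroup p (Subgroup.zpowers a) :=
  IsPGroup.of_card (n := k) (by rw [Nat.card_zpowers, h])

theorem orderOf_of_mem {p : ℕ} [Fact p.Prime] {Q : Subgroup G} (hQ : IsPGroup p Q) {a : G}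
    (ha : a ∈ Q) : ∃ k, orderOf a = p ^ k := by
  obtain ⟨k, hk⟩ := IsPGroup.exists_orderOf_eq_pow hQ ⟨a, ha⟩
  exact ⟨k, by rw [← hk, ← Subgroup.orderOf_coe]⟩

theorem eq_one_of_pow_coprime {p : ℕ} [Fact p.Prime] {a : G} (h1 : ∃ k, orderOf a = p ^ k)
    (h2 : (orderOf a).Coprime p) : a = 1 := by
  obtain ⟨k, hk⟩ := h1
  rw [← orderOf_eq_one_iff]
  exact Nat.eq_one_of_dvd_coprimes (h2.pow_right k) dvd_rfl (dvd_of_eq hk)

/-- Every `p`-subgroup of `H` lies in one of the largest possible order. -/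
theorem exists_full (p : ℕ) [Fact p.Prime] (H : Subgroup G) {Q : Subgroup G} (hQ : IsPGroup p Q)
    (hQH : Q ≤ H) : ∃ T : Subgroup G, T ≤ H ∧ Q ≤ T ∧ IsPGroup p T ∧
      Nat.card T = p ^ (Nat.card H).factorization p := by
  obtain ⟨S, hS⟩ := (hQ.of_equiv (Subgroup.subgroupOfEquivOfLe hQH).symm).exists_le_sylow
  refine ⟨(S : Subgroup H).map H.subtype, Subgroup.map_subtype_le _, fun x hx => ?_,
    S.isPGroup'.map _, ?_⟩
  · exact ⟨⟨x, hQH hx⟩, hS (Subgroup.mem_subgroupOf.2 hx), rfl⟩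
  · rw [Subgroup.card_map_of_injective H.subtype_injective, Sylow.card_eq_multiplicity]

theorem exists_full' (p : ℕ) [Fact p.Prime] (H : Subgroup G) : ∃ T : Subgroup G, T ≤ H ∧
    IsPGroup p T ∧ Nat.card T = p ^ (Nat.card H).factorization p := by
  obtain ⟨T, h1, -, h2, h3⟩ := exists_full p H (IsPGroup.of_bot (G := G)) bot_le
  exact ⟨T, h1, h2, h3⟩

theorem le_of_isPGroup {p : ℕ} [Fact p.Prime] {H Q : Subgroup G} (hQ : IsPGroup p Q)
    (hQH : Q ≤ H) : ∃ j ≤ (Nat.card H).factorization p, Nat.card Q = p ^ j := by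
  obtain ⟨j, hj⟩ := IsPGroup.iff_card.1 hQ
  refine ⟨j, ?_, hj⟩
  rw [← Nat.Prime.pow_dvd_iff_le_factorization Fact.out Nat.card_pos.ne', ← hj]
  exact Subgroup.card_dvd_of_le hQH

theorem eq_of_full {p : ℕ} [Fact p.Prime] {H T Q : Subgroup G} (hT : T ≤ Q) (hQ : IsPGroup p Q)
    (hQH : Q ≤ H) (hTc : Nat.card T = p ^ (Nat.card H).factorization p) : T = Q := by
  obtain ⟨j, hj, hQc⟩ := le_of_isPGroup hQ hQH
  exact Subgroup.eq_of_le_of_card_ge hT
    (by rw [hTc, hQc]; exact Nat.pow_le_pow_right (Fact.out : p.Prime).pos hj)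

/-- A `p`-subgroup of `H` of largest order which is normalised by `H` contains every `p`-subgroup. -/
theorem le_full_of_normal {p : ℕ} [Fact p.Prime] {H T Q : Subgroup G} (hT : IsPGroup p T)
    (hTH : T ≤ H) (hTc : Nat.card T = p ^ (Nat.card H).factorization p)
    (hn : Q ≤ Subgroup.normalizer (T : Set G)) (hQ : IsPGroup p Q) (hQH : Q ≤ H) : Q ≤ T :=
  le_sup_right.trans
    (eq_of_full le_sup_left (hT.to_sup_of_normal_left' hQ hn) (sup_le hTH hQH) hTc).ge

/-- Two `p`-subgroups of `H` of largest order are conjugate in `H`. -/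
theorem exists_conj_full {p : ℕ} [Fact p.Prime] {H S T : Subgroup G} (hS : IsPGroup p S)
    (hSH : S ≤ H) (hSc : Nat.card S = p ^ (Nat.card H).factorization p) (hT : IsPGroup p T)
    (hTH : T ≤ H) (hTc : Nat.card T = p ^ (Nat.card H).factorization p) :
    ∃ h ∈ H, T = S.map (MulAut.conj h).toMonoidHom := by
  obtain ⟨S', hS'⟩ := (hS.of_equiv (Subgroup.subgroupOfEquivOfLe hSH).symm).exists_le_sylow
  obtain ⟨T', hT'⟩ := (hT.of_equiv (Subgroup.subgroupOfEquivOfLe hTH).symm).exists_le_sylow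
  have e : ∀ (U : Subgroup G) (U' : Sylow p H), U ≤ H → U.subgroupOf H ≤ (U' : Subgroup H) →
      Nat.card U = p ^ (Nat.card H).factorization p → U = (U' : Subgroup H).map H.subtype := by
    intro U U' hUH hU hUc
    refine eq_of_full (fun x hx => ⟨⟨x, hUH hx⟩, hU (Subgroup.mem_subgroupOf.2 hx), rfl⟩)
      (U'.isPGroup'.map _) (Subgroup.map_subtype_le _) hUc
  obtain ⟨h, hh⟩ := MulAction.exists_smul_eq H S' T'
  refine ⟨h, h.2, ?_⟩
  rw [e T T' hTH hT' hTc, e S S' hSH hS' hSc, ← hh, Sylow.coe_subgroup_smul]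
  ext x
  constructor
  · rintro ⟨t, ht, rfl⟩
    rw [SetLike.mem_coe, Subgroup.mem_pointwise_smul_iff_inv_smul_mem] at ht
    refine ⟨_, ⟨_, ht, rfl⟩, ?_⟩
    simp [mul_assoc]
  · rintro ⟨_, ⟨s, hs, rfl⟩, rfl⟩
    exact ⟨h * s * h⁻¹, Subgroup.smul_mem_pointwise_smul s (MulAut.conj h) _ hs, rfl⟩

/-- A noncentral element has a noncentral power of prime-power order. -/
theorem exists_primary_noncentral {x : G} (hx : x ∉ Subgroup.center G) :
    ∃ r : ℕ, r.Prime ∧ ∃ a ∈ Subgroup.zpowers x, a ∉ Subgroup.center G ∧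
      ∃ k, orderOf a = r ^ k := by
  by_contra hno
  refine hx ?_
  have hle : Subgroup.zpowers x ≤ Subgroup.center G := by
    have hdvd : Nat.card (Subgroup.zpowers x) ∣
        Nat.card (Subgroup.zpowers x ⊓ Subgroup.center G : Subgroup G) := by
      refine (Nat.dvd_iff_prime_pow_dvd_dvd _ _).2 fun r k hr hk => ?_
      haveI : Fact r.Prime := ⟨hr⟩
      obtain ⟨T, hT1, hT2, hT3⟩ := exists_full' r (Subgroup.zpowers x)
      have hTZ : T ≤ Subgroup.zpowers x ⊓ Subgroup.center G := fun a ha => ⟨hT1 ha, by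
        by_contra hc
        exact hno ⟨r, hr, a, hT1 ha, hc, orderOf_of_mem hT2 ha⟩⟩
      refine (pow_dvd_pow r ?_).trans (hT3 ▸ Subgroup.card_dvd_of_le hTZ)
      exact (Nat.Prime.pow_dvd_iff_le_factorization hr Nat.card_pos.ne').1 hk
    exact inf_eq_left.1 (Subgroup.eq_of_le_of_card_ge inf_le_left
      (Nat.le_of_dvd Nat.card_pos hdvd))
  exact hle (Subgroup.mem_zpowers x)

/-- A normal `p`-complement inside a subgroup, as a subgroup of the whole group. -/
theorem exists_complement_in (p : ℕ) [Fact p.Prime] (H : Subgroup G)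
    (hcrit : ∀ Q : Subgroup G, Q ≤ H → IsPGroup p Q → ∀ g ∈ H,
      g ∈ Subgroup.normalizer (Q : Set G) → (orderOf g).Coprime p →
      ∀ q ∈ Q, Commute g q) :
    ∃ N : Subgroup G, (∀ g, g ∈ N ↔ g ∈ H ∧ (orderOf g).Coprime p) ∧
      ∃ k, N.relIndex H = p ^ k := by
  have h : Cfsg.HasNormalPComplement p H := CfsgLib.NPC.frobenius_criterion fun Q hQ g hg hco => by
    rw [Subgroup.mem_centralizer_iff]
    intro q hq
    refine Subtype.ext ?_
    exact (hcrit (Q.map H.subtype) (Subgroup.map_subtype_le _) (hQ.map _) g g.2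
      (Subgroup.le_normalizer_map H.subtype (Subgroup.mem_map_of_mem _ hg))
      (by rwa [Subgroup.orderOf_coe]) q ⟨q, hq, rfl⟩).eq.symm
  obtain ⟨N, hN⟩ := CfsgLib.NPC.hasNormalPComplement_iff.1 h
  refine ⟨N.map H.subtype, fun g => ?_, ?_⟩
  · constructor
    · rintro ⟨x, hx, rfl⟩
      refine ⟨x.2, ?_⟩
      rw [Subgroup.coe_subtype, Subgroup.orderOf_coe]
      exact (CfsgLib.NPC.mem_iff_coprime hN).1 hx
    · rintro ⟨hg, hc⟩
      exact ⟨⟨g, hg⟩, (CfsgLib.NPC.mem_iff_coprime hN).2 (by rwa [← Subgroup.orderOf_coe]), rfl⟩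
  · obtain ⟨k, hk⟩ := hN.2.2
    refine ⟨k, ?_⟩
    rw [← hk, Subgroup.relIndex, ← Subgroup.comap_subtype,
      Subgroup.comap_map_eq_self_of_injective H.subtype_injective]

/-- A subgroup `T` of `H` containing a normal subgroup of `p`-power index and a `p`-subgroup of
largest order is all of `H`. -/
theorem eq_of_complement {p : ℕ} [Fact p.Prime] {H T N S : Subgroup G} (hT : T ≤ H) (hN : N ≤ T)
    {k : ℕ} (hk : N.relIndex H = p ^ k) (hS : S ≤ T)
    (hSc : Nat.card S = p ^ (Nat.card H).factorization p) : T = H := by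
  refine le_antisymm hT (Subgroup.relIndex_eq_one.1 ?_)
  have h1 : T.relIndex H ∣ p ^ k := hk ▸ Subgroup.relIndex_dvd_of_le_left H hN
  have h2 : T.relIndex H * Nat.card T = Nat.card H := by
    rw [Subgroup.relIndex, mul_comm,
      ← Nat.card_congr (Subgroup.subgroupOfEquivOfLe hT).toEquiv, Subgroup.card_mul_index]
  obtain ⟨j, -, hj⟩ := (Nat.dvd_prime_pow Fact.out).1 h1
  rw [hj]
  by_contra hne
  have h3 : p ^ (j + (Nat.card H).factorization p) ∣ Nat.card H := by
    rw [pow_add]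
    conv_rhs => rw [← h2, hj]
    exact Nat.mul_dvd_mul_left _ (hSc ▸ Subgroup.card_dvd_of_le hS)
  have h4 := (Nat.Prime.pow_dvd_iff_le_factorization Fact.out Nat.card_pos.ne').1 h3
  exact hne (by rw [show j = 0 by omega, pow_zero])

/-- Some element outside `Q` of a `p`-group normalises `Q` and has its `p`-th power in `Q`. -/
theorem exists_normalizer_step {p : ℕ} [Fact p.Prime] {Q P : Subgroup G} (hP : IsPGroup p P)
    (hlt : Q < P) :
    ∃ v ∈ P, v ∉ Q ∧ v ∈ Subgroup.normalizer (Q : Set G) ∧ v ^ p ∈ Q := by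
  classical
  haveI : Group.IsNilpotent P := hP.isNilpotent
  have hne : Q.subgroupOf P < ⊤ := by
    rw [lt_top_iff_ne_top, ne_eq, Subgroup.subgroupOf_eq_top]
    exact hlt.not_ge
  obtain ⟨⟨y, hyP⟩, hy, hyQ⟩ :=
    SetLike.exists_of_lt (Group.normalizerCondition_of_isNilpotent _ hne)
  have hyn : y ∈ Subgroup.normalizer (Q : Set G) := by
    rw [Subgroup.mem_normalizer_iff] at hy ⊢
    intro c
    constructor
    · intro hc
      exact Subgroup.mem_subgroupOf.1 ((hy ⟨c, hlt.le hc⟩).1 (Subgroup.mem_subgroupOf.2 hc))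
    · intro hc
      have hcP : c ∈ P := by
        have := P.mul_mem (P.mul_mem (P.inv_mem hyP) (hlt.le hc)) hyP
        simpa [mul_assoc] using this
      exact Subgroup.mem_subgroupOf.1 ((hy ⟨c, hcP⟩).2 (Subgroup.mem_subgroupOf.2 hc))
  obtain ⟨k, hk⟩ := orderOf_of_mem hP hyP
  have hex : ∃ i, y ^ p ^ i ∈ Q := ⟨k, by rw [← hk, pow_orderOf_eq_one]; exact Q.one_mem⟩
  have hi0 : Nat.find hex ≠ 0 := fun h0 => hyQ (Subgroup.mem_subgroupOf.2 (by
    have := Nat.find_spec hex
    rwa [h0, pow_zero, pow_one] at this))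
  obtain ⟨i, hi⟩ := Nat.exists_eq_succ_of_ne_zero hi0
  refine ⟨y ^ p ^ i, P.pow_mem hyP _, Nat.find_min hex (by omega), pow_mem hyn _, ?_⟩
  rw [← pow_mul, ← pow_succ, ← Nat.succ_eq_add_one, ← hi]
  exact Nat.find_spec hex

/-- A `p`-group `S` normalising a noncentral subgroup `D` of itself fixes a noncentral element of
`D` modulo the centre whose `p`-th power is central. -/
theorem exists_fixed_mod_center {p : ℕ} [Fact p.Prime] {S D : Subgroup G} (hS : IsPGroup p S)
    (hDS : D ≤ S) (hn : S ≤ Subgroup.normalizer (D : Set G))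
    (hD : ¬ D ≤ Subgroup.center G) :
    ∃ z ∈ D, z ∉ Subgroup.center G ∧ z ^ p ∈ Subgroup.center G ∧
      ∀ u ∈ S, ∃ c ∈ Subgroup.center G, u * z * u⁻¹ = c * z := by
  set π := QuotientGroup.mk' (Subgroup.center G)
  have hle : D.map π ≤ S.map π := Subgroup.map_mono hDS
  haveI : ((D.map π).subgroupOf (S.map π)).Normal :=
    (Subgroup.normal_subgroupOf_iff_le_normalizer hle).2
      ((Subgroup.map_mono hn).trans (Subgroup.le_normalizer_map π))
  have hne : (D.map π).subgroupOf (S.map π) ≠ ⊥ := by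
    rw [Ne, Subgroup.subgroupOf_eq_bot, disjoint_iff, inf_eq_left.2 hle, Subgroup.map_eq_bot_iff,
      QuotientGroup.ker_mk']
    exact hD
  obtain ⟨w, hwD, hw1, hwc⟩ :=
    CfsgLib.InvChar.exists_ne_one_mem_center_of_normal (hS.map π) _ hne
  classical
  obtain ⟨k, hk⟩ := IsPGroup.exists_orderOf_eq_pow (hS.map π) w
  have hk0 : k ≠ 0 := fun h0 => hw1 (orderOf_eq_one_iff.1 (by rw [hk, h0, pow_zero]))
  set w' := w ^ p ^ (k - 1)
  have hw'1 : w' ≠ 1 := by
    intro h
    have := orderOf_dvd_of_pow_eq_one h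
    rw [hk, Nat.pow_dvd_pow_iff_le_right (Fact.out : p.Prime).one_lt] at this
    omega
  have hw'p : w' ^ p = 1 := by
    rw [← pow_mul, ← pow_succ, show k - 1 + 1 = k by omega, ← hk, pow_orderOf_eq_one]
  have hw'c : w' ∈ Subgroup.center _ := pow_mem hwc _
  obtain ⟨z, hzD, hz⟩ := Subgroup.mem_subgroupOf.1 (pow_mem hwD (p ^ (k - 1)) : w' ∈ _)
  refine ⟨z, hzD, fun hzc => hw'1 (Subtype.ext ?_), ?_, fun u hu => ?_⟩
  · rw [← hz]
    exact (QuotientGroup.eq_one_iff z).2 hzc
  · rw [← QuotientGroup.eq_one_iff]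
    show π (z ^ p) = 1
    rw [map_pow, hz]
    exact congrArg Subtype.val hw'p
  · refine ⟨u * z * u⁻¹ * z⁻¹, ?_, by group⟩
    rw [← QuotientGroup.eq_one_iff]
    show π (u * z * u⁻¹ * z⁻¹) = 1
    have hcm : π u * π z = π z * π u := by
      rw [hz]
      exact congrArg Subtype.val (Subgroup.mem_center_iff.1 hw'c ⟨π u, Subgroup.mem_map_of_mem _ hu⟩)
    simp only [map_mul, map_inv]
    rw [hcm]
    group

end Fin

/-- Elements fixing `z` modulo the centre, where `z ^ p` is central: `p`-th powers and commutators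
centralise `z`. -/
theorem commute_pow_and_commutator {z : G} {p : ℕ} (hz : z ^ p ∈ Subgroup.center G) {u v : G}
    (hu : ∃ c ∈ Subgroup.center G, u * z * u⁻¹ = c * z)
    (hv : ∃ c ∈ Subgroup.center G, v * z * v⁻¹ = c * z) :
    Commute (u ^ p) z ∧ Commute ⁅u, v⁆ z := by
  obtain ⟨a, ha, hua⟩ := hu
  obtain ⟨b, hb, hvb⟩ := hv
  constructor
  · rw [commute_pow_iff ha hua]
    have h := conj_pow_left ha hua p
    rw [Subgroup.mem_center_iff.1 hz u, mul_inv_cancel_right] at h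
    exact mul_eq_right.1 h.symm
  · have hc : ∀ x : G, x * a = a * x := Subgroup.mem_center_iff.1 ha
    have hd : ∀ x : G, x * b = b * x := Subgroup.mem_center_iff.1 hb
    have hu' : u⁻¹ * z * u = a⁻¹ * z := by
      calc u⁻¹ * z * u = u⁻¹ * (a⁻¹ * (a * z)) * u := by group
        _ = u⁻¹ * a⁻¹ * (u * z * u⁻¹) * u := by rw [← hua]; group
        _ = a⁻¹ * u⁻¹ * (u * z * u⁻¹) * u := by
          rw [Subgroup.mem_center_iff.1 (inv_mem ha) u⁻¹]
        _ = a⁻¹ * z := by group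
    have hv' : v⁻¹ * z * v = b⁻¹ * z := by
      calc v⁻¹ * z * v = v⁻¹ * (b⁻¹ * (b * z)) * v := by group
        _ = v⁻¹ * b⁻¹ * (v * z * v⁻¹) * v := by rw [← hvb]; group
        _ = b⁻¹ * v⁻¹ * (v * z * v⁻¹) * v := by
          rw [Subgroup.mem_center_iff.1 (inv_mem hb) v⁻¹]
        _ = b⁻¹ * z := by group
    have : ⁅u, v⁆ * z * ⁅u, v⁆⁻¹ = z := by
      calc ⁅u, v⁆ * z * ⁅u, v⁆⁻¹ = u * (v * (u⁻¹ * (v⁻¹ * z * v) * u) * v⁻¹) * u⁻¹ := by
            rw [commutatorElement_def]; group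
        _ = u * (v * (u⁻¹ * b⁻¹ * z * u) * v⁻¹) * u⁻¹ := by rw [hv']; group
        _ = u * (v * (b⁻¹ * (u⁻¹ * z * u)) * v⁻¹) * u⁻¹ := by
            rw [Subgroup.mem_center_iff.1 (inv_mem hb) u⁻¹]; group
        _ = u * (v * (b⁻¹ * a⁻¹) * z * v⁻¹) * u⁻¹ := by rw [hu']; group
        _ = u * (b⁻¹ * a⁻¹ * (v * z * v⁻¹)) * u⁻¹ := by
            rw [Subgroup.mem_center_iff.1 (mul_mem (inv_mem hb) (inv_mem ha)) v]; group
        _ = u * (b⁻¹ * a⁻¹ * b) * z * u⁻¹ := by rw [hvb]; group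
        _ = u * a⁻¹ * z * u⁻¹ := by rw [hd (b⁻¹ * a⁻¹)]; group
        _ = a⁻¹ * (u * z * u⁻¹) := by rw [Subgroup.mem_center_iff.1 (inv_mem ha) u]; group
        _ = z := by rw [hua]; group
    exact mul_inv_eq_iff_eq_mul.1 this

end CfsgLib.ClassSize.Three
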