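import Cfsg.Agent.Lib.ClassSize.SylowCentralizer
import Mathlib.GroupTheory.Nilpotent
import Mathlib.GroupTheory.PGroup
import Mathlib.Algebra.Group.ConjFinite
import Mathlib.RingTheory.Coprime.Lemmas

/-!
# A criterion for nilpotency from class sizes

A finite group with the same class sizes (with multiplicity) as a nilpotent group is nilpotent
(Cossey, Hawkes, Mann).
-/

set_option autoImplicit false

namespace CfsgLib.ClassSize.Nilp

open CfsgLib.ClassSize

/-- The class size of an element. -/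
noncomputable abbrev cs {G : Type*} [Group G] (x : G) : ℕ := (Subgroup.centralizer ({x} : Set G)).index

variable {G : Type*} [Group G]

theorem card_carrier_mk (x : G) : Nat.card (ConjClasses.mk x).carrier = cs x := by
  rw [show cs x = _ from (ncard_setOf_isConj x).symm, ← Nat.card_coe_set_eq]
  rfl

theorem cs_eq_one_iff (x : G) : cs x = 1 ↔ x ∈ Subgroup.center G := by
  simp [cs, Subgroup.mem_center_iff, Subgroup.eq_top_iff', Subgroup.mem_centralizer_singleton_iff]

theorem cs_mul_center (x : G) {z : G} (hz : z ∈ Subgroup.center G) : cs (x * z) = cs x := by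
  have h : Subgroup.centralizer ({x * z} : Set G) = Subgroup.centralizer ({x} : Set G) := by
    ext y
    have hy := Subgroup.mem_center_iff.1 hz y
    simp only [Subgroup.mem_centralizer_singleton_iff]
    rw [show y * (x * z) = (y * x) * z by group, show x * z * y = (x * y) * z by rw [mul_assoc, ← hy, ← mul_assoc]]
    exact mul_left_inj z
  simp only [cs, h]

theorem cs_conj (g x : G) : cs (g * x * g⁻¹) = cs x := by
  rw [cs, cs, ← ncard_setOf_isConj, ← ncard_setOf_isConj]
  congr 1
  ext y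
  exact ⟨fun h => (isConj_iff.2 ⟨g, rfl⟩).trans h, fun h => (isConj_iff.2 ⟨g, rfl⟩).symm.trans h⟩

variable [Finite G]

theorem cs_ne_zero (x : G) : cs x ≠ 0 := Subgroup.index_ne_zero_of_finite

/-- A size-preserving bijection from matching numbers of classes of each size. -/
theorem exists_equiv {H : Type*} [Group H] [Finite H]
    (h : ∀ k : ℕ, Nat.card {C : ConjClasses G // Nat.card C.carrier = k} =
      Nat.card {C : ConjClasses H // Nat.card C.carrier = k}) :
    ∃ φ : G ≃ H, ∀ x, cs (φ x) = cs x := by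
  classical
  let eC : ConjClasses G ≃ ConjClasses H :=
    Equiv.ofFiberEquiv (f := fun C : ConjClasses G => Nat.card C.carrier)
      (g := fun C : ConjClasses H => Nat.card C.carrier) fun k => Classical.choice (Finite.card_eq.1 (h k))
  have heC : ∀ C, Nat.card (eC C).carrier = Nat.card C.carrier := fun C =>
    Equiv.ofFiberEquiv_map (f := fun C : ConjClasses G => Nat.card C.carrier)
      (g := fun C : ConjClasses H => Nat.card C.carrier) _ C
  have hfib : ∀ C, Nonempty ({x : G // ConjClasses.mk x = C} ≃ {y : H // ConjClasses.mk y = eC C}) := fun C => by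
    refine Finite.card_eq.1 ?_
    rw [Nat.card_congr (Equiv.subtypeEquivRight fun x => ConjClasses.mem_carrier_iff_mk_eq.symm),
      Nat.card_congr (Equiv.subtypeEquivRight fun x => (ConjClasses.mem_carrier_iff_mk_eq (a := x)).symm)]
    exact (heC C).symm
  let φ : G ≃ H := (Equiv.sigmaFiberEquiv (ConjClasses.mk (α := G))).symm.trans
    ((Equiv.sigmaCongr eC fun C => (hfib C).some).trans (Equiv.sigmaFiberEquiv (ConjClasses.mk (α := H))))
  refine ⟨φ, fun x => ?_⟩
  have h1 : ConjClasses.mk (φ x) = eC (ConjClasses.mk x) := ((hfib (ConjClasses.mk x)).some ⟨x, rfl⟩).2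
  rw [← card_carrier_mk, h1, heC, card_carrier_mk]

variable {p : ℕ} [hp : Fact p.Prime]

theorem card_sylow_inf_center (P : Sylow p G) :
    Nat.card ↥((P : Subgroup G) ⊓ Subgroup.center G) = p ^ (Nat.card (Subgroup.center G)).factorization p := by
  obtain ⟨R⟩ := (inferInstance : Nonempty (Sylow p (Subgroup.center G)))
  set R' := (R : Subgroup _).map (Subgroup.center G).subtype
  have hR' : R' ≤ Subgroup.center G := Subgroup.map_subtype_le _
  have hRP : R' ≤ (P : Subgroup G) := by
    haveI : R'.Normal := ⟨fun x hx g => by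
      rw [Subgroup.mem_center_iff.1 (hR' hx) g, mul_inv_cancel_right]; exact hx⟩
    have hR'p : IsPGroup p R' := R.2.map _
    exact (P.3 (hR'p.to_sup_of_normal_left P.2) le_sup_right) ▸ le_sup_left
  refine le_antisymm ?_ ?_
  · obtain ⟨i, hi⟩ := IsPGroup.iff_card.1 (P.2.to_le (inf_le_left : (P : Subgroup G) ⊓ Subgroup.center G ≤ P))
    rw [hi]
    refine Nat.pow_le_pow_right hp.out.pos ?_
    rw [← hp.out.pow_dvd_iff_le_factorization Nat.card_pos.ne', ← hi]
    exact Subgroup.card_dvd_of_le inf_le_right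
  · rw [← R.card_eq_multiplicity, ← Subgroup.card_map_of_injective (Subgroup.center G).subtype_injective]
    exact Nat.le_of_dvd Nat.card_pos (Subgroup.card_dvd_of_le (le_inf hRP hR'))

theorem card_sylow_sup_center (P : Sylow p G) :
    Nat.card ↥((P : Subgroup G) ⊔ Subgroup.center G) * p ^ (Nat.card (Subgroup.center G)).factorization p =
      Nat.card (Subgroup.center G) * p ^ (Nat.card G).factorization p := by
  rw [← card_sylow_inf_center P, ← P.card_eq_multiplicity]
  set Z := Subgroup.center G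
  have h1 := Subgroup.relIndex_mul_relIndex ⊥ Z ((P : Subgroup G) ⊔ Z) bot_le le_sup_right
  rw [Subgroup.relIndex_bot_left, Subgroup.relIndex_bot_left, Subgroup.relIndex_sup_right] at h1
  have h2 := Subgroup.relIndex_mul_relIndex ⊥ ((P : Subgroup G) ⊓ Z) P bot_le inf_le_left
  rw [Subgroup.relIndex_bot_left, Subgroup.relIndex_bot_left, Subgroup.inf_relIndex_left] at h2
  rw [← h1, ← h2]
  ring

/-- An element whose conjugates include its translate by a central `p`-element has class size divisible by `p`. -/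
theorem eq_one_of_isConj_mul {x z : G} (hz : z ∈ Subgroup.center G) (hzp : IsPGroup p (Subgroup.zpowers z))
    (hx : ¬ p ∣ cs x) (hc : IsConj x (x * z)) : z = 1 := by
  have hstep : ∀ y, IsConj x y → IsConj x (y * z) := by
    intro y hy
    obtain ⟨g, rfl⟩ := isConj_iff.1 hy
    refine hc.trans (isConj_iff.2 ⟨g, ?_⟩)
    rw [← mul_assoc g x z, mul_assoc (g * x) z, ← Subgroup.mem_center_iff.1 hz g⁻¹, ← mul_assoc]
  have hall : ∀ w ∈ Subgroup.zpowers z, ∀ y, IsConj x y → IsConj x (y * w) := by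
    intro w hw
    obtain ⟨n, rfl⟩ := (mem_powers_iff_mem_zpowers (x := z)).2 hw
    induction n with
    | zero => intro y hy; simpa using hy
    | succ n ih =>
      intro y hy
      simp only [pow_succ, ← mul_assoc]
      exact hstep _ (ih (Subgroup.pow_mem _ (Subgroup.mem_zpowers z) n) y hy)
  have hcomm : ∀ a ∈ Subgroup.zpowers z, ∀ b : G, b * a = a * b := fun a ha b =>
    Subgroup.mem_center_iff.1 (Subgroup.zpowers_le.2 hz ha) b
  let _ : MulAction (Subgroup.zpowers z) {y : G | IsConj x y} :=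
    { smul := fun w y => ⟨(y : G) * w, hall w w.2 y y.2⟩
      one_smul := fun y => Subtype.ext (mul_one (y : G))
      mul_smul := fun a b y => Subtype.ext (show (y : G) * ((a : G) * b) = (y : G) * b * a by
        rw [mul_assoc, hcomm a a.2 b]) }
  obtain ⟨y, hy⟩ := hzp.nonempty_fixed_point_of_prime_not_dvd_card {y : G | IsConj x y}
    (by rwa [Nat.card_coe_set_eq, ncard_setOf_isConj])
  have h : (y : G) * z = y := congrArg Subtype.val (hy ⟨z, Subgroup.mem_zpowers z⟩)
  simpa using h

/-- If the elements of class size prime to `p` number `|Z|_p` times a number prime to `p`, then the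
centre of a Sylow `p`-subgroup is central. -/
theorem sylow_inf_centralizer_le_center (P : Sylow p G) {m : ℕ} (hm : ¬ p ∣ m)
    (hT : Nat.card {x : G // ¬ p ∣ cs x} = p ^ (Nat.card (Subgroup.center G)).factorization p * m) :
    (P : Subgroup G) ⊓ Subgroup.centralizer ((P : Subgroup G) : Set G) ≤ Subgroup.center G := by
  classical
  set Zp := (P : Subgroup G) ⊓ Subgroup.center G with hZp
  haveI hZn : Zp.Normal := ⟨fun x hx g => by
    rw [Subgroup.mem_center_iff.1 hx.2 g, mul_inv_cancel_right]; exact hx⟩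
  set C := Subgroup.centralizer ((P : Subgroup G) : Set G)
  have hZC : Zp ≤ C := fun x hx => Subgroup.mem_centralizer_iff.2 fun y _ => Subgroup.mem_center_iff.1 hx.2 y
  let mk := QuotientGroup.mk' Zp
  let T : Set (G ⧸ Zp) := mk '' {x : G | ¬ p ∣ cs x}
  have hpre : (QuotientGroup.mk ⁻¹' T : Set G) = {x : G | ¬ p ∣ cs x} := by
    ext x
    constructor
    · rintro ⟨y, hy, hyx⟩
      obtain ⟨z, hz, rfl⟩ := (QuotientGroup.mk'_eq_mk' Zp).1 hyx
      show ¬ p ∣ cs (y * z)
      rwa [cs_mul_center y hz.2]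
    · intro hx
      exact ⟨x, hx, rfl⟩
  have hTcard : Nat.card T = m := by
    have h := Nat.card_congr (QuotientGroup.preimageMkEquivSubgroupProdSet Zp T)
    rw [hpre, Nat.card_prod, card_sylow_inf_center] at h
    exact (Nat.eq_of_mul_eq_mul_left (pow_pos hp.out.pos _) (h.symm.trans hT))
  let _ : MulAction P T :=
    { smul := fun g t => ⟨mk g * t * (mk g)⁻¹, by
        obtain ⟨x, hx, hxt⟩ := t.2
        exact ⟨g * x * (g : G)⁻¹, by show ¬ p ∣ cs _; rwa [cs_conj], by rw [map_mul, map_mul, map_inv, hxt]⟩⟩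
      one_smul := fun t => Subtype.ext (show mk (1 : G) * (t : G ⧸ Zp) * (mk 1)⁻¹ = t by simp)
      mul_smul := fun a b t => Subtype.ext (show mk ((a : G) * b) * (t : G ⧸ Zp) * (mk ((a : G) * b))⁻¹ =
        mk a * (mk b * t * (mk b)⁻¹) * (mk a)⁻¹ by rw [map_mul]; group) }
  have hfix : Nat.card (MulAction.fixedPoints P T) = Nat.card (QuotientGroup.mk '' (C : Set G) : Set (G ⧸ Zp)) := by
    refine Nat.card_congr
      { toFun := fun t => ⟨t.1.1, ?_⟩
        invFun := fun t => ⟨⟨t.1, ?_⟩, ?_⟩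
        left_inv := fun t => rfl
        right_inv := fun t => rfl }
    · obtain ⟨⟨t, x, hx, rfl⟩, ht⟩ := t
      refine ⟨x, Subgroup.mem_centralizer_iff.2 fun g hg => ?_, rfl⟩
      have h1 : mk (g * x * g⁻¹) = mk x := by
        rw [map_mul, map_mul, map_inv]
        exact congrArg Subtype.val (ht ⟨g, hg⟩)
      obtain ⟨z, hz, hzx⟩ := (QuotientGroup.mk'_eq_mk' Zp).1 h1.symm
      have hz1 := eq_one_of_isConj_mul hz.2 (P.2.to_le (Subgroup.zpowers_le.2 hz.1)) hx
        (isConj_iff.2 ⟨g, hzx.symm⟩)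
      rw [hz1, mul_one] at hzx
      exact (eq_mul_inv_iff_mul_eq.1 hzx).symm
    · obtain ⟨x, hx, hxt⟩ := t.2
      refine ⟨x, ?_, hxt⟩
      rw [Set.mem_ofPred_eq, ← exists_sylow_le_centralizer_iff]
      exact ⟨P, fun y hy => Subgroup.mem_centralizer_singleton_iff.2 (Subgroup.mem_centralizer_iff.1 hx y hy)⟩
    · obtain ⟨x, hx, hxt⟩ := t.2
      intro g
      apply Subtype.ext
      show mk (g : G) * t.1 * (mk (g : G))⁻¹ = t.1
      rw [← hxt, ← QuotientGroup.mk'_apply, ← map_mul, ← map_inv, ← map_mul,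
        Subgroup.mem_centralizer_iff.1 hx g g.2, mul_inv_cancel_right]
  have hfix' : ¬ p ∣ Nat.card (MulAction.fixedPoints P T) := by
    intro h
    have hmod := P.2.card_modEq_card_fixedPoints T
    rw [hTcard] at hmod
    exact hm ((Nat.ModEq.dvd_iff hmod dvd_rfl).2 h)
  have hCcard : Nat.card C = Nat.card Zp * Nat.card (MulAction.fixedPoints P T) := by
    rw [hfix, ← Nat.card_prod, ← Nat.card_congr (QuotientGroup.preimageMkEquivSubgroupProdSet Zp _)]
    refine Nat.card_congr (Equiv.subtypeEquivRight fun x => ⟨fun hx => ⟨x, hx, rfl⟩, ?_⟩)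
    rintro ⟨y, hy, hyx⟩
    obtain ⟨z, hz, rfl⟩ := (QuotientGroup.mk'_eq_mk' Zp).1 hyx
    exact mul_mem hy (hZC hz)
  obtain ⟨i, hi⟩ := IsPGroup.iff_card.1 (P.2.to_le (inf_le_left : (P : Subgroup G) ⊓ C ≤ P))
  have hle : Nat.card ↥((P : Subgroup G) ⊓ C) ≤ Nat.card Zp := by
    refine Nat.le_of_dvd Nat.card_pos ?_
    refine Nat.Coprime.dvd_of_dvd_mul_right ?_ (hCcard ▸ Subgroup.card_dvd_of_le inf_le_right)
    rw [hi]
    exact ((hp.out.coprime_iff_not_dvd).2 hfix').pow_left i
  rw [← Subgroup.eq_of_le_of_card_ge (le_inf (inf_le_left : Zp ≤ P) hZC) hle]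
  exact inf_le_right

/-- A `p`-element with class size prime to `p` is central. -/
theorem mem_center_of_pElement (hC : ∀ P : Sylow p G, (P : Subgroup G) ⊓ Subgroup.centralizer ((P : Subgroup G) : Set G) ≤ Subgroup.center G)
    {y : G} (hy : IsPGroup p (Subgroup.zpowers y)) (hcs : ¬ p ∣ cs y) : y ∈ Subgroup.center G := by
  obtain ⟨P, hP⟩ := (exists_sylow_le_centralizer_iff p y).2 hcs
  have hcomm : ∀ g ∈ (P : Subgroup G), g * y = y * g := fun g hg => Subgroup.mem_centralizer_singleton_iff.1 (hP hg)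
  have hn : Subgroup.zpowers y ≤ Subgroup.normalizer ((P : Subgroup G) : Set G) :=
    (Subgroup.zpowers_le.2 (Subgroup.mem_centralizer_iff.2 hcomm)).trans (Subgroup.centralizer_le_normalizer _)
  have := P.3 (hy.to_sup_of_normal_right' P.2 hn) le_sup_right
  have hyP : y ∈ (P : Subgroup G) := this ▸ Subgroup.mem_sup_left (Subgroup.mem_zpowers y)
  exact hC P ⟨hyP, Subgroup.mem_centralizer_iff.2 hcomm⟩

omit [Finite G] hp in
theorem isPGroup_zpowers {y : G} {k : ℕ} (h : y ^ p ^ k = 1) : IsPGroup p (Subgroup.zpowers y) := by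
  intro a
  obtain ⟨j, hj⟩ := Subgroup.mem_zpowers_iff.1 a.2
  refine ⟨k, Subtype.ext ?_⟩
  simp only [SubgroupClass.coe_pow, OneMemClass.coe_one]
  rw [← hj, ← zpow_natCast, zpow_comm, zpow_natCast, h, one_zpow]

/-- An element of `p`-power class size lies in every `P ⊔ Z(G)`. -/
theorem mem_sup_center_of_prime_pow
    (hC : ∀ q : ℕ, q.Prime → q ≠ p → ∀ y : G, (∃ k, y ^ q ^ k = 1) → ¬ q ∣ cs y → y ∈ Subgroup.center G)
    {x : G} {b : ℕ} (hx : cs x = p ^ b) (P : Sylow p G) : x ∈ (P : Subgroup G) ⊔ Subgroup.center G := by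
  set Z := Subgroup.center G
  set n := orderOf x with hn
  have hn0 : n ≠ 0 := (orderOf_pos x).ne'
  set v := n.factorization p
  set m := n / p ^ v
  have hvm : p ^ v * m = n := Nat.ordProj_mul_ordCompl_eq_self n p
  -- `x ^ p ^ v` is central
  have hd : orderOf (QuotientGroup.mk' Z x) ∣ p ^ v := by
    set d := orderOf (QuotientGroup.mk' Z x)
    have hdn : d ∣ n := orderOf_map_dvd _ x
    have hd0 : d ≠ 0 := fun h => hn0 (by simpa [h] using hdn)
    have hr : ∀ r : ℕ, r.Prime → r ∣ d → r = p := by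
      intro r hr hrd
      by_contra hrp
      set w := n.factorization r
      set y := x ^ (n / r ^ w)
      have hy : y ^ r ^ w = 1 := by
        rw [← pow_mul, Nat.div_mul_cancel (Nat.ordProj_dvd n r), hn, pow_orderOf_eq_one]
      have hle : Subgroup.centralizer ({x} : Set G) ≤ Subgroup.centralizer ({y} : Set G) := fun g hg =>
        Subgroup.mem_centralizer_singleton_iff.2
          ((show Commute g x from Subgroup.mem_centralizer_singleton_iff.1 hg).pow_right _)
      have hcs : ¬ r ∣ cs y := by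
        intro h
        have h2 : r ∣ p ^ b := hx ▸ h.trans (Subgroup.index_dvd_of_le hle)
        exact hrp ((Nat.prime_dvd_prime_iff_eq hr hp.out).1 (hr.dvd_of_dvd_pow h2))
      have hyZ := hC r hr hrp y ⟨w, hy⟩ hcs
      have h3 : d ∣ n / r ^ w := orderOf_dvd_of_pow_eq_one (by
        rw [← map_pow]; exact (QuotientGroup.eq_one_iff _).2 hyZ)
      exact Nat.not_dvd_ordCompl hr hn0 (hrd.trans h3)
    have hdp := Nat.eq_prime_pow_of_unique_prime_dvd hd0 fun {r} hr' hrd => hr r hr' hrd
    rw [hdp, Nat.pow_dvd_pow_iff_le_right hp.out.one_lt]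
    exact (hp.out.pow_dvd_iff_le_factorization hn0).1 (hdp ▸ hdn)
  have hxv : x ^ p ^ v ∈ Z := by
    rw [← QuotientGroup.eq_one_iff, ← QuotientGroup.mk'_apply, map_pow]
    exact orderOf_dvd_iff_pow_eq_one.1 hd
  have hcop : IsCoprime ((p ^ v : ℕ) : ℤ) (m : ℤ) :=
    Nat.isCoprime_iff_coprime.2 (Nat.Coprime.pow_left v (Nat.coprime_ordCompl hp.out hn0))
  obtain ⟨α, β, hαβ⟩ := hcop
  set u := x ^ (β * (m : ℤ))
  set z := x ^ (α * ((p ^ v : ℕ) : ℤ))
  have hzu : x = u * z := by rw [← zpow_add, add_comm, hαβ, zpow_one]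
  have hzZ : z ∈ Z := by
    show x ^ _ ∈ Z
    rw [mul_comm, zpow_mul, zpow_natCast]
    exact Subgroup.zpow_mem _ hxv α
  have hup : u ^ p ^ v = 1 := by
    rw [← zpow_natCast, ← zpow_mul, mul_assoc, ← Nat.cast_mul, mul_comm m, hvm, mul_comm, zpow_mul, zpow_natCast, hn,
      pow_orderOf_eq_one, one_zpow]
  have hu : cs u = p ^ b := by rw [← hx, hzu, cs_mul_center u hzZ]
  obtain ⟨P0, hP0⟩ := (isPGroup_zpowers hup).exists_le_sylow
  have hu0 : u ∈ (P0 : Subgroup G) := hP0 (Subgroup.mem_zpowers u)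
  set C := Subgroup.centralizer ({u} : Set G)
  -- `P0` meets every coset of the centraliser
  have hrel : C.index ≤ C.relIndex P0 := by
    have h1 := Subgroup.relIndex_mul_relIndex ⊥ (C ⊓ (P0 : Subgroup G)) P0 bot_le inf_le_right
    rw [Subgroup.relIndex_bot_left, Subgroup.relIndex_bot_left, Subgroup.inf_relIndex_right] at h1
    obtain ⟨i, hi⟩ := IsPGroup.iff_card.1 (P0.2.to_le (inf_le_right : C ⊓ (P0 : Subgroup G) ≤ P0))
    have h2 : Nat.card ↥(C ⊓ (P0 : Subgroup G)) * C.index ∣ Nat.card (P0 : Subgroup G) := by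
      rw [show C.index = p ^ b from hu, hi, ← pow_add, P0.card_eq_multiplicity]
      refine Nat.pow_dvd_pow p ((hp.out.pow_dvd_iff_le_factorization Nat.card_pos.ne').1 ?_)
      rw [pow_add, ← hi, ← C.card_mul_index, show C.index = p ^ b from hu]
      exact Nat.mul_dvd_mul_right (Subgroup.card_dvd_of_le inf_le_left) _
    rw [← h1] at h2
    exact Nat.le_of_dvd (Nat.pos_of_ne_zero Subgroup.index_ne_zero_of_finite)
      (Nat.dvd_of_mul_dvd_mul_left Nat.card_pos h2)
  let f : (P0 : Subgroup G) ⧸ C.subgroupOf P0 → G ⧸ C :=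
    Quotient.map' (fun a => (a : G)) fun a b h => by
      rw [QuotientGroup.leftRel_apply] at h ⊢
      exact h
  have hfinj : Function.Injective f := by
    rintro ⟨a⟩ ⟨b⟩ h
    refine Quotient.sound (QuotientGroup.leftRel_apply.2 ?_)
    have h' := QuotientGroup.leftRel_apply.1 (Quotient.exact h)
    exact h'
  have hfsur : Function.Surjective f :=
    (hfinj.bijective_of_nat_card_le (by simpa [Subgroup.index, Subgroup.relIndex] using hrel)).2
  have hall : ∀ g : G, g * u * g⁻¹ ∈ (P0 : Subgroup G) := by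
    intro g
    obtain ⟨⟨a⟩, ha⟩ := hfsur (QuotientGroup.mk g)
    have ha' : (a : G)⁻¹ * g ∈ C := QuotientGroup.eq.1 ha
    have hc := Subgroup.mem_centralizer_singleton_iff.1 ha'
    have e : g * u * g⁻¹ = a * u * (a : G)⁻¹ := by
      calc g * u * g⁻¹ = a * ((a : G)⁻¹ * g * u) * g⁻¹ := by group
        _ = a * (u * ((a : G)⁻¹ * g)) * g⁻¹ := by rw [hc]
        _ = a * u * (a : G)⁻¹ := by group
    rw [e]
    exact mul_mem (mul_mem a.2 hu0) (inv_mem a.2)
  obtain ⟨g, rfl⟩ := MulAction.exists_smul_eq G P0 P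
  rw [hzu]
  refine mul_mem (Subgroup.mem_sup_left ?_) (Subgroup.mem_sup_right hzZ)
  rw [Sylow.coe_subgroup_smul]
  refine ⟨g⁻¹ * u * g, ?_, show g * (g⁻¹ * u * g) * g⁻¹ = u by group⟩
  have := hall g⁻¹
  rw [inv_inv] at this
  exact this

/-- In a nilpotent group the elements of class size prime to `p` number `|Z|_p` times a number prime to `p`. -/
theorem card_coprime_of_nilpotent (hG : Group.IsNilpotent G) :
    ∃ m, ¬ p ∣ m ∧ Nat.card {x : G // ¬ p ∣ cs x} = p ^ (Nat.card (Subgroup.center G)).factorization p * m := by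
  have hnorm : ∀ (r : ℕ) [Fact r.Prime] (R : Sylow r G), (R : Subgroup G).Normal :=
    fun r hr R => (((Group.isNilpotent_of_finite_tfae (G := G)).out 0 3 rfl rfl).1 hG : ∀ (r : ℕ) (_ : Fact r.Prime) (R : Sylow r G), (R : Subgroup G).Normal) r hr R
  obtain ⟨P⟩ := (inferInstance : Nonempty (Sylow p G))
  haveI hPn := hnorm p P
  haveI := P.unique_of_normal hPn
  set C := Subgroup.centralizer ((P : Subgroup G) : Set G)
  have hT : Nat.card {x : G // ¬ p ∣ cs x} = Nat.card C := by
    refine Nat.card_congr (Equiv.subtypeEquivRight fun x => ?_)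
    rw [← exists_sylow_le_centralizer_iff]
    constructor
    · rintro ⟨Q, hQ⟩
      obtain rfl : Q = P := Subsingleton.elim _ _
      exact Subgroup.mem_centralizer_iff.2 fun y hy => Subgroup.mem_centralizer_singleton_iff.1 (hQ hy)
    · intro hx
      exact ⟨P, fun y hy => Subgroup.mem_centralizer_singleton_iff.2 (Subgroup.mem_centralizer_iff.1 hx y hy)⟩
  have hle : (P : Subgroup G) ⊓ C ≤ Subgroup.center G := by
    intro z hz
    rw [← cs_eq_one_iff]
    by_contra hne
    obtain ⟨r, hr, hrd⟩ := Nat.exists_prime_and_dvd hne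
    haveI := Fact.mk hr
    obtain ⟨R⟩ := (inferInstance : Nonempty (Sylow r G))
    refine R.not_dvd_index (hrd.trans (Subgroup.index_dvd_of_le fun y hy => Subgroup.mem_centralizer_singleton_iff.2 ?_))
    by_cases hrp : r = p
    · subst hrp
      have : R = P := Subsingleton.elim _ _
      exact Subgroup.mem_centralizer_iff.1 hz.2 y (this ▸ hy)
    · exact Subgroup.commute_of_normal_of_disjoint _ _ (hnorm r R) hPn
        (IsPGroup.disjoint_of_ne r p hrp _ _ R.2 P.2) y z hy hz.1
  refine ⟨(P : Subgroup G).relIndex C, fun h => P.not_dvd_index (h.trans (Subgroup.relIndex_dvd_index_of_normal _ _)), ?_⟩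
  have h2 := Subgroup.relIndex_mul_relIndex ⊥ ((P : Subgroup G) ⊓ C) C bot_le inf_le_right
  rw [Subgroup.relIndex_bot_left, Subgroup.relIndex_bot_left, Subgroup.inf_relIndex_right] at h2
  have hPC : (P : Subgroup G) ⊓ C = (P : Subgroup G) ⊓ Subgroup.center G :=
    le_antisymm (le_inf inf_le_left hle)
      (inf_le_inf le_rfl (Subgroup.center_le_centralizer _))
  rw [hT, ← h2, hPC, card_sylow_inf_center]

/-- In a nilpotent group `P ⊔ Z` consists of elements of `p`-power class size. -/
theorem card_sup_center_le_of_nilpotent (hG : Group.IsNilpotent G) (P : Sylow p G) :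
    Nat.card ↥((P : Subgroup G) ⊔ Subgroup.center G) ≤ Nat.card {x : G // ∃ b, cs x = p ^ b} := by
  have hnorm : ∀ (r : ℕ) [Fact r.Prime] (R : Sylow r G), (R : Subgroup G).Normal :=
    fun r hr R => (((Group.isNilpotent_of_finite_tfae (G := G)).out 0 3 rfl rfl).1 hG : ∀ (r : ℕ) (_ : Fact r.Prime) (R : Sylow r G), (R : Subgroup G).Normal) r hr R
  have key : ∀ x ∈ (P : Subgroup G) ⊔ Subgroup.center G, ∃ b, cs x = p ^ b := by
    intro x hx
    obtain ⟨u, hu, z, hz, rfl⟩ := Subgroup.mem_sup_of_normal_right.1 hx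
    rw [cs_mul_center u hz]
    refine ⟨_, Nat.eq_prime_pow_of_unique_prime_dvd (cs_ne_zero u) fun {r} hr hrd => ?_⟩
    by_contra hrp
    haveI := Fact.mk hr
    obtain ⟨R⟩ := (inferInstance : Nonempty (Sylow r G))
    refine R.not_dvd_index (hrd.trans (Subgroup.index_dvd_of_le fun y hy => Subgroup.mem_centralizer_singleton_iff.2 ?_))
    exact Subgroup.commute_of_normal_of_disjoint _ _ (hnorm r R) (hnorm p P)
      (IsPGroup.disjoint_of_ne r p hrp _ _ R.2 P.2) y u hy hu
  exact Nat.card_le_card_of_injective (fun x : ↥((P : Subgroup G) ⊔ Subgroup.center G) => (⟨x, key x x.2⟩ : {x : G // ∃ b, cs x = p ^ b}))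
    fun a b h => Subtype.ext (congrArg (fun y : {x : G // ∃ b, cs x = p ^ b} => (y : G)) h)

omit hp in
/-- Cossey–Hawkes–Mann: equal class sizes with multiplicities preserve nilpotency. -/
theorem isNilpotent_of_same_class_sizes {H : Type*} [Group H] [Finite H] (hH : Group.IsNilpotent H)
    (h : ∀ k : ℕ, Nat.card {C : ConjClasses G // Nat.card C.carrier = k} =
      Nat.card {C : ConjClasses H // Nat.card C.carrier = k}) : Group.IsNilpotent G := by
  obtain ⟨φ, hφ⟩ := exists_equiv h
  have hcard : Nat.card G = Nat.card H := Nat.card_congr φ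
  have hZ : Nat.card (Subgroup.center G) = Nat.card (Subgroup.center H) :=
    Nat.card_congr (φ.subtypeEquiv fun x => by rw [← cs_eq_one_iff, ← cs_eq_one_iff, hφ])
  have hC : ∀ (q : ℕ) (hq : q.Prime), haveI := Fact.mk hq
      ∀ P : Sylow q G, (P : Subgroup G) ⊓ Subgroup.centralizer ((P : Subgroup G) : Set G) ≤ Subgroup.center G := by
    intro q hq P
    haveI := Fact.mk hq
    obtain ⟨m, hm, hT⟩ := card_coprime_of_nilpotent (p := q) hH
    refine sylow_inf_centralizer_le_center P hm ?_
    rw [hZ, ← hT]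
    exact Nat.card_congr (φ.subtypeEquiv fun x => by rw [hφ])
  refine ((Group.isNilpotent_of_finite_tfae (G := G)).out 0 3 rfl rfl).2 ?_
  intro q hq P
  have hq' := hq.out
  have hmem : ∀ P : Sylow q G, {x : G | ∃ b, cs x = q ^ b} ⊆ ((P : Subgroup G) ⊔ Subgroup.center G : Subgroup G) := by
    rintro P x ⟨b, hb⟩
    refine mem_sup_center_of_prime_pow (fun r hr _ y ⟨k, hk⟩ hy => ?_) hb P
    haveI := Fact.mk hr
    exact mem_center_of_pElement (hC r hr) (isPGroup_zpowers hk) hy
  have heq : ∀ P : Sylow q G, {x : G | ∃ b, cs x = q ^ b} = (((P : Subgroup G) ⊔ Subgroup.center G : Subgroup G) : Set G) := by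
    intro P
    refine Set.eq_of_subset_of_ncard_le (hmem P) ?_
    obtain ⟨Q⟩ := (inferInstance : Nonempty (Sylow q H))
    have h1 := card_sup_center_le_of_nilpotent hH Q
    have e : Nat.card ↥((P : Subgroup G) ⊔ Subgroup.center G) = Nat.card ↥((Q : Subgroup H) ⊔ Subgroup.center H) := by
      have a := card_sylow_sup_center P
      rw [hZ, hcard, ← card_sylow_sup_center Q] at a
      exact Nat.eq_of_mul_eq_mul_right (pow_pos hq'.pos _) a
    rw [← Nat.card_coe_set_eq, ← Nat.card_coe_set_eq]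
    refine (e.le.trans h1).trans (le_of_eq (Nat.card_congr (φ.symm.subtypeEquiv fun x => ?_)))
    show _ ↔ ∃ b, cs (φ.symm x) = q ^ b
    rw [← hφ (φ.symm x), Equiv.apply_symm_apply]
  have huniq : ∀ Q : Sylow q G, (Q : Subgroup G) ≤ P := by
    intro Q
    have hsup : (Q : Subgroup G) ≤ (P : Subgroup G) ⊔ Subgroup.center G := fun x hx => by
      have hx' : x ∈ (((Q : Subgroup G) ⊔ Subgroup.center G : Subgroup G) : Set G) := Subgroup.mem_sup_left hx
      rw [← heq Q, heq P] at hx'
      exact hx'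
    have hn : (Q : Subgroup G) ≤ Subgroup.normalizer ((P : Subgroup G) : Set G) :=
      hsup.trans (sup_le Subgroup.le_normalizer ((Subgroup.center_le_centralizer _).trans (Subgroup.centralizer_le_normalizer _)))
    exact (P.3 (Q.2.to_sup_of_normal_right' P.2 hn) le_sup_right) ▸ le_sup_left
  have : Subsingleton (Sylow q G) := ⟨fun A B => by
    have hA : (A : Subgroup G) = P := (A.3 P.2 (huniq A)).symm
    have hB : (B : Subgroup G) = P := (B.3 P.2 (huniq B)).symm
    exact Sylow.ext (hA.trans hB.symm)⟩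
  exact P.normal_of_subsingleton

end CfsgLib.ClassSize.Nilp
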