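import Cfsg.Agent.Lib.ClassSize.SylowCentralizer
import Mathlib.Algebra.BigOperators.Group.Finset.Basic
import Mathlib.Data.Nat.Factorization.Basic
import Mathlib.Data.Int.GCD
import Mathlib.RingTheory.Coprime.Lemmas

/-!
# π-elements in cosets

If `g` normalizes `M` and is a π-element modulo `M`, the number of `M`-orbits of π-elements in the
coset `g M` equals the number of `g`-stable classes of π-elements of `M`.  Here π-elements are
those with `x ^ a = 1`, where `Nat.card G = a * b` with coprime `a` and `b`.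
-/

set_option autoImplicit false

namespace CfsgLib.ClassSize

open Finset

variable {G : Type*} [Group G] [Fintype G]

open scoped Classical in
/-- The order of the centraliser of `x` in `M`. -/
noncomputable def centCard (M : Subgroup G) (x : G) : ℕ :=
  (univ.filter fun m : G => m ∈ M ∧ Commute m x).card

open scoped Classical in
/-- `|M|` times the number of `M`-orbits on the elements `h` of `g M` with `h ^ a = 1`. -/
noncomputable def cosetSum (a : ℕ) (M : Subgroup G) (g : G) : ℕ :=
  ∑ h ∈ univ.filter (fun h : G => g⁻¹ * h ∈ M ∧ h ^ a = 1), centCard M h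

open scoped Classical in
/-- `|M|` times the number of `g`-stable classes of elements `u` of `M` with `u ^ a = 1`. -/
noncomputable def stableSum (a : ℕ) (M : Subgroup G) (g : G) : ℕ :=
  ∑ u ∈ univ.filter (fun u : G => u ∈ M ∧ u ^ a = 1 ∧ ∃ h, g⁻¹ * h ∈ M ∧ Commute h u), centCard M u

theorem conj_mem_of_normalizer {M : Subgroup G} {g m : G} (hg : g ∈ Subgroup.normalizer (M : Set G))
    (hm : m ∈ M) : g * m * g⁻¹ ∈ M :=
  (Subgroup.mem_normalizer_iff.1 hg m).1 hm

theorem coset_normalizer {M : Subgroup G} {g h : G} (hg : g ∈ Subgroup.normalizer (M : Set G))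
    (hh : g⁻¹ * h ∈ M) : h ∈ Subgroup.normalizer (M : Set G) := by
  have := mul_mem hg (Subgroup.le_normalizer hh)
  rwa [mul_inv_cancel_left] at this

/-- Powers of elements of a coset. -/
theorem pow_coset {M : Subgroup G} {g h : G} (hg : g ∈ Subgroup.normalizer (M : Set G))
    (hh : g⁻¹ * h ∈ M) : ∀ k : ℕ, (g ^ k)⁻¹ * h ^ k ∈ M := by
  intro k
  induction k with
  | zero => simp
  | succ k ih =>
    have h1 : g⁻¹ * ((g ^ k)⁻¹ * h ^ k) * g ∈ M := by
      have := conj_mem_of_normalizer (inv_mem hg) ih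
      rwa [inv_inv] at this
    have e : (g ^ (k + 1))⁻¹ * h ^ (k + 1) = g⁻¹ * ((g ^ k)⁻¹ * h ^ k) * g * (g⁻¹ * h) := by
      rw [pow_succ, pow_succ]; group
    rw [e]
    exact mul_mem h1 hh

theorem coset_inter_centralizer {M : Subgroup G} {g h v : G} (hh : g⁻¹ * h ∈ M) (hv : Commute h v) (x : G) :
    g⁻¹ * x ∈ M ∧ Commute x v ↔ h⁻¹ * x ∈ M ⊓ Subgroup.centralizer ({v} : Set G) := by
  rw [Subgroup.mem_inf, Subgroup.mem_centralizer_singleton_iff]
  constructor
  · rintro ⟨h1, h2⟩
    refine ⟨?_, (hv.inv_left.mul_left h2).eq⟩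
    have := mul_mem (inv_mem hh) h1
    simpa [mul_assoc] using this
  · rintro ⟨h1, h2⟩
    refine ⟨?_, ?_⟩
    · have := mul_mem hh h1
      simpa [mul_assoc] using this
    · have := hv.mul_left (h2 : Commute (h⁻¹ * x) v)
      rwa [mul_inv_cancel_left] at this

/-- The two exponents picking the π- and π'-parts. -/
theorem exists_part_exponents {a b : ℕ} (hab : a.Coprime b) :
    ∃ e f : ℤ, (b : ℤ) ∣ e ∧ (a : ℤ) ∣ f ∧ e + f = 1 := by
  obtain ⟨r, s, hrs⟩ := (Nat.isCoprime_iff_coprime.2 hab : IsCoprime (a : ℤ) b)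
  exact ⟨s * b, r * a, dvd_mul_left _ _, dvd_mul_left _ _, by rw [← hrs]; ring⟩

theorem zpow_eq_one_of_pow {x : G} {a : ℕ} {e : ℤ} (hx : x ^ a = 1) (he : (a : ℤ) ∣ e) : x ^ e = 1 := by
  obtain ⟨c, rfl⟩ := he
  rw [zpow_mul, zpow_natCast, hx, one_zpow]

open scoped Classical in
theorem cosetSum_eq_stableSum {a b : ℕ} (hab : a.Coprime b) (hG : Nat.card G = a * b)
    (M : Subgroup G) (g : G) (hg : g ∈ Subgroup.normalizer (M : Set G)) (hga : g ^ a ∈ M) :
    cosetSum a M g = stableSum a M g := by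
  induction hn : Nat.card M using Nat.strong_induction_on generalizing M g with
  | _ n ih =>
  subst hn
  obtain ⟨e, f, hbe, haf, hef⟩ := exists_part_exponents hab
  have hbf : ∀ x : G, (x ^ f) ^ b = 1 := by
    intro x
    rw [← zpow_natCast, ← zpow_mul]
    refine zpow_eq_one_of_pow (a := a * b) (hG ▸ pow_card_eq_one') ?_
    push_cast
    exact mul_dvd_mul_right haf _
  have hae : ∀ x : G, (x ^ e) ^ a = 1 := by
    intro x
    rw [← zpow_natCast, ← zpow_mul]
    refine zpow_eq_one_of_pow (a := a * b) (hG ▸ pow_card_eq_one') ?_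
    push_cast
    rw [mul_comm (a : ℤ)]
    exact mul_dvd_mul_right hbe _
  have hsplit : ∀ x : G, x ^ e * x ^ f = x := fun x => by rw [← zpow_add, hef, zpow_one]
  have hunique : ∀ h v : G, h ^ a = 1 → v ^ b = 1 → Commute h v →
      (h * v) ^ e = h ∧ (h * v) ^ f = v := by
    intro h v hh hv hc
    have h1 : v ^ e = 1 := zpow_eq_one_of_pow hv hbe
    have h2 : h ^ f = 1 := zpow_eq_one_of_pow hh haf
    constructor
    · rw [hc.mul_zpow, h1, mul_one]
      have := hsplit h
      rwa [h2, mul_one] at this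
    · rw [hc.mul_zpow, h2, one_mul]
      have := hsplit v
      rwa [h1, one_mul] at this
  have hfM : ∀ x : G, g⁻¹ * x ∈ M → x ^ f ∈ M := by
    intro x hx
    obtain ⟨c, hc⟩ := haf
    rw [hc, zpow_mul, zpow_natCast]
    refine M.zpow_mem ?_ c
    have := mul_mem hga (pow_coset hg hx a)
    rwa [mul_inv_cancel_left] at this
  -- double counting
  have htot : ∑ x ∈ univ.filter (fun x : G => g⁻¹ * x ∈ M), centCard M x =
      ∑ n ∈ univ.filter (fun n : G => n ∈ M ∧ ∃ h, g⁻¹ * h ∈ M ∧ Commute h n), centCard M n := by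
    have h1 : ∀ x, centCard M x = ∑ n ∈ univ.filter (fun n : G => n ∈ M), if Commute n x then 1 else 0 := by
      intro x
      rw [Finset.sum_boole, Nat.cast_id, Finset.filter_filter, centCard]
    rw [Finset.sum_congr rfl fun x _ => h1 x, Finset.sum_comm]
    rw [show univ.filter (fun n : G => n ∈ M ∧ ∃ h, g⁻¹ * h ∈ M ∧ Commute h n) =
      (univ.filter fun n : G => n ∈ M).filter (fun n => ∃ h, g⁻¹ * h ∈ M ∧ Commute h n) by
        rw [Finset.filter_filter], Finset.sum_filter (p := fun n => ∃ h, g⁻¹ * h ∈ M ∧ Commute h n)]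
    refine Finset.sum_congr rfl fun n hn => ?_
    rw [Finset.sum_boole, Nat.cast_id, Finset.filter_filter]
    split_ifs with hst
    · obtain ⟨h, hh, hc⟩ := hst
      refine Finset.card_nbij' (fun x => h⁻¹ * x) (fun m => h * m) ?_ ?_ ?_ ?_
      · intro x hx
        simp only [Finset.mem_coe, Finset.mem_filter, Finset.mem_univ, true_and] at hx ⊢
        obtain ⟨h1, h2⟩ := (coset_inter_centralizer hh hc x).1 ⟨hx.1, hx.2.symm⟩
        exact ⟨h1, Subgroup.mem_centralizer_singleton_iff.1 h2⟩
      · intro m hm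
        simp only [Finset.mem_coe, Finset.mem_filter, Finset.mem_univ, true_and] at hm ⊢
        have := (coset_inter_centralizer hh hc (h * m)).2 (by
          rw [inv_mul_cancel_left]
          exact ⟨hm.1, Subgroup.mem_centralizer_singleton_iff.2 hm.2⟩)
        exact ⟨this.1, this.2.symm⟩
      · intro x _; simp
      · intro x _; simp
    · rw [Finset.card_eq_zero, Finset.filter_eq_empty_iff]
      intro x _ hx
      exact hst ⟨x, hx.1, hx.2.symm⟩
  set V := univ.filter (fun v : G => v ∈ M ∧ v ^ b = 1 ∧ ∃ h, g⁻¹ * h ∈ M ∧ Commute h v) with hV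
  have hrep : ∀ v : G, ∃ h : G, v ∈ V → g⁻¹ * h ∈ M ∧ Commute h v := by
    intro v
    by_cases hv : v ∈ V
    · rw [hV, Finset.mem_filter] at hv
      obtain ⟨h, hh⟩ := hv.2.2.2
      exact ⟨h, fun _ => hh⟩
    · exact ⟨1, fun h => absurd h hv⟩
  choose gv hgv using hrep
  set Mv : G → Subgroup G := fun v => M ⊓ Subgroup.centralizer ({v} : Set G) with hMv
  have hcent : ∀ v h n : G, v ∈ M → h ^ a = 1 → v ^ b = 1 → Commute h v → n = h * v →
      centCard (Mv v) h = centCard M n := by
    intro v h n _ hh hv hc hn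
    unfold centCard
    congr 1
    ext m
    simp only [Finset.mem_filter, Finset.mem_univ, true_and, hMv, Subgroup.mem_inf,
      Subgroup.mem_centralizer_singleton_iff]
    constructor
    · rintro ⟨⟨hm, hmv⟩, hmh⟩
      exact ⟨hm, hn ▸ hmh.mul_right hmv⟩
    · rintro ⟨hm, hmn⟩
      obtain ⟨h1, h2⟩ := hunique h v hh hv hc
      rw [← hn] at h1 h2
      refine ⟨⟨hm, ?_⟩, ?_⟩
      · rw [← h2]; exact hmn.zpow_right f
      · rw [← h1]; exact hmn.zpow_right e
  have hA : ∑ x ∈ univ.filter (fun x : G => g⁻¹ * x ∈ M), centCard M x =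
      ∑ v ∈ V, cosetSum a (Mv v) (gv v) := by
    rw [← Finset.sum_fiberwise_of_maps_to (g := fun x : G => x ^ f) (t := V) (fun x hx => by
      rw [Finset.mem_filter] at hx
      rw [hV, Finset.mem_filter]
      exact ⟨Finset.mem_univ _, hfM x hx.2, hbf x, x, hx.2, (Commute.refl x).zpow_right f⟩)]
    refine Finset.sum_congr rfl fun v hv => ?_
    obtain ⟨hgv1, hgv2⟩ := hgv v hv
    rw [hV, Finset.mem_filter] at hv
    refine Finset.sum_nbij' (fun x => x ^ e) (fun h => h * v) ?_ ?_ ?_ ?_ ?_
    · intro x hx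
      simp only [Finset.mem_coe, Finset.mem_filter, Finset.mem_univ, true_and] at hx ⊢
      refine ⟨(coset_inter_centralizer hgv1 hgv2 (x ^ e)).1 ⟨?_, ?_⟩, hae x⟩
      · have : g⁻¹ * (x * (x ^ f)⁻¹) ∈ M := by
          rw [← mul_assoc]; exact mul_mem hx.1 (inv_mem (hfM x hx.1))
        rwa [show x * (x ^ f)⁻¹ = x ^ e by rw [mul_inv_eq_iff_eq_mul, hsplit]] at this
      · rw [← hx.2]; exact (Commute.refl x).zpow_zpow e f
    · intro h hh
      simp only [Finset.mem_coe, Finset.mem_filter, Finset.mem_univ, true_and] at hh ⊢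
      obtain ⟨h1, h2⟩ := (coset_inter_centralizer hgv1 hgv2 h).2 hh.1
      exact ⟨by rw [← mul_assoc]; exact mul_mem h1 hv.2.1, (hunique h v hh.2 hv.2.2.1 h2).2⟩
    · intro x hx
      simp only [Finset.mem_coe, Finset.mem_filter, Finset.mem_univ, true_and] at hx
      rw [← hx.2]; exact hsplit x
    · intro h hh
      simp only [Finset.mem_coe, Finset.mem_filter, Finset.mem_univ, true_and] at hh
      exact (hunique h v hh.2 hv.2.2.1 ((coset_inter_centralizer hgv1 hgv2 h).2 hh.1).2).1
    · intro x hx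
      simp only [Finset.mem_filter, Finset.mem_univ, true_and] at hx
      exact (hcent v (x ^ e) x hv.2.1 (hae x) hv.2.2.1 (hx.2 ▸ (Commute.refl x).zpow_zpow e f)
        (by rw [← hx.2, hsplit])).symm
  have hB : ∑ n ∈ univ.filter (fun n : G => n ∈ M ∧ ∃ h, g⁻¹ * h ∈ M ∧ Commute h n), centCard M n =
      ∑ v ∈ V, stableSum a (Mv v) (gv v) := by
    rw [← Finset.sum_fiberwise_of_maps_to (g := fun x : G => x ^ f) (t := V) (fun x hx => by
      rw [Finset.mem_filter] at hx
      rw [hV, Finset.mem_filter]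
      obtain ⟨h, h1, h2⟩ := hx.2.2
      exact ⟨Finset.mem_univ _, M.zpow_mem hx.2.1 f, hbf x, h, h1, h2.zpow_right f⟩)]
    refine Finset.sum_congr rfl fun v hv => ?_
    obtain ⟨hgv1, hgv2⟩ := hgv v hv
    rw [hV, Finset.mem_filter] at hv
    refine Finset.sum_nbij' (fun x => x ^ e) (fun u => u * v) ?_ ?_ ?_ ?_ ?_
    · intro x hx
      simp only [Finset.mem_coe, Finset.mem_filter, Finset.mem_univ, true_and] at hx ⊢
      obtain ⟨⟨hxM, h, h1, h2⟩, hxv⟩ := hx
      refine ⟨⟨M.zpow_mem hxM e, Subgroup.mem_centralizer_singleton_iff.2 ?_⟩, hae x, h, ?_, h2.zpow_right e⟩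
      · rw [← hxv]; exact ((Commute.refl x).zpow_zpow e f).eq
      · exact (coset_inter_centralizer hgv1 hgv2 h).1 ⟨h1, hxv ▸ h2.zpow_right f⟩
    · intro u hu
      simp only [Finset.mem_coe, Finset.mem_filter, Finset.mem_univ, true_and] at hu ⊢
      obtain ⟨huM, hua, h, h1, h2⟩ := hu
      obtain ⟨h3, h4⟩ := (coset_inter_centralizer hgv1 hgv2 h).2 h1
      exact ⟨⟨mul_mem huM.1 hv.2.1, h, h3, h2.mul_right h4⟩,
        (hunique u v hua hv.2.2.1 (Subgroup.mem_centralizer_singleton_iff.1 huM.2)).2⟩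
    · intro x hx
      simp only [Finset.mem_coe, Finset.mem_filter, Finset.mem_univ, true_and] at hx
      rw [← hx.2]; exact hsplit x
    · intro u hu
      simp only [Finset.mem_coe, Finset.mem_filter, Finset.mem_univ, true_and] at hu
      exact (hunique u v hu.2.1 hv.2.2.1 (Subgroup.mem_centralizer_singleton_iff.1 hu.1.2)).1
    · intro x hx
      simp only [Finset.mem_filter, Finset.mem_univ, true_and] at hx
      exact (hcent v (x ^ e) x hv.2.1 (hae x) hv.2.2.1 (hx.2 ▸ (Commute.refl x).zpow_zpow e f)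
        (by rw [← hx.2, hsplit])).symm
  have heq := hA.symm.trans (htot.trans hB)
  set W := V.filter (fun v => Mv v = M) with hW
  have hsmall : ∀ v ∈ V.filter (fun v => ¬ Mv v = M),
      cosetSum a (Mv v) (gv v) = stableSum a (Mv v) (gv v) := by
    intro v hv
    rw [Finset.mem_filter] at hv
    obtain ⟨h1, h2⟩ := hgv v hv.1
    have hlt : Nat.card (Mv v) < Nat.card M := lt_of_le_of_ne (Subgroup.card_le_of_le inf_le_left)
      fun e => hv.2 (Subgroup.eq_of_le_of_card_ge inf_le_left e.ge)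
    refine ih _ hlt (Mv v) (gv v) ?_ ?_ rfl
    · have hn := coset_normalizer hg h1
      rw [Subgroup.mem_normalizer_iff]
      intro m
      simp only [hMv, Subgroup.mem_inf, Subgroup.mem_centralizer_singleton_iff]
      refine and_congr (Subgroup.mem_normalizer_iff.1 hn m) ?_
      constructor
      · intro hc
        exact ((h2.mul_left hc).mul_left h2.inv_left).eq
      · intro hc
        have := ((h2.inv_left.mul_left hc).mul_left h2)
        simpa [mul_assoc] using this.eq
    · refine ⟨?_, Subgroup.mem_centralizer_singleton_iff.2 (h2.pow_left a).eq⟩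
      have := mul_mem hga (pow_coset hg h1 a)
      rwa [mul_inv_cancel_left] at this
  have hbig : ∀ v ∈ W, cosetSum a (Mv v) (gv v) = cosetSum a M g ∧ stableSum a (Mv v) (gv v) = stableSum a M g := by
    intro v hv
    rw [hW, Finset.mem_filter] at hv
    obtain ⟨h1, h2⟩ := hgv v hv.1
    have hiff : ∀ x : G, (gv v)⁻¹ * x ∈ M ↔ g⁻¹ * x ∈ M := by
      intro x
      constructor
      · intro hx
        have := mul_mem h1 hx
        simpa [mul_assoc] using this
      · intro hx
        have := mul_mem (inv_mem h1) hx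
        simpa [mul_assoc] using this
    unfold cosetSum stableSum
    rw [hv.2]
    simp only [hiff]
    exact ⟨trivial, trivial⟩
  rw [← Finset.sum_filter_add_sum_filter_not V (fun v => Mv v = M),
    ← Finset.sum_filter_add_sum_filter_not V (fun v => Mv v = M) (fun v => stableSum a (Mv v) (gv v)),
    Finset.sum_congr rfl hsmall, add_left_inj, Finset.sum_congr rfl (fun v hv => (hbig v hv).1),
    Finset.sum_congr rfl (fun v hv => (hbig v hv).2), Finset.sum_const, Finset.sum_const, smul_eq_mul,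
    smul_eq_mul] at heq
  refine Nat.eq_of_mul_eq_mul_left (Finset.card_pos.2 ⟨1, ?_⟩) heq
  rw [hW, Finset.mem_filter, hV, Finset.mem_filter]
  refine ⟨⟨Finset.mem_univ _, M.one_mem, one_pow _, g, by simp, Commute.one_right g⟩, ?_⟩
  show M ⊓ Subgroup.centralizer ({1} : Set G) = M
  exact inf_eq_left.2 fun x _ => Subgroup.mem_centralizer_singleton_iff.2 (by simp)

end CfsgLib.ClassSize
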