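import Mathlib.GroupTheory.Nilpotent
import Mathlib.GroupTheory.Commutator.Basic
import Cfsg.Agent.Lib.ClassSize.SylowCentralizer

/-!
# Subgroups generated by the smallest classes (Isaacs)
-/

set_option autoImplicit false

open scoped commutatorElement

namespace CfsgLib.ClassSize

variable {G : Type*} [Group G] [Finite G]

/-- A commutator of an element of a self-centralising abelian normal subgroup with an element of
smallest class is central. -/
theorem commutator_mem_center_of_small (A : Subgroup G) [A.Normal] (hA : IsMulCommutative A)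
    (m : ℕ) (hm1 : 1 < m)
    (hmin : ∀ y : G, 1 < (Subgroup.centralizer ({y} : Set G)).index →
      m ≤ (Subgroup.centralizer ({y} : Set G)).index)
    (x : G) (hx : (Subgroup.centralizer ({x} : Set G)).index = 1 ∨
      (Subgroup.centralizer ({x} : Set G)).index = m) (a : G) (ha : a ∈ A) :
    ⁅a, x⁆ ∈ Subgroup.center G := by
  classical
  have hcomm : ∀ u ∈ A, ∀ v ∈ A, u * v = v * u := fun u hu v hv =>
    congrArg Subtype.val (hA.is_comm.comm (⟨u, hu⟩ : A) ⟨v, hv⟩)
  set C := Subgroup.centralizer ({x} : Set G) with hC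
  rcases hx with h1 | hxm
  · have : x ∈ Subgroup.center G := by
      rw [Subgroup.index_eq_one] at h1
      rw [Subgroup.mem_center_iff]
      intro g
      exact Subgroup.mem_centralizer_singleton_iff.1 (show g ∈ C by rw [h1]; trivial)
    rw [commutatorElement_eq_one_iff_mul_comm.2 (Subgroup.mem_center_iff.1 this a)]
    exact one_mem _
  set y := ⁅a, x⁆ with hy
  by_contra hyc
  have hy1 : y ≠ 1 := fun h => hyc (h ▸ one_mem _)
  set U := C ⊔ A with hU
  -- the set of commutators `[A, x]`
  set T : Set G := (fun b => ⁅b, x⁆) '' (A : Set G) with hT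
  have hTA : ∀ t ∈ T, t ∈ A := by
    rintro _ ⟨b, hb, rfl⟩
    show ⁅b, x⁆ ∈ A
    rw [commutatorElement_def, mul_assoc b x, mul_assoc]
    exact A.mul_mem hb (‹A.Normal›.conj_mem _ (A.inv_mem hb) x)
  -- it has as many elements as the index of `C` in `U`
  have hTcard : T.ncard = C.relIndex U := by
    have h2 : C.relIndex U = C.relIndex A := by
      rw [hU]
      have h1 := Subgroup.relIndex_mul_relIndex (C ⊓ A) C (C ⊔ A) inf_le_left le_sup_left
      have h3 := Subgroup.relIndex_mul_relIndex (C ⊓ A) A (C ⊔ A) inf_le_right le_sup_right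
      rw [← h1, Subgroup.relIndex_sup_right, Subgroup.inf_relIndex_left, Subgroup.inf_relIndex_right,
        mul_comm (C.relIndex A)] at h3
      have h0 : A.relIndex C ≠ 0 := fun h0 => by
        have := Subgroup.relIndex_dvd_card A C
        rw [h0, zero_dvd_iff] at this
        exact Nat.card_pos.ne' this
      exact (Nat.eq_of_mul_eq_mul_left (Nat.pos_of_ne_zero h0) h3).symm
    rw [h2, ← Nat.card_coe_set_eq, Subgroup.relIndex, Subgroup.index]
    have hr : ∀ b d : A, b⁻¹ * d ∈ C.subgroupOf A ↔ ⁅(b : G), x⁆ = ⁅(d : G), x⁆ := by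
      intro b d
      have e : ∀ u : G, u ∈ A → ⁅u, x⁆ = u * (x * u⁻¹ * x⁻¹) := fun u _ => by
        simp [commutatorElement_def, mul_assoc]
      rw [Subgroup.mem_subgroupOf, Subgroup.coe_mul, Subgroup.coe_inv, hC,
        Subgroup.mem_centralizer_singleton_iff, commutatorElement_def, commutatorElement_def]
      have hb : x * (b : G)⁻¹ * x⁻¹ ∈ A := ‹A.Normal›.conj_mem _ (A.inv_mem b.2) x
      have hd : x * (d : G)⁻¹ * x⁻¹ ∈ A := ‹A.Normal›.conj_mem _ (A.inv_mem d.2) x
      constructor
      · intro h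
        have h' : x * ((b : G)⁻¹ * d)⁻¹ * x⁻¹ = ((b : G)⁻¹ * d)⁻¹ := by
          have := (Commute.inv_left (h : Commute ((b : G)⁻¹ * d) x)).eq
          rw [← this, mul_inv_cancel_right]
        have hbd : x * (d : G)⁻¹ * x⁻¹ = ((b : G)⁻¹ * d)⁻¹ * (x * (b : G)⁻¹ * x⁻¹) := by
          rw [← h']; group
        calc (b : G) * x * (b : G)⁻¹ * x⁻¹ = b * (x * (b : G)⁻¹ * x⁻¹) := by group
          _ = d * (((b : G)⁻¹ * d)⁻¹ * (x * (b : G)⁻¹ * x⁻¹)) := by
            rw [show ((b : G)⁻¹ * d)⁻¹ = (d : G)⁻¹ * b by group]; group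
          _ = d * x * (d : G)⁻¹ * x⁻¹ := by rw [← hbd]; group
      · intro h
        have h' : (b : G) * x * (b : G)⁻¹ = d * x * (d : G)⁻¹ := mul_right_cancel h
        calc (b : G)⁻¹ * d * x = (b : G)⁻¹ * (d * x * (d : G)⁻¹) * d := by group
          _ = x * ((b : G)⁻¹ * d) := by rw [← h']; group
    refine (Nat.card_congr (Equiv.ofBijective
      (Quotient.lift (fun b : A => (⟨⁅(b : G), x⁆, b, b.2, rfl⟩ : T))
        fun b d h => Subtype.ext ((hr b d).1 (QuotientGroup.leftRel_apply.1 h))) ⟨?_, ?_⟩)).symm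
    · rintro ⟨b⟩ ⟨d⟩ h
      exact Quotient.sound (QuotientGroup.leftRel_apply.2 ((hr b d).2 (Subtype.ext_iff.1 h)))
    · rintro ⟨_, b, hb, rfl⟩
      exact ⟨Quotient.mk'' ⟨b, hb⟩, rfl⟩
  -- the orbit of `y` under `U` stays in `T \ {1}`
  set D := Subgroup.centralizer ({y} : Set G) with hD
  have horb : D.relIndex U ≤ C.relIndex U - 1 := by
    have hmaps : ∀ u ∈ U, u * y * u⁻¹ ∈ T \ {1} := by
      intro u hu
      refine ⟨?_, fun h => hy1 (by
        have h' : u * y * u⁻¹ = 1 := h
        calc y = u⁻¹ * (u * y * u⁻¹) * u := by group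
          _ = 1 := by rw [h']; group)⟩
      obtain ⟨c, hc, b, hb, rfl⟩ := Subgroup.mem_sup_of_normal_right.1 hu
      rw [hC, Subgroup.mem_centralizer_singleton_iff] at hc
      refine ⟨c * a * c⁻¹, ‹A.Normal›.conj_mem a ha c, ?_⟩
      show ⁅c * a * c⁻¹, x⁆ = c * b * ⁅a, x⁆ * (c * b)⁻¹
      have hby : b * ⁅a, x⁆ * b⁻¹ = ⁅a, x⁆ := by
        rw [hcomm b hb _ (hTA _ ⟨a, ha, rfl⟩), mul_inv_cancel_right]
      calc ⁅c * a * c⁻¹, x⁆ = ⁅c * a * c⁻¹, c * x * c⁻¹⁆ := by rw [hc, mul_inv_cancel_right]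
        _ = c * ⁅a, x⁆ * c⁻¹ := (conjugate_commutatorElement ..).symm
        _ = c * (b * ⁅a, x⁆ * b⁻¹) * c⁻¹ := by rw [hby]
        _ = _ := by group
    have h1T : (1 : G) ∈ T := ⟨1, one_mem _, commutatorElement_one_left x⟩
    rw [← hTcard, ← Set.ncard_sdiff_singleton_of_mem h1T, ← Nat.card_coe_set_eq, Subgroup.relIndex,
      Subgroup.index]
    have hwd : ∀ u v : U, u⁻¹ * v ∈ D.subgroupOf U ↔ (u : G) * y * (u : G)⁻¹ = v * y * (v : G)⁻¹ := by
      intro u v
      rw [Subgroup.mem_subgroupOf, hD, Subgroup.mem_centralizer_singleton_iff, Subgroup.coe_mul,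
        Subgroup.coe_inv]
      constructor
      · intro h
        calc (u : G) * y * (u : G)⁻¹ = u * (y * ((u : G)⁻¹ * v)) * (v : G)⁻¹ := by group
          _ = v * y * (v : G)⁻¹ := by rw [← h]; group
      · intro h
        calc (u : G)⁻¹ * v * y = (u : G)⁻¹ * (v * y * (v : G)⁻¹) * v := by group
          _ = y * ((u : G)⁻¹ * v) := by rw [← h]; group
    refine Nat.card_le_card_of_injective
      (Quotient.lift (fun u : U => (⟨(u : G) * y * (u : G)⁻¹, hmaps u u.2⟩ : (T \ {1} : Set G)))
        fun u v h => Subtype.ext ((hwd u v).1 (QuotientGroup.leftRel_apply.1 h))) ?_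
    rintro ⟨u⟩ ⟨v⟩ h
    exact Quotient.sound (QuotientGroup.leftRel_apply.2 ((hwd u v).2 (Subtype.ext_iff.1 h)))
  have hpos : 0 < C.relIndex U := Nat.pos_of_ne_zero fun h0 => by
    have := Subgroup.relIndex_dvd_card C U
    rw [h0, zero_dvd_iff] at this
    exact Nat.card_pos.ne' this
  have hlt : D.index < m := by
    calc D.index ≤ (D ⊓ U).index := Nat.le_of_dvd
          (Nat.pos_of_ne_zero Subgroup.index_ne_zero_of_finite) (Subgroup.index_dvd_of_le inf_le_left)
      _ = D.relIndex U * U.index := by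
          rw [← Subgroup.inf_relIndex_right, Subgroup.relIndex_mul_index inf_le_right]
      _ < C.relIndex U * U.index := Nat.mul_lt_mul_of_pos_right (by omega)
          (Nat.pos_of_ne_zero Subgroup.index_ne_zero_of_finite)
      _ = m := by rw [Subgroup.relIndex_mul_index le_sup_left, hxm]
  have hy1' : 1 < D.index := by
    refine Nat.lt_of_le_of_ne (Nat.pos_of_ne_zero Subgroup.index_ne_zero_of_finite) fun h => hyc ?_
    have h' : D = ⊤ := Subgroup.index_eq_one.1 h.symm
    rw [Subgroup.mem_center_iff]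
    exact fun g => Subgroup.mem_centralizer_singleton_iff.1 (show g ∈ D by rw [h']; trivial)
  exact absurd (hmin y hy1') (not_le.2 hlt)

/-- Isaacs: the subgroup generated by the smallest classes has class at most three. -/
theorem lowerCentralSeries_closure_small (A : Subgroup G) [A.Normal] (hA : IsMulCommutative A)
    (hCA : Subgroup.centralizer (A : Set G) = A) (m : ℕ) (hm1 : 1 < m)
    (hmin : ∀ y : G, 1 < (Subgroup.centralizer ({y} : Set G)).index →
      m ≤ (Subgroup.centralizer ({y} : Set G)).index) (M : Subgroup G)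
    (hM : M = Subgroup.closure {x : G | (Subgroup.centralizer ({x} : Set G)).index = 1 ∨
      (Subgroup.centralizer ({x} : Set G)).index = m}) :
    Subgroup.upperCentralSeries ↥M 3 = ⊤ := by
  set Z := Subgroup.center G
  have hMK : ∀ g ∈ M, ∀ a ∈ A, ⁅a, g⁆ ∈ Z := by
    intro g hg
    rw [hM] at hg
    induction hg using Subgroup.closure_induction with
    | mem x hx => exact fun a ha => commutator_mem_center_of_small A hA m hm1 hmin x hx a ha
    | one => exact fun a _ => by rw [commutatorElement_one_right]; exact one_mem _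
    | mul u v _ _ hu hv =>
      intro a ha
      rw [commutatorElement_mul_right_eq_mul_conj, mul_assoc ⁅a, u⁆ u, mul_assoc ⁅a, u⁆,
        Subgroup.mem_center_iff.1 (hv a ha) u, mul_inv_cancel_right]
      exact mul_mem (hu a ha) (hv a ha)
    | inv u _ hu =>
      intro a ha
      have : ⁅a, u⁻¹⁆ = (u⁻¹ * ⁅a, u⁆ * u)⁻¹ := by simp [commutatorElement_def, mul_assoc]
      rw [this]
      refine inv_mem ?_
      have h := Subgroup.mem_center_iff.1 (hu a ha) u⁻¹
      rw [h, inv_mul_cancel_right]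
      exact hu a ha
  have hAM : ⁅A, M⁆ ≤ Z := Subgroup.commutator_le.2 fun a ha g hg => hMK g hg a ha
  have h0 : ⁅⁅A, M⁆, M⁆ = ⊥ := by
    rw [Subgroup.commutator_eq_bot_iff_le_centralizer]
    exact fun z hz => Subgroup.mem_centralizer_iff.2 fun g _ => Subgroup.mem_center_iff.1 (hAM hz) g
  have hMMA : ⁅M, M⁆ ≤ A := by
    rw [← hCA, ← Subgroup.commutator_eq_bot_iff_le_centralizer]
    refine Subgroup.commutator_commutator_eq_bot_of_rotate ?_ h0
    rw [Subgroup.commutator_comm M A]
    exact h0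
  have h3 : ⁅⁅⁅M, M⁆, M⁆, M⁆ = ⊥ := by
    rw [Subgroup.commutator_eq_bot_iff_le_centralizer]
    intro z hz
    exact Subgroup.mem_centralizer_iff.2 fun g _ =>
      Subgroup.mem_center_iff.1 (hAM (Subgroup.commutator_mono hMMA le_rfl hz)) g
  rw [← Subgroup.lowerCentralSeries_eq_bot_iff_upperCentralSeries_eq_top]
  apply Subgroup.map_injective M.subtype_injective
  rw [Subgroup.map_bot]
  simp only [Subgroup.lowerCentralSeries_succ, Subgroup.lowerCentralSeries_zero,
    Subgroup.map_commutator, ← MonoidHom.range_eq_map, Subgroup.range_subtype]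
  exact h3

end CfsgLib.ClassSize
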