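import Cfsg.Agent.Lib.ClassSize.ThreeSizesSmallMain
import Cfsg.Agent.Lib.FGStruct.ClassPSq

/-!
# Class sizes `1`, `m`, `m * n`: some `p`-element, `p` dividing `m`, has small class size
-/

set_option autoImplicit false
set_option linter.style.haveILetI false
set_option linter.unusedSectionVars false

open scoped commutatorElement

namespace CfsgLib.ClassSize.Three

variable {G : Type*} [Group G] [Finite G] {m n : ℕ}

/-- All noncentral elements of prime power order, for the primes of `m`, have big class size. -/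
def AllBig (G : Type*) [Group G] (m n : ℕ) : Prop :=
  ∀ q : ℕ, q.Prime → q ∣ m → ∀ s : G, s ∉ Subgroup.center G → (∃ k, orderOf s = q ^ k) →
    (Cz s).index = m * n

/-- Counting a union of conjugates of `C`. -/
theorem union_bound (C : Subgroup G) (hC : Subgroup.center G ≤ C) {k : ℕ}
    (hk : k * Nat.card C ≤ Nat.card (Subgroup.normalizer (C : Set G))) (hk0 : 0 < k) :
    k * {x : G | x ∉ Subgroup.center G ∧ ∃ g : G, g * x * g⁻¹ ∈ C}.ncard < Nat.card G := by
  classical
  haveI : Fintype G := Fintype.ofFinite G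
  set N := Subgroup.normalizer (C : Set G)
  haveI : Fintype (G ⧸ N) := Fintype.ofFinite _
  set B : Finset G := Finset.univ.filter fun x => x ∈ C ∧ x ∉ Subgroup.center G with hB
  have hBlt : B.card < Nat.card C := by
    rw [Nat.card_eq_fintype_card, Fintype.card_subtype]
    refine Finset.card_lt_card ⟨fun x hx => ?_, fun h => ?_⟩
    · simp only [hB, Finset.mem_filter, Finset.mem_univ, true_and] at hx ⊢
      exact hx.1
    · have := h (Finset.mem_filter.2 ⟨Finset.mem_univ 1, C.one_mem⟩)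
      simp only [hB, Finset.mem_filter, Finset.mem_univ, true_and] at this
      exact this.2 (one_mem _)
  set U : Set G := {x : G | x ∉ Subgroup.center G ∧ ∃ g : G, g * x * g⁻¹ ∈ C}
  have hsub : U.toFinset ⊆ (Finset.univ : Finset (G ⧸ N)).biUnion
      fun q => B.image fun b => q.out * b * q.out⁻¹ := by
    intro x hx
    obtain ⟨hxc, g, hg⟩ := Set.mem_toFinset.1 hx
    obtain ⟨⟨y, hy⟩, hout⟩ := QuotientGroup.mk_out_eq_mul N g⁻¹
    refine Finset.mem_biUnion.2 ⟨((g⁻¹ : G) : G ⧸ N), Finset.mem_univ _, Finset.mem_image.2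
      ⟨y⁻¹ * (g * x * g⁻¹) * y, Finset.mem_filter.2 ⟨Finset.mem_univ _, ?_, ?_⟩, ?_⟩⟩
    · have := (Subgroup.mem_normalizer_iff.1 (inv_mem hy) _).1 hg
      rwa [inv_inv] at this
    · intro h
      apply hxc
      rw [← conj_mem_center_iff (g := y⁻¹ * g)]
      convert h using 1
      group
    · rw [hout]
      show g⁻¹ * y * (y⁻¹ * (g * x * g⁻¹) * y) * (g⁻¹ * y)⁻¹ = x
      group
  have h1 : U.ncard ≤ N.index * B.card := by
    rw [Set.ncard_eq_toFinset_card', Subgroup.index_eq_card, Nat.card_eq_fintype_card]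
    refine (Finset.card_le_card hsub).trans (Finset.card_biUnion_le.trans
      ((Finset.sum_le_card_nsmul _ _ B.card fun q _ => Finset.card_image_le).trans ?_))
    rw [smul_eq_mul, Finset.card_univ]
  calc k * U.ncard ≤ k * (N.index * B.card) := Nat.mul_le_mul_left k h1
    _ < k * (N.index * Nat.card C) := Nat.mul_lt_mul_of_pos_left (Nat.mul_lt_mul_of_pos_left hBlt
          (Nat.pos_of_ne_zero Subgroup.index_ne_zero_of_finite)) hk0
    _ = N.index * (k * Nat.card C) := by ring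
    _ ≤ N.index * Nat.card N := Nat.mul_le_mul_left _ hk
    _ = Nat.card G := by rw [mul_comm, Subgroup.card_mul_index]

namespace Sizes

variable (hS : Sizes G m n) (hN : AllBig G m n)

include hS hN

theorem Cz_le_coprime {p : ℕ} [Fact p.Prime] (hp : p ∣ m) {s w : G}
    (hs : s ∉ Subgroup.center G) (hsp : ∃ k, orderOf s = p ^ k) (hw : w ∈ Cz s)
    (hwp : (orderOf w).Coprime p) : Cz s ≤ Cz w := by
  obtain ⟨k, hk⟩ := hsp
  exact hS.Cz_le_of_big (hN p Fact.out hp s hs ⟨k, hk⟩) (mem_Cz.1 hw).symm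
    (hk ▸ (hwp.symm.pow_left k))

theorem exists_small_primary : ∃ r : ℕ, r.Prime ∧ ¬ r ∣ m ∧ ∃ x : G, (Cz x).index = m ∧
    ∃ k, orderOf x = r ^ k := by
  obtain ⟨y, hy⟩ := hS.small
  obtain ⟨r, hr, a, ha, hac, hak⟩ := exists_primary_noncentral (hS.noncentral_of_index (Or.inl hy))
  have hle : Cz y ≤ Cz a := by
    intro g hg
    obtain ⟨i, rfl⟩ := Subgroup.mem_zpowers_iff.1 ha
    exact mem_Cz.2 ((mem_Cz.1 hg).zpow_right i)
  have hai : (Cz a).index = m := hS.Cz_eq_of_small hy hac hle ▸ hy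
  refine ⟨r, hr, fun hrm => ?_, a, hai, hak⟩
  have h := hN r hr hrm a hac hak
  rw [hai] at h
  have := (Nat.lt_mul_iff_one_lt_right (by have := hS.m_gt; omega : 0 < m)).2 hS.n_gt
  omega

/-- All centralisers of noncentral `p`-elements contain noncentral `r`-elements. -/
theorem exists_rElement {p : ℕ} [Fact p.Prime] (hp : p ∣ m) {r : ℕ} [Fact r.Prime] {x : G}
    (hx : (Cz x).index = m) (hxr : ∃ k, orderOf x = r ^ k) {s : G}
    (hs : s ∉ Subgroup.center G) (hsp : ∃ k, orderOf s = p ^ k) :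
    ∃ e ∈ Cz s, e ∉ Subgroup.center G ∧ ∃ k, orderOf e = r ^ k := by
  have hxc := hS.noncentral_of_index (Or.inl hx)
  obtain ⟨s0, hs0x, hs0c, hs0p⟩ := hS.exists_noncentral_pElement hp hxc
  have hlt := factorization_center_lt (center_le_Cz s0) hxc
    (mem_Cz.2 (mem_Cz.1 hs0x).symm) hxr
  rw [hS.card_eq_of_index_eq ((hN p Fact.out hp s0 hs0c hs0p).trans
    (hN p Fact.out hp s hs hsp).symm)] at hlt
  obtain ⟨T, hT1, hT2, hT3⟩ := exists_full' r (Cz s)
  have hnz : ¬ T ≤ Subgroup.center G := fun hle => by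
    obtain ⟨j, hj, hjc⟩ := le_of_isPGroup hT2 hle
    have := Nat.pow_right_injective (Fact.out : r.Prime).two_le (hjc.symm.trans hT3)
    omega
  obtain ⟨e, heT, he⟩ := SetLike.not_le_iff_exists.1 hnz
  exact ⟨e, hT1 heT, he, orderOf_of_mem hT2 heT⟩

/-- The `p`-elements of `C(s)` form a subgroup. -/
theorem exists_pPart {p : ℕ} [Fact p.Prime] (hp : p ∣ m) {s : G} (hs : s ∉ Subgroup.center G)
    (hsp : ∃ k, orderOf s = p ^ k) :
    ∃ D : Subgroup G, D ≤ Cz s ∧ IsPGroup p D ∧ Nat.card D = p ^ expo G m p ∧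
      (∀ y ∈ Cz s, (∃ k, orderOf y = p ^ k) → y ∈ D) ∧ s ∈ D := by
  obtain ⟨A, hA, kA, hkA⟩ := exists_complement_in p (Cz s) fun Q hQL _ g hgL _ hgp q hq =>
    (mem_Cz.1 (hS.Cz_le_coprime hN hp hs hsp hgL hgp (hQL hq))).symm
  obtain ⟨D, hD1, hD2, hD3⟩ := exists_full' p (Cz s)
  have hAn : A ≤ Subgroup.normalizer (D : Set G) := le_trans (fun a ha =>
    Subgroup.mem_centralizer_iff.2 fun d hd => mem_Cz.1
      (hS.Cz_le_coprime hN hp hs hsp ((hA a).1 ha).1 ((hA a).1 ha).2 (hD1 hd)))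
    (Subgroup.centralizer_le_normalizer _)
  have htop : D ⊔ A = Cz s := eq_of_complement (sup_le hD1 fun a ha => ((hA a).1 ha).1)
    le_sup_right hkA le_sup_left hD3
  have hn : Cz s ≤ Subgroup.normalizer (D : Set G) := htop ▸ sup_le Subgroup.le_normalizer hAn
  have hall : ∀ y ∈ Cz s, (∃ k, orderOf y = p ^ k) → y ∈ D := fun y hy ⟨k, hk⟩ =>
    le_full_of_normal hD2 hD1 hD3 ((Subgroup.zpowers_le.2 hy).trans hn) (isPGroup_zpowers hk)
      (Subgroup.zpowers_le.2 hy) (Subgroup.mem_zpowers y)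
  refine ⟨D, hD1, hD2, ?_, hall, hall s (mem_Cz_self s) hsp⟩
  rw [hD3, hS.factorization_Cz (hS.not_dvd_n hp) hs]

/-- A noncentral `p`-element of `C(s)` centralised by all `p`-elements there has the same
centraliser. -/
theorem Cz_eq_of_central {p : ℕ} [Fact p.Prime] (hp : p ∣ m) {s t : G}
    (hs : s ∉ Subgroup.center G) (hsp : ∃ k, orderOf s = p ^ k) (ht : t ∉ Subgroup.center G)
    (htp : ∃ k, orderOf t = p ^ k) (hts : t ∈ Cz s)
    (hcomm : ∀ y ∈ Cz s, (∃ k, orderOf y = p ^ k) → Commute y t) : Cz t = Cz s := by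
  refine (hS.Cz_eq_of_le ((hN p Fact.out hp s hs hsp).trans (hN p Fact.out hp t ht htp).symm)
    fun g hg => ?_).symm
  obtain ⟨a, b, ha, hb, -, rfl, hak, hbp⟩ := exists_split p g
  exact mem_Cz.2 ((hcomm a (Subgroup.zpowers_le.2 hg ha) hak).mul_left
    (mem_Cz.1 (hS.Cz_le_coprime hN hp hs hsp (Subgroup.zpowers_le.2 hg hb) hbp hts)).symm)

/-- The `p`-group `D` of `C(s)` has index at most `p` in a `p`-group normalising it. -/
theorem relIndex_pPart_dvd {p : ℕ} [Fact p.Prime] (hp : p ∣ m) {s : G}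
    (hs : s ∉ Subgroup.center G) (hsp : ∃ k, orderOf s = p ^ k) {D S : Subgroup G}
    (hD : D ≤ Cz s) (hDp : IsPGroup p D) (hDc : Nat.card D = p ^ expo G m p)
    (hall : ∀ y ∈ Cz s, (∃ k, orderOf y = p ^ k) → y ∈ D) (hsD : s ∈ D) (hSp : IsPGroup p S)
    (hDS : D ≤ S) (hSn : S ≤ Subgroup.normalizer (D : Set G)) : D.relIndex S ∣ p := by
  obtain ⟨r, hr, hrm, x, hx, hxr⟩ := hS.exists_small_primary hN
  haveI : Fact r.Prime := ⟨hr⟩
  have hrp : ∀ i, (r ^ i).Coprime p := fun i =>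
    Nat.Coprime.pow_left i ((Nat.coprime_primes hr Fact.out).2 fun e => hrm (e ▸ hp))
  obtain ⟨A, hA, -, -⟩ := exists_complement_in p (Cz s) fun Q hQL _ g hgL _ hgp q hq =>
    (mem_Cz.1 (hS.Cz_le_coprime hN hp hs hsp hgL hgp (hQL hq))).symm
  have hAD : ∀ a ∈ A, ∀ d ∈ D, Commute d a := fun a ha d hd =>
    mem_Cz.1 (hS.Cz_le_coprime hN hp hs hsp ((hA a).1 ha).1 ((hA a).1 ha).2 (hD hd))
  -- an element of the centre of `D` fixed by `S` modulo the centre
  set Z1 := D ⊓ Subgroup.centralizer (D : Set G)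
  have hSn1 : S ≤ Subgroup.normalizer (Z1 : Set G) := by
    have key : ∀ u ∈ S, ∀ z ∈ Z1, u * z * u⁻¹ ∈ Z1 := fun u hu z hz => by
      refine ⟨(Subgroup.mem_normalizer_iff.1 (hSn hu) z).1 hz.1,
        Subgroup.mem_centralizer_iff.2 fun d hd => ?_⟩
      have hd' : u⁻¹ * d * u ∈ D := by
        have := (Subgroup.mem_normalizer_iff.1 (hSn (inv_mem hu)) d).1 hd
        rwa [inv_inv] at this
      calc d * (u * z * u⁻¹) = u * ((u⁻¹ * d * u) * z) * u⁻¹ := by group
        _ = u * (z * (u⁻¹ * d * u)) * u⁻¹ := by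
          rw [Subgroup.mem_centralizer_iff.1 hz.2 _ hd']
        _ = u * z * u⁻¹ * d := by group
    intro u hu
    rw [Subgroup.mem_normalizer_iff]
    refine fun z => ⟨key u hu z, fun hz => ?_⟩
    simpa [mul_assoc] using key u⁻¹ (inv_mem hu) _ hz
  obtain ⟨z, hz, hzc, hzp, hzS⟩ := exists_fixed_mod_center hSp (inf_le_left.trans hDS) hSn1
    (fun h => hs (h ⟨hsD, Subgroup.mem_centralizer_iff.2 fun d hd => mem_Cz.1 (hD hd)⟩))
  have hCz : Cz z = Cz s := hS.Cz_eq_of_central hN hp hs hsp hzc (orderOf_of_mem hDp hz.1)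
    (hD hz.1) fun y hy hyp => Subgroup.mem_centralizer_iff.1 hz.2 y (hall y hy hyp)
  have hzD : ∀ u ∈ S, Commute u z → u ∈ D := fun u hu huz =>
    hall u (hCz ▸ mem_Cz.2 huz) (orderOf_of_mem hSp hu)
  have hAn : ∀ u ∈ S, ∀ a ∈ A, u * a * u⁻¹ ∈ A := by
    intro u hu a ha
    have hco : (orderOf (u * a * u⁻¹)).Coprime p := by rw [orderOf_conj]; exact ((hA a).1 ha).2
    refine (hA _).2 ⟨?_, hco⟩
    have hsu : u⁻¹ * s * u ∈ D := by
      have := (Subgroup.mem_normalizer_iff.1 (hSn (inv_mem hu)) s).1 hsD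
      rwa [inv_inv] at this
    refine mem_Cz.2 ?_
    have := (hAD a ha _ hsu).symm.map (MulAut.conj u).toMonoidHom
    simpa [mul_assoc] using this
  -- the action on `A` modulo the centre
  set π := QuotientGroup.mk' (Subgroup.center G)
  set V := A.map π
  haveI : IsMulCommutative V := ⟨⟨by
    rintro ⟨_, a, ha, rfl⟩ ⟨_, b, hb, rfl⟩
    refine Subtype.ext ?_
    show π a * π b = π b * π a
    rw [← map_mul, ← map_mul, (mem_Cz.1 (hS.Cz_le_coprime hN hp hs hsp ((hA b).1 hb).1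
      ((hA b).1 hb).2 ((hA a).1 ha).1)).eq]⟩⟩
  haveI : Nontrivial V := by
    rw [Subgroup.nontrivial_iff_ne_bot]
    obtain ⟨e, heC, hec, i, hi⟩ := hS.exists_rElement hN hp hx hxr hs hsp
    intro hbot
    have : π e ∈ V := Subgroup.mem_map_of_mem π ((hA e).2 ⟨heC, hi ▸ hrp i⟩)
    rw [hbot, Subgroup.mem_bot] at this
    exact hec ((QuotientGroup.eq_one_iff e).1 this)
  let g0 : S →* Subgroup.normalizer (V : Set (G ⧸ Subgroup.center G)) :=
    (π.comp S.subtype).codRestrict _ fun u => by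
      refine Subgroup.le_normalizer_map π (Subgroup.mem_map_of_mem π ?_)
      rw [Subgroup.mem_normalizer_iff]
      refine fun a => ⟨hAn u u.2 a, fun ha => ?_⟩
      simpa [mul_assoc] using hAn (u : G)⁻¹ (inv_mem u.2) _ ha
  let g1 : S →* MulAut V := (Subgroup.normalizerMonoidHom V).comp g0
  have hg1 : ∀ (u : S) (y : V), (g1 u y : G ⧸ Subgroup.center G) = π u * y * (π u)⁻¹ :=
    fun u y => rfl
  haveI hDn : (D.subgroupOf S).Normal := (Subgroup.normal_subgroupOf_iff_le_normalizer hDS).2 hSn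
  have hker : D.subgroupOf S ≤ g1.ker := by
    intro d hd
    rw [MonoidHom.mem_ker]
    refine MulEquiv.ext fun y => Subtype.ext ?_
    rw [hg1]
    obtain ⟨a, ha, hay⟩ := y.2
    rw [← hay, ← map_inv, ← map_mul, ← map_mul, (hAD a ha d hd).eq, mul_inv_cancel_right, hay]
    rfl
  haveI : IsMulCommutative (S ⧸ D.subgroupOf S) := ⟨⟨fun a b => by
    induction a using QuotientGroup.induction_on with
    | H a =>
      induction b using QuotientGroup.induction_on with
      | H b =>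
        rw [← commutatorElement_eq_one_iff_mul_comm]
        show QuotientGroup.mk' (D.subgroupOf S) a * QuotientGroup.mk' _ b *
          (QuotientGroup.mk' _ a)⁻¹ * (QuotientGroup.mk' _ b)⁻¹ = 1
        rw [← map_inv, ← map_inv, ← map_mul, ← map_mul, ← map_mul]
        exact (QuotientGroup.eq_one_iff _).2 (Subgroup.mem_subgroupOf.2 (hzD _
          (a * b * a⁻¹ * b⁻¹ : S).2
          (commute_pow_and_commutator hzp (hzS a a.2) (hzS b b.2)).2))⟩⟩
  have hcyc := (isCyclic_of_fpf_mulAut (QuotientGroup.lift _ g1 hker) fun q hq y hy => by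
    obtain ⟨u, rfl⟩ := QuotientGroup.mk'_surjective _ q
    have huD : (u : G) ∉ D := fun h =>
      hq ((QuotientGroup.eq_one_iff u).2 (Subgroup.mem_subgroupOf.2 h))
    obtain ⟨a, ha, hay⟩ := y.2
    refine Subtype.ext ?_
    show (y : G ⧸ Subgroup.center G) = 1
    rw [← hay]
    refine (QuotientGroup.eq_one_iff a).2 ?_
    have h : g1 u y = y := hy
    have h2 := congrArg Subtype.val h
    rw [hg1, ← hay] at h2
    set c := (u : G) * a * (u : G)⁻¹ * a⁻¹
    have hcA : c ∈ A := A.mul_mem (hAn u u.2 a ha) (A.inv_mem ha)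
    have hc : c ∈ Subgroup.center G := by
      rw [← QuotientGroup.eq_one_iff]
      show π ((u : G) * a * (u : G)⁻¹ * a⁻¹) = 1
      simp only [map_mul, map_inv]
      exact mul_inv_eq_one.2 h2
    obtain ⟨i, hi⟩ := orderOf_of_mem hSp u.2
    refine hS.mem_center_of_commute hp hDp hDc ⟨i, hi⟩ (hSn u.2) huD (fun d hd => hAD a ha d hd) ?_
    exact commute_of_central_commutator hc (show (u : G) * a * (u : G)⁻¹ = c * a by
        simp only [c]; group) (a := p ^ i) (b := orderOf c)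
      (by rw [← hi, pow_orderOf_eq_one]; exact Commute.one_left a) (pow_orderOf_eq_one c)
      (((hA c).1 hcA).2.symm.pow_left i)).1 inferInstance
  haveI := hcyc
  show Nat.card (S ⧸ D.subgroupOf S) ∣ p
  rw [← IsCyclic.exponent_eq_card]
  refine Monoid.exponent_dvd_of_forall_pow_eq_one fun q => ?_
  obtain ⟨u, rfl⟩ := QuotientGroup.mk'_surjective _ q
  rw [← map_pow]
  exact (QuotientGroup.eq_one_iff _).2 (Subgroup.mem_subgroupOf.2 (hzD _ (u ^ p : S).2
    (commute_pow_and_commutator hzp (hzS u u.2) (hzS u u.2)).1))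

/-- The `p`-part of a centraliser is one larger than that of the centre. -/
theorem expo_eq {p : ℕ} [Fact p.Prime] (hp : p ∣ m) :
    expo G m p = (Nat.card (Subgroup.center G)).factorization p + 1 := by
  have hpp : p.Prime := Fact.out
  by_contra hne
  have hlt := hS.factorization_center_lt_expo hp
  set E := expo G m p
  obtain ⟨r, hr, hrm, x, hx, hxr⟩ := hS.exists_small_primary hN
  haveI : Fact r.Prime := ⟨hr⟩
  have hrp : ∀ i, (r ^ i).Coprime p := fun i =>
    Nat.Coprime.pow_left i ((Nat.coprime_primes hr hpp).2 fun e => hrm (e ▸ hp))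
  -- two such subgroups of index `≤ p` in a `p`-group are equal
  have key : ∀ s s' : G, s ∉ Subgroup.center G → (∃ k, orderOf s = p ^ k) →
      s' ∉ Subgroup.center G → (∃ k, orderOf s' = p ^ k) → ∀ D D' Q : Subgroup G,
      D ≤ Cz s → Nat.card D = p ^ E → D' ≤ Cz s' → Nat.card D' = p ^ E → s ∈ D → s' ∈ D' →
      IsPGroup p Q → D ≤ Q → D' ≤ Q → Nat.card Q ∣ p ^ (E + 1) → D = D' := by
    intro s s' hs hsp hs' hsp' D D' Q hD hDc hD' hDc' hsD hsD' hQ hDQ hDQ' hQc
    have hinter : ¬ (D' ⊓ D ≤ Subgroup.center G) := by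
      intro hle
      obtain ⟨j, hj, hjc⟩ := le_of_isPGroup (hQ.to_le (inf_le_right.trans hDQ)) hle
      have h1 := card_mul_relIndex' (inf_le_right : D' ⊓ D ≤ D)
      rw [Subgroup.inf_relIndex_right, hjc, hDc] at h1
      have h2 : D'.relIndex Q ≠ 0 := fun e => by
        have := card_mul_relIndex' hDQ'
        rw [e, mul_zero] at this
        exact Nat.card_pos.ne this
      have h3 : D'.relIndex D ≤ D'.relIndex Q := Subgroup.relIndex_le_of_le_right hDQ h2
      have h4 : D'.relIndex Q ≤ p := by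
        have h5 := Nat.le_of_dvd (pow_pos hpp.pos _) hQc
        rw [← card_mul_relIndex' hDQ', hDc', pow_succ] at h5
        exact Nat.le_of_mul_le_mul_left h5 (pow_pos hpp.pos _)
      have h6 : p ^ E ≤ p ^ (j + 1) := by
        rw [← h1, pow_succ]
        exact Nat.mul_le_mul_left _ (h3.trans h4)
      have := (Nat.pow_le_pow_iff_right hpp.one_lt).1 h6
      omega
    obtain ⟨t, htI, htc⟩ := SetLike.not_le_iff_exists.1 hinter
    have htp := orderOf_of_mem (hQ.to_le (inf_le_right.trans hDQ)) htI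
    obtain ⟨e, het, hec, i, hi⟩ := hS.exists_rElement hN hp hx hxr htc htp
    have hle := hS.Cz_le_coprime hN hp htc htp het (hi ▸ hrp i)
    have hcomm : ∀ u : G, u ∉ Subgroup.center G → (∃ k, orderOf u = p ^ k) → t ∈ Cz u →
        Cz u ≤ Cz e := fun u hu hup htu =>
      hS.Cz_le_coprime hN hp hu hup
        (mem_Cz.2 (mem_Cz.1 (hle (mem_Cz.2 (mem_Cz.1 htu).symm))).symm) (hi ▸ hrp i)
    have hDe : D ≤ Cz e := hD.trans (hcomm s hs hsp (hD htI.2))
    have hDe' : D' ≤ Cz e := hD'.trans (hcomm s' hs' hsp' (hD' htI.1))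
    have hDD := hQ.to_le (sup_le hDQ hDQ')
    rw [hS.eq_of_expo hp hec le_sup_left hDD (sup_le hDe hDe') hDc]
    exact (hS.eq_of_expo hp hec le_sup_right hDD (sup_le hDe hDe') hDc').symm
  obtain ⟨y, hy⟩ := hS.big
  obtain ⟨s, -, hs, hsp⟩ := hS.exists_noncentral_pElement hp (hS.noncentral_of_index (Or.inr hy))
  obtain ⟨D, hD, hDp, hDc, hDall, hsD⟩ := hS.exists_pPart hN hp hs hsp
  obtain ⟨P, hP⟩ := hDp.exists_le_sylow
  set S := (P : Subgroup G) ⊓ Subgroup.normalizer (D : Set G) with hSdef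
  have hDS : D ≤ S := le_inf hP Subgroup.le_normalizer
  have hSp : IsPGroup p S := P.isPGroup'.to_le inf_le_left
  have hSc : Nat.card S ∣ p ^ (E + 1) := by
    rw [← card_mul_relIndex' hDS, hDc, pow_succ]
    exact Nat.mul_dvd_mul_left _
      (hS.relIndex_pPart_dvd hN hp hs hsp hD hDp hDc hDall hsD hSp hDS inf_le_right)
  have hSP : S = (P : Subgroup G) := by
    by_contra hne'
    obtain ⟨g, hgP, hgS, hgn, -⟩ :=
      exists_normalizer_step P.isPGroup' (lt_of_le_of_ne inf_le_left hne')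
    have hD' : D.map (MulAut.conj g).toMonoidHom = D := by
      refine (key s (g * s * g⁻¹) hs hsp (fun h => hs (conj_mem_center_iff.1 h))
        (by rw [orderOf_conj]; exact hsp) D (D.map (MulAut.conj g).toMonoidHom) S hD hDc ?_ ?_ hsD
        ⟨s, hsD, MulAut.conj_apply g s⟩ hSp hDS ?_ hSc).symm
      · rw [Cz_conj]; exact Subgroup.map_mono hD
      · rw [Subgroup.card_map_of_injective (MulAut.conj g).injective, hDc]
      · rintro _ ⟨d, hd, rfl⟩
        show g * d * g⁻¹ ∈ S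
        exact (Subgroup.mem_normalizer_iff.1 hgn d).1 (hDS hd)
    refine hgS ⟨hgP, ?_⟩
    show g ∈ Subgroup.normalizer (D : Set G)
    rw [Subgroup.mem_normalizer_iff]
    intro d
    conv_rhs => rw [← hD', Subgroup.mem_map_equiv, MulAut.conj_symm_apply]
    simp [mul_assoc]
  rw [hSP] at hSc
  have hU : Cz s = ⊤ := by
    refine CfsgLib.FGStruct.PPowerClass.eq_top_of_conj_cover _ fun x => ?_
    by_cases hxc : x ∈ Subgroup.center G
    · exact ⟨1, by simpa using center_le_Cz s hxc⟩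
    obtain ⟨t, htx, htc, htp⟩ := hS.exists_noncentral_pElement hp hxc
    obtain ⟨D1, hD1, hD1p, hD1c, hD1all, htD1⟩ := hS.exists_pPart hN hp htc htp
    obtain ⟨P1, hP1⟩ := hD1p.exists_le_sylow
    obtain ⟨g, hg⟩ := MulAction.exists_smul_eq G P1 P
    set t' := g * t * g⁻¹ with ht'
    have ht'c : t' ∉ Subgroup.center G := fun h => htc (conj_mem_center_iff.1 h)
    have ht'p : ∃ k, orderOf t' = p ^ k := by rw [ht', orderOf_conj]; exact htp
    have hD'le : D1.map (MulAut.conj g).toMonoidHom ≤ (P : Subgroup G) := by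
      rw [← hg]
      rintro _ ⟨d, hd, rfl⟩
      exact Subgroup.smul_mem_pointwise_smul d (MulAut.conj g) _ (hP1 hd)
    have hD'Cz : D1.map (MulAut.conj g).toMonoidHom ≤ Cz t' := by
      rw [ht', Cz_conj]; exact Subgroup.map_mono hD1
    have heq := key s t' hs hsp ht'c ht'p D _ P hD hDc hD'Cz
      (by rw [Subgroup.card_map_of_injective (MulAut.conj g).injective, hD1c]) hsD
      ⟨t, htD1, MulAut.conj_apply g t⟩ P.isPGroup' hP hD'le hSc
    have ht'D : t' ∈ D := heq ▸ ⟨t, htD1, MulAut.conj_apply g t⟩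
    have hCz : Cz t' = Cz s := hS.Cz_eq_of_central hN hp hs hsp ht'c ht'p (hD ht'D)
      fun y hy hyp => mem_Cz.1 (hD'Cz (heq ▸ hDall y hy hyp))
    refine ⟨g⁻¹, ?_⟩
    rw [inv_inv, ← hCz, ht', conj_mem_Cz_iff]
    exact mem_Cz.2 (mem_Cz.1 htx).symm
  exact hs ((index_Cz_eq_one_iff s).1 (by rw [hU, Subgroup.index_top]))

end Sizes

end CfsgLib.ClassSize.Three
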