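import Cfsg.Agent.Lib.ClassSize.ThreeSizesBigP

/-!
# Class sizes `1`, `m`, `m * n`: the case in which all `p`-elements are big is impossible
-/

set_option autoImplicit false
set_option linter.style.haveILetI false
set_option linter.unusedSectionVars false

namespace CfsgLib.ClassSize.Three

variable {G : Type*} [Group G] [Finite G] {m n p : ℕ} [Fact p.Prime]

/-- The `p`-elements of the centre. -/
theorem exists_Zp (p : ℕ) [Fact p.Prime] (G : Type*) [Group G] [Finite G] :
    ∃ T : Subgroup G, T ≤ Subgroup.center G ∧ IsPGroup p T ∧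
      Nat.card T = p ^ (Nat.card (Subgroup.center G)).factorization p ∧
      (∀ y ∈ Subgroup.center G, (∃ k, orderOf y = p ^ k) → y ∈ T) ∧
      ∀ P : Sylow p G, T ≤ (P : Subgroup G) := by
  obtain ⟨T, hT1, hT2, hT3⟩ := exists_full' p (Subgroup.center G)
  haveI hTn : T.Normal := ⟨fun t ht g => by
    rw [Subgroup.mem_center_iff.1 (hT1 ht) g, mul_inv_cancel_right]; exact ht⟩
  refine ⟨T, hT1, hT2, hT3, fun y hy ⟨k, hk⟩ => le_full_of_normal hT2 hT1 hT3
    (Subgroup.normalizer_eq_top_iff.2 hTn ▸ le_top) (isPGroup_zpowers hk)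
    (Subgroup.zpowers_le.2 hy) (Subgroup.mem_zpowers y), fun P => ?_⟩
  exact le_sup_left.trans (P.is_maximal' (hT2.to_sup_of_normal_left P.isPGroup') le_sup_right).le

namespace Sizes

variable (hS : Sizes G m n) (hN : AllBig G m n) (hp : p ∣ m)

include hS hN hp

/-- For a noncentral `p`-element `s`, the `p`-elements of `C(s)` are `Z_p⟨s⟩`. -/
theorem line_spec {T : Subgroup G} (hT1 : T ≤ Subgroup.center G)
    (hT3 : Nat.card T = p ^ (Nat.card (Subgroup.center G)).factorization p)
    (hT4 : ∀ y ∈ Subgroup.center G, (∃ k, orderOf y = p ^ k) → y ∈ T) {s : G}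
    (hs : s ∉ Subgroup.center G) (hsp : ∃ k, orderOf s = p ^ k) :
    IsPGroup p (T ⊔ Subgroup.zpowers s : Subgroup G) ∧
      Nat.card (T ⊔ Subgroup.zpowers s : Subgroup G) = p ^ expo G m p ∧
      (∀ y ∈ Cz s, (∃ k, orderOf y = p ^ k) → y ∈ T ⊔ Subgroup.zpowers s) ∧
      T ⊔ Subgroup.zpowers s ≤ Cz s ∧
      ∀ t ∈ T ⊔ Subgroup.zpowers s, t ∉ Subgroup.center G →
        Cz t = Cz s ∧ T ⊔ Subgroup.zpowers t = T ⊔ Subgroup.zpowers s := by
  obtain ⟨D, hD, hDp, hDc, hall, hsD⟩ := hS.exists_pPart hN hp hs hsp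
  have hE := hS.expo_eq hN hp
  have hTp : IsPGroup p T := IsPGroup.of_card hT3
  have hTD : T ≤ D := fun y hy => hall y (center_le_Cz s (hT1 hy)) (orderOf_of_mem hTp hy)
  have hfull : ∀ t ∈ D, t ∉ Subgroup.center G → T ⊔ Subgroup.zpowers t = D := by
    intro t ht htc
    have hle : T ⊔ Subgroup.zpowers t ≤ D := sup_le hTD (Subgroup.zpowers_le.2 ht)
    have hlt : T < T ⊔ Subgroup.zpowers t := lt_of_le_of_ne le_sup_left fun e =>
      htc (hT1 (e.ge (le_sup_right (α := Subgroup G) (Subgroup.mem_zpowers t))))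
    obtain ⟨j, hj⟩ := IsPGroup.iff_card.1 (hDp.to_le hle)
    refine Subgroup.eq_of_le_of_card_ge hle ?_
    have h1 : Nat.card T < Nat.card (T ⊔ Subgroup.zpowers t : Subgroup G) := by
      by_contra h
      exact hlt.ne (Subgroup.eq_of_le_of_card_ge hlt.le (not_lt.1 h))
    rw [hT3, hj, Nat.pow_lt_pow_iff_right (Fact.out : p.Prime).one_lt] at h1
    rw [hj, hDc]
    exact Nat.pow_le_pow_right (Fact.out : p.Prime).pos (by omega)
  rw [hfull s hsD hs]
  refine ⟨hDp, hDc, hall, hD, fun t ht htc => ⟨?_, hfull t ht htc⟩⟩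
  refine hS.Cz_eq_of_central hN hp hs hsp htc (orderOf_of_mem hDp ht) (hD ht) fun y hy hyp => ?_
  have hle : T ⊔ Subgroup.zpowers s ≤ Cz t :=
    sup_le (hT1.trans (center_le_Cz t)) (Subgroup.zpowers_le.2 (mem_Cz.2 (mem_Cz.1 (hD ht)).symm))
  exact mem_Cz.1 (hle ((hfull s hsD hs).symm ▸ hall y hy hyp))

/-- In a Sylow subgroup every noncentral element generates, with `Z_p`, a normal subgroup of index
`p`, central modulo the centre. -/
theorem sylow_spec {T : Subgroup G} (hT1 : T ≤ Subgroup.center G)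
    (hT3 : Nat.card T = p ^ (Nat.card (Subgroup.center G)).factorization p)
    (hT4 : ∀ y ∈ Subgroup.center G, (∃ k, orderOf y = p ^ k) → y ∈ T)
    (hT5 : ∀ P : Sylow p G, T ≤ (P : Subgroup G)) (P : Sylow p G) :
    (Nat.card G).factorization p = expo G m p + 1 ∧
      ∀ s ∈ (P : Subgroup G), s ∉ Subgroup.center G →
        T ⊔ Subgroup.zpowers s ≤ (P : Subgroup G) ∧
        (∀ u ∈ (P : Subgroup G), ∃ c ∈ Subgroup.center G, u * s * u⁻¹ = c * s) ∧
        ∀ v ∈ (P : Subgroup G), v ∉ T ⊔ Subgroup.zpowers s →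
          T ⊔ Subgroup.zpowers s ⊔ Subgroup.zpowers v = (P : Subgroup G) := by
  have hpp : p.Prime := Fact.out
  have hPp := P.isPGroup'
  have hle : ∀ s ∈ (P : Subgroup G), T ⊔ Subgroup.zpowers s ≤ (P : Subgroup G) :=
    fun s hs => sup_le (hT5 P) (Subgroup.zpowers_le.2 hs)
  -- a noncentral element fixed by `P` modulo the centre
  have hnz : ¬ (P : Subgroup G) ≤ Subgroup.center G := fun h => by
    obtain ⟨j, hj, hjc⟩ := le_of_isPGroup hPp h
    rw [Sylow.card_eq_multiplicity] at hjc
    have h1 := Nat.pow_right_injective hpp.two_le hjc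
    have h2 := hS.factorization_center_lt_expo hp
    rw [expo] at h2
    omega
  obtain ⟨z, hzP, hzc, -, hzf⟩ :=
    exists_fixed_mod_center hPp le_rfl Subgroup.le_normalizer hnz
  have hzo := orderOf_of_mem hPp hzP
  obtain ⟨hDp, hDc, hall, hD, hline⟩ := hS.line_spec hN hp hT1 hT3 hT4 hzc hzo
  have hPn : (P : Subgroup G) ≤ Subgroup.normalizer
      ((T ⊔ Subgroup.zpowers z : Subgroup G) : Set G) := by
    have key : ∀ u ∈ (P : Subgroup G), ∀ d ∈ T ⊔ Subgroup.zpowers z,
        u * d * u⁻¹ ∈ T ⊔ Subgroup.zpowers z := by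
      intro u hu d hd
      suffices h : T ⊔ Subgroup.zpowers z ≤
          (T ⊔ Subgroup.zpowers z).comap (MulAut.conj u).toMonoidHom by
        simpa using h hd
      refine sup_le (fun t ht => ?_) (Subgroup.zpowers_le.2 ?_)
      · show u * t * u⁻¹ ∈ T ⊔ Subgroup.zpowers z
        rw [Subgroup.mem_center_iff.1 (hT1 ht) u, mul_inv_cancel_right]
        exact Subgroup.mem_sup_left ht
      · show u * z * u⁻¹ ∈ T ⊔ Subgroup.zpowers z
        obtain ⟨c, hc, hcz⟩ := hzf u hu
        have hcP : c ∈ (P : Subgroup G) := by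
          have := mul_mem (mul_mem (mul_mem hu hzP) (inv_mem hu)) (inv_mem hzP)
          rwa [hcz, mul_inv_cancel_right] at this
        rw [hcz]
        exact mul_mem (Subgroup.mem_sup_left (hT4 c hc (orderOf_of_mem hPp hcP)))
          (Subgroup.mem_sup_right (Subgroup.mem_zpowers z))
    intro u hu
    rw [Subgroup.mem_normalizer_iff]
    refine fun d => ⟨key u hu d, fun hd => ?_⟩
    simpa [mul_assoc] using key u⁻¹ (inv_mem hu) _ hd
  have hfac : (Nat.card G).factorization p = expo G m p + 1 := by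
    have h1 := hS.relIndex_pPart_dvd hN hp hzc hzo hD hDp hDc hall
      (Subgroup.mem_sup_right (Subgroup.mem_zpowers z)) hPp (hle z hzP) hPn
    have h2 : Nat.card (P : Subgroup G) ∣ p ^ (expo G m p + 1) := by
      rw [← card_mul_relIndex' (hle z hzP), hDc, pow_succ]
      exact Nat.mul_dvd_mul_left _ h1
    rw [Sylow.card_eq_multiplicity, Nat.pow_dvd_pow_iff_le_right hpp.one_lt] at h2
    have := hS.factorization_m_pos hp
    have := hS.factorization_m_le p
    rw [expo] at h2 ⊢
    omega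
  refine ⟨hfac, fun s hs hsc => ?_⟩
  have hso := orderOf_of_mem hPp hs
  obtain ⟨hEp, hEc, -, -, hEline⟩ := hS.line_spec hN hp hT1 hT3 hT4 hsc hso
  have hmax : ∀ v ∈ (P : Subgroup G), v ∉ T ⊔ Subgroup.zpowers s →
      T ⊔ Subgroup.zpowers s ⊔ Subgroup.zpowers v = (P : Subgroup G) := by
    intro v hv hvs
    have hle' := sup_le (hle s hs) (Subgroup.zpowers_le.2 hv)
    obtain ⟨j, hj⟩ := IsPGroup.iff_card.1 (hPp.to_le hle')
    refine Subgroup.eq_of_le_of_card_ge hle' ?_
    have hlt : Nat.card (T ⊔ Subgroup.zpowers s : Subgroup G) <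
        Nat.card (T ⊔ Subgroup.zpowers s ⊔ Subgroup.zpowers v : Subgroup G) := by
      by_contra h
      exact hvs ((Subgroup.eq_of_le_of_card_ge le_sup_left (not_lt.1 h)).ge
        (le_sup_right (α := Subgroup G) (Subgroup.mem_zpowers v)))
    rw [hEc, hj, Nat.pow_lt_pow_iff_right hpp.one_lt] at hlt
    rw [hj, Sylow.card_eq_multiplicity, hfac]
    exact Nat.pow_le_pow_right hpp.pos (by omega)
  refine ⟨hle s hs, ?_, hmax⟩
  -- `P` is normalised to a central element modulo the centre
  obtain ⟨v, hvP, hvs, hvn, -⟩ := exists_normalizer_step hPp (lt_of_le_of_ne (hle s hs) fun e => by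
    have h : Nat.card (P : Subgroup G) = p ^ expo G m p := by rw [← e]; exact hEc
    rw [Sylow.card_eq_multiplicity, hfac] at h
    have := Nat.pow_right_injective hpp.two_le h
    omega)
  have hn : (P : Subgroup G) ≤ Subgroup.normalizer
      ((T ⊔ Subgroup.zpowers s : Subgroup G) : Set G) := by
    rw [← hmax v hvP hvs]
    exact sup_le Subgroup.le_normalizer (Subgroup.zpowers_le.2 hvn)
  obtain ⟨w, hw, hwc, -, hwf⟩ := exists_fixed_mod_center hPp (hle s hs) hn
    (fun h => hsc (h (Subgroup.mem_sup_right (Subgroup.mem_zpowers s))))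
  intro u hu
  set π := QuotientGroup.mk' (Subgroup.center G)
  have h1 : π u ∈ Subgroup.centralizer ({π w} : Set (G ⧸ Subgroup.center G)) := by
    obtain ⟨c, hc, hcw⟩ := hwf u hu
    rw [Subgroup.mem_centralizer_singleton_iff]
    have : π (u * w * u⁻¹) = π w := by
      rw [hcw, map_mul, show π c = 1 from (QuotientGroup.eq_one_iff c).2 hc, one_mul]
    rwa [map_mul, map_mul, map_inv, mul_inv_eq_iff_eq_mul] at this
  have h2 : T ⊔ Subgroup.zpowers w ≤
      (Subgroup.centralizer ({π u} : Set (G ⧸ Subgroup.center G))).comap π := by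
    refine sup_le (fun t ht => ?_) (Subgroup.zpowers_le.2 ?_)
    · rw [Subgroup.mem_comap, show π t = 1 from (QuotientGroup.eq_one_iff t).2 (hT1 ht)]
      exact one_mem _
    · rw [Subgroup.mem_comap, Subgroup.mem_centralizer_singleton_iff]
      exact (Subgroup.mem_centralizer_singleton_iff.1 h1).symm
  rw [(hEline w hw hwc).2] at h2
  have h3 := h2 (Subgroup.mem_sup_right (Subgroup.mem_zpowers s))
  rw [Subgroup.mem_comap, Subgroup.mem_centralizer_singleton_iff] at h3
  refine ⟨u * s * u⁻¹ * s⁻¹, ?_, by group⟩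
  rw [← QuotientGroup.eq_one_iff]
  show π (u * s * u⁻¹ * s⁻¹) = 1
  simp only [map_mul, map_inv]
  rw [← h3]
  group

/-- An element normalising a Sylow `p`-subgroup, of order prime to `p`, centralises it. -/
theorem commute_of_normalizer (P : Sylow p G) {g : G}
    (hg : g ∈ Subgroup.normalizer ((P : Subgroup G) : Set G)) (hgp : (orderOf g).Coprime p) :
    ∀ y ∈ (P : Subgroup G), Commute g y := by
  classical
  haveI : Fintype G := Fintype.ofFinite G
  have hpp : p.Prime := Fact.out
  obtain ⟨T, hT1, hT2, hT3, hT4, hT5⟩ := exists_Zp p G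
  obtain ⟨hfac, hsyl⟩ := hS.sylow_spec hN hp hT1 hT3 hT4 hT5 P
  have hE := hS.expo_eq hN hp
  have hPp := P.isPGroup'
  have hspec := fun (s : G) (hs : s ∈ (P : Subgroup G)) (hsc : s ∉ Subgroup.center G) =>
    hS.line_spec hN hp hT1 hT3 hT4 hsc (orderOf_of_mem hPp hs)
  by_contra hno
  push Not at hno
  obtain ⟨y0, hy0, hy0g⟩ := hno
  have hconjP : ∀ a ∈ (P : Subgroup G), g * a * g⁻¹ ∈ (P : Subgroup G) :=
    fun a ha => (Subgroup.mem_normalizer_iff.1 hg a).1 ha
  -- `g` centralises no noncentral element of `P`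
  have hgC : ∀ s ∈ (P : Subgroup G), s ∉ Subgroup.center G → g ∉ Cz s := by
    intro s hs hsc hgs
    obtain ⟨-, -, -, -, hline⟩ := hspec s hs hsc
    apply hy0g
    obtain ⟨c, hc, hcs⟩ := (hsyl s hs hsc).2.1 y0 hy0
    have hcP : c ∈ (P : Subgroup G) := by
      have := mul_mem (mul_mem (mul_mem hy0 hs) (inv_mem hy0)) (inv_mem hs)
      rwa [hcs, mul_inv_cancel_right] at this
    have hy0s : y0 * s * y0⁻¹ ∈ T ⊔ Subgroup.zpowers s := by
      rw [hcs]
      exact mul_mem (Subgroup.mem_sup_left (hT4 c hc (orderOf_of_mem hPp hcP)))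
        (Subgroup.mem_sup_right (Subgroup.mem_zpowers s))
    have hCz := (hline _ hy0s (fun h => hsc (conj_mem_center_iff.1 h))).1
    have hso := orderOf_of_mem hPp hs
    set a := y0 * g * y0⁻¹ * g⁻¹
    have haP : a ∈ (P : Subgroup G) := by
      rw [show a = y0 * (g * y0⁻¹ * g⁻¹) by simp only [a]; group]
      exact mul_mem hy0 (hconjP _ (inv_mem hy0))
    have hg' : y0 * g * y0⁻¹ ∈ Cz s := hCz ▸ conj_mem_Cz_iff.2 hgs
    have hco : (orderOf (y0 * g * y0⁻¹)).Coprime p := by rw [orderOf_conj]; exact hgp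
    have hcomm : Commute (y0 * g * y0⁻¹) g :=
      (mem_Cz.1 (hS.Cz_le_coprime hN hp hsc hso hg' hco hgs)).symm
    have hap : (orderOf a).Coprime p := by
      refine Nat.Coprime.coprime_dvd_left hcomm.inv_right.orderOf_mul_dvd_lcm ?_
      rw [orderOf_inv]
      exact Nat.Coprime.coprime_dvd_left (Nat.lcm_dvd_mul _ _) (hco.mul_left hgp)
    have ha1 := eq_one_of_pow_coprime (orderOf_of_mem hPp haP) hap
    exact (mul_inv_eq_iff_eq_mul.1 (mul_inv_eq_one.1 ha1)).symm
  -- counting
  set Dl : G → Subgroup G := fun s => T ⊔ Subgroup.zpowers s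
  set Ω := Finset.univ.filter fun x : G => x ∉ Subgroup.center G with hΩ
  set S0 := Finset.univ.filter fun s : G => s ∈ (P : Subgroup G) ∧ s ∉ Subgroup.center G with hS0
  set w : G → ℕ := fun s => if g * s * g⁻¹ ∈ Dl s then 2 else 1 with hw
  set z := p ^ (Nat.card (Subgroup.center G)).factorization p with hz
  have hz0 : 0 < z := pow_pos hpp.pos _
  have hcardfilter : ∀ H : Subgroup G,
      (Finset.univ.filter fun x : G => x ∈ H).card = Nat.card H := fun H => by
    rw [Nat.card_eq_fintype_card, Fintype.card_subtype]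
  have hnoncen : ∀ H : Subgroup G, IsPGroup p H → T ≤ H →
      (Finset.univ.filter fun x : G => x ∈ H ∧ x ∉ Subgroup.center G).card + z = Nat.card H := by
    intro H hH hTH
    have h1 : (Finset.univ.filter fun x : G => x ∈ H ∧ x ∈ Subgroup.center G) =
        Finset.univ.filter fun x : G => x ∈ T := by
      ext x
      simp only [Finset.mem_filter, Finset.mem_univ, true_and]
      exact ⟨fun h => hT4 x h.2 (orderOf_of_mem hH h.1), fun h => ⟨hTH h, hT1 h⟩⟩
    rw [← hcardfilter H, ← Finset.card_filter_add_card_filter_not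
      (s := Finset.univ.filter fun x : G => x ∈ H) (fun x => x ∉ Subgroup.center G),
      Finset.filter_filter, Finset.filter_filter]
    congr 1
    rw [show (Finset.univ.filter fun a : G => a ∈ H ∧ ¬a ∉ Subgroup.center G) =
      Finset.univ.filter fun x : G => x ∈ T by rw [← h1]; simp, hcardfilter, hT3]
  have hS0card : S0.card + z = p ^ (expo G m p + 1) := by
    rw [hS0, hnoncen _ hPp (hT5 P), Sylow.card_eq_multiplicity, hfac]
  set B : G → Finset G := fun s =>
    Finset.univ.filter fun x : G => x ∈ Dl s ∧ x ∉ Subgroup.center G with hB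
  have hBcard : ∀ s ∈ S0, (B s).card + z = p ^ expo G m p := by
    intro s hs
    simp only [hS0, Finset.mem_filter, Finset.mem_univ, true_and] at hs
    obtain ⟨hDp, hDc, -, -, -⟩ := hspec s hs.1 hs.2
    simp only [hB]
    rw [hnoncen _ hDp le_sup_left, hDc]
  have hconjD : ∀ s : G, (Dl s).map (MulAut.conj g).toMonoidHom = Dl (g * s * g⁻¹) := by
    intro s
    simp only [Dl]
    rw [Subgroup.map_sup, MonoidHom.map_zpowers]
    congr 1
    ext t
    constructor
    · rintro ⟨a, ha, rfl⟩
      show g * a * g⁻¹ ∈ T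
      rw [Subgroup.mem_center_iff.1 (hT1 ha) g, mul_inv_cancel_right]
      exact ha
    · intro ht
      exact ⟨t, ht, by
        show g * t * g⁻¹ = t
        rw [Subgroup.mem_center_iff.1 (hT1 ht) g, mul_inv_cancel_right]⟩
  set U : G → Finset G := fun s => Ω.filter fun x => ∃ c : G, c * x * c⁻¹ ∈ Cz s with hU
  -- each noncentral element is counted often
  have hlow : ∀ x ∈ Ω, 2 * (p ^ expo G m p - z) ≤ ∑ s ∈ S0.filter (fun s => x ∈ U s), w s := by
    intro x hxΩ
    have hx : x ∉ Subgroup.center G := by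
      simpa [hΩ] using hxΩ
    obtain ⟨t, htx, htc, kt, hkt⟩ := hS.exists_noncentral_pElement hp hx
    obtain ⟨P1, hP1⟩ := (isPGroup_zpowers hkt).exists_le_sylow
    obtain ⟨c, hc⟩ := MulAction.exists_smul_eq G P1 P
    set s := c * t * c⁻¹ with hs
    have hsP : s ∈ (P : Subgroup G) := by
      rw [← hc]
      exact Subgroup.smul_mem_pointwise_smul t (MulAut.conj c) _ (hP1 (Subgroup.mem_zpowers t))
    have hsc : s ∉ Subgroup.center G := fun h => htc (conj_mem_center_iff.1 h)
    have hxs : c * x * c⁻¹ ∈ Cz s := conj_mem_Cz_iff.2 (mem_Cz.2 (mem_Cz.1 htx).symm)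
    obtain ⟨hDp, -, -, -, hline⟩ := hspec s hsP hsc
    have hsS : s ∈ S0 := by simp [hS0, hsP, hsc]
    have hBsub : ∀ a ∈ B s, a ∈ S0.filter (fun a => x ∈ U a) := by
      intro a ha
      simp only [hB, Finset.mem_filter, Finset.mem_univ, true_and] at ha
      simp only [Finset.mem_filter, hS0, Finset.mem_univ, true_and, hU]
      refine ⟨⟨(hsyl s hsP hsc).1 ha.1, ha.2⟩, hxΩ, c, ?_⟩
      rw [(hline a ha.1 ha.2).1]
      exact hxs
    have hBc := hBcard s hsS
    by_cases hfix : g * s * g⁻¹ ∈ Dl s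
    · have hw2 : ∀ a ∈ B s, w a = 2 := by
        intro a ha
        simp only [hB, Finset.mem_filter, Finset.mem_univ, true_and] at ha
        simp only [hw]
        rw [if_pos]
        rw [show Dl a = Dl s from (hline a ha.1 ha.2).2]
        have h1 : g * a * g⁻¹ ∈ Dl (g * s * g⁻¹) :=
          hconjD s ▸ ⟨a, ha.1, MulAut.conj_apply g a⟩
        rwa [show Dl (g * s * g⁻¹) = Dl s from
          (hline _ hfix (fun h => hsc (conj_mem_center_iff.1 h))).2] at h1
      calc 2 * (p ^ expo G m p - z) = ∑ a ∈ B s, w a := by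
            rw [Finset.sum_congr rfl hw2, Finset.sum_const, smul_eq_mul, mul_comm, ← hBc,
              Nat.add_sub_cancel]
        _ ≤ _ := Finset.sum_le_sum_of_subset hBsub
    · set B' := (B s).image fun a => g * a * g⁻¹ with hB'
      have hdis : Disjoint (B s) B' := by
        rw [Finset.disjoint_left]
        intro a ha ha'
        obtain ⟨b, hb, hba⟩ := Finset.mem_image.1 ha'
        simp only [hB, Finset.mem_filter, Finset.mem_univ, true_and] at ha hb
        apply hfix
        have h1 : Dl (g * b * g⁻¹) = Dl s := by rw [hba]; exact (hline a ha.1 ha.2).2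
        rw [← hconjD b, show Dl b = Dl s from (hline b hb.1 hb.2).2, hconjD s] at h1
        exact h1.le (Subgroup.mem_sup_right (Subgroup.mem_zpowers _))
      have hB'sub : ∀ a ∈ B', a ∈ S0.filter (fun a => x ∈ U a) := by
        intro a ha
        obtain ⟨b, hb, rfl⟩ := Finset.mem_image.1 ha
        have hb' := hBsub b hb
        simp only [Finset.mem_filter, hS0, Finset.mem_univ, true_and, hU] at hb' ⊢
        obtain ⟨⟨hbP, hbc⟩, -, d, hd⟩ := hb'
        refine ⟨⟨hconjP b hbP, fun h => hbc (conj_mem_center_iff.1 h)⟩, hxΩ, g * d, ?_⟩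
        rw [show g * d * x * (g * d)⁻¹ = g * (d * x * d⁻¹) * g⁻¹ by group]
        exact conj_mem_Cz_iff.2 hd
      have hcardB' : B'.card = (B s).card :=
        Finset.card_image_of_injective _ fun a b h => by simpa using h
      calc 2 * (p ^ expo G m p - z) = (B s ∪ B').card := by
            rw [Finset.card_union_of_disjoint hdis, hcardB', ← hBc, Nat.add_sub_cancel, two_mul]
        _ = ∑ a ∈ B s ∪ B', 1 := by simp
        _ ≤ ∑ a ∈ B s ∪ B', w a := Finset.sum_le_sum fun a _ => by simp only [hw]; split_ifs <;> omega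
        _ ≤ _ := Finset.sum_le_sum_of_subset fun a ha =>
            (Finset.mem_union.1 ha).elim (hBsub a) (hB'sub a)
  -- each set of conjugates is small
  have hhigh : ∀ s ∈ S0, p * w s * (U s).card < Nat.card G := by
    intro s hs
    simp only [hS0, Finset.mem_filter, Finset.mem_univ, true_and] at hs
    obtain ⟨hsP, hsc⟩ := hs
    obtain ⟨hDp, hDc, hall, hD, hline⟩ := hspec s hsP hsc
    set N := Subgroup.normalizer (Cz s : Set G)
    have hmemN : ∀ u : G, u * s * u⁻¹ ∈ Dl s → u⁻¹ * s * u ∈ Dl s → u ∈ N := by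
      intro u hu hu'
      have key : ∀ v : G, v * s * v⁻¹ ∈ Dl s → ∀ a ∈ Cz s, v * a * v⁻¹ ∈ Cz s := by
        intro v hv a ha
        rw [← (hline _ hv (fun h => hsc (conj_mem_center_iff.1 h))).1]
        exact conj_mem_Cz_iff.2 ha
      rw [Subgroup.mem_normalizer_iff]
      refine fun a => ⟨key u hu a, fun ha => ?_⟩
      simpa [mul_assoc] using key u⁻¹ (by rwa [inv_inv]) _ ha
    have hPN : (P : Subgroup G) ≤ N := by
      have key : ∀ u ∈ (P : Subgroup G), u * s * u⁻¹ ∈ Dl s := by
        intro u hu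
        obtain ⟨c, hc, hcs⟩ := (hsyl s hsP hsc).2.1 u hu
        have hcP : c ∈ (P : Subgroup G) := by
          have := mul_mem (mul_mem (mul_mem hu hsP) (inv_mem hu)) (inv_mem hsP)
          rwa [hcs, mul_inv_cancel_right] at this
        rw [hcs]
        exact mul_mem (Subgroup.mem_sup_left (hT4 c hc (orderOf_of_mem hPp hcP)))
          (Subgroup.mem_sup_right (Subgroup.mem_zpowers s))
      exact fun u hu => hmemN u (key u hu) (by simpa using key u⁻¹ (inv_mem hu))
    have hCN : Cz s ≤ N := Subgroup.le_normalizer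
    have hr := card_mul_relIndex' hCN
    set r := (Cz s).relIndex N
    have hr0 : r ≠ 0 := fun e => by rw [e, mul_zero] at hr; exact Nat.card_pos.ne hr
    have hpr : p ∣ r := by
      by_contra h
      have h1 : (Nat.card (Cz s)).factorization p = (Nat.card N).factorization p := by
        rw [← hr, Nat.factorization_mul Nat.card_pos.ne' hr0, Finsupp.add_apply,
          Nat.factorization_eq_zero_of_not_dvd h, add_zero]
      have h2 := Subgroup.card_dvd_of_le hPN
      rw [Sylow.card_eq_multiplicity,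
        Nat.Prime.pow_dvd_iff_le_factorization hpp Nat.card_pos.ne', ← h1,
        hS.factorization_Cz (hS.not_dvd_n hp) hsc, hfac] at h2
      omega
    have hk : p * w s * Nat.card (Cz s) ≤ Nat.card N := by
      rw [← hr, mul_comm]
      refine Nat.mul_le_mul_left _ ?_
      simp only [hw]
      split_ifs with hfix
      · obtain ⟨q, hq⟩ := hpr
        rw [hq]
        refine Nat.mul_le_mul_left _ ?_
        by_contra hlt
        rcases (show q = 0 ∨ q = 1 by omega) with h0 | h1
        · exact hr0 (by rw [hq, h0, mul_zero])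
        · have hgs : g⁻¹ * s * g ∈ Dl s := by
            have he : (Dl s).map (MulAut.conj g).toMonoidHom = Dl s := by
              rw [hconjD s]; exact (hline _ hfix (fun h => hsc (conj_mem_center_iff.1 h))).2
            have hsD : s ∈ (Dl s).map (MulAut.conj g).toMonoidHom :=
              he.symm ▸ Subgroup.mem_sup_right (Subgroup.mem_zpowers s)
            rwa [Subgroup.mem_map_equiv, MulAut.conj_symm_apply] at hsD
          have hgN : g ∈ N := hmemN g hfix hgs
          haveI : ((Cz s).subgroupOf N).Normal :=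
            (Subgroup.normal_subgroupOf_iff_le_normalizer hCN).2 le_rfl
          refine hgC s hsP hsc (Subgroup.mem_subgroupOf.1
            (CfsgLib.NPC.mem_of_coprime (N := (Cz s).subgroupOf N) (k := 1) ?_
              (g := ⟨g, hgN⟩) (by rwa [Subgroup.orderOf_mk])))
          rw [pow_one]
          show r = p
          rw [hq, h1, mul_one]
      · rw [mul_one]
        exact Nat.le_of_dvd (Nat.pos_of_ne_zero hr0) hpr
    have hwpos : 0 < p * w s :=
      Nat.mul_pos hpp.pos (by simp only [hw]; split_ifs <;> omega)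
    have hb := union_bound (Cz s) (center_le_Cz s) hk hwpos
    rw [Set.ncard_eq_toFinset_card'] at hb
    refine lt_of_eq_of_lt (congrArg _ (congrArg Finset.card ?_)) hb
    ext x
    simp [hU, hΩ]
  have hS0ne : S0.Nonempty := by
    rw [← Finset.card_pos]
    have : z < p ^ (expo G m p + 1) := Nat.pow_lt_pow_right hpp.one_lt (by omega)
    omega
  have hsum : ∑ x ∈ Ω, ∑ s ∈ S0.filter (fun s => x ∈ U s), w s = ∑ s ∈ S0, w s * (U s).card := by
    simp only [Finset.sum_filter]
    rw [Finset.sum_comm]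
    refine Finset.sum_congr rfl fun s _ => ?_
    rw [← Finset.sum_filter, Finset.sum_const, smul_eq_mul, mul_comm]
    refine congrArg _ (congrArg Finset.card ?_)
    ext x
    simp [hU]
  have h1 : Ω.card * (2 * (p ^ expo G m p - z)) ≤ ∑ s ∈ S0, w s * (U s).card := by
    rw [← hsum, ← smul_eq_mul]
    exact Finset.card_nsmul_le_sum _ _ _ hlow
  have h2 : p * ∑ s ∈ S0, w s * (U s).card < S0.card * Nat.card G := by
    rw [Finset.mul_sum, ← smul_eq_mul, ← Finset.sum_const]
    exact Finset.sum_lt_sum_of_nonempty hS0ne fun s hs => by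
      rw [← mul_assoc]; exact hhigh s hs
  have hΩcard : Ω.card + Nat.card (Subgroup.center G) = Nat.card G := by
    rw [← hcardfilter (Subgroup.center G), Nat.card_eq_fintype_card, ← Finset.card_univ, add_comm,
      hΩ]
    convert Finset.card_filter_add_card_filter_not
      (s := (Finset.univ : Finset G)) (fun x => x ∈ Subgroup.center G)
  set ζ := Nat.card (Subgroup.center G)
  have hζ : 0 < ζ := Nat.card_pos
  obtain ⟨K, hK⟩ : ζ ∣ Nat.card G := Subgroup.card_subgroup_dvd_card _
  have hK0 : K ≠ 0 := fun e => by rw [e, mul_zero] at hK; exact Nat.card_pos.ne' hK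
  have hKp : p ^ 2 ≤ K := by
    refine Nat.le_of_dvd (Nat.pos_of_ne_zero hK0) ?_
    rw [Nat.Prime.pow_dvd_iff_le_factorization hpp hK0]
    rw [hK, Nat.factorization_mul hζ.ne' hK0, Finsupp.add_apply, hE] at hfac
    omega
  have hEz : p ^ expo G m p = z * p := by rw [hE, pow_succ]
  rw [show p ^ (expo G m p + 1) = z * p * p by rw [pow_succ, hEz]] at hS0card
  rw [hEz] at h1
  have hp2 := hpp.two_le
  obtain ⟨q, rfl⟩ : ∃ q, p = q + 2 := ⟨p - 2, by omega⟩
  have h3 : S0.card = z * ((q + 1) * (q + 3)) := by nlinarith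
  rw [show z * (q + 2) - z = z * (q + 1) by
    rw [Nat.sub_eq_iff_eq_add (Nat.le_mul_of_pos_right _ (by omega))]; ring] at h1
  have h4 : (q + 2) * (Ω.card * (2 * (z * (q + 1)))) <
      z * ((q + 1) * (q + 3)) * Nat.card G :=
    lt_of_le_of_lt (Nat.mul_le_mul_left _ h1) (h3 ▸ h2)
  have h5 : 2 * (q + 2) * Ω.card < (q + 3) * Nat.card G := by
    refine Nat.lt_of_mul_lt_mul_left (a := z * (q + 1)) ?_
    calc z * (q + 1) * (2 * (q + 2) * Ω.card) = (q + 2) * (Ω.card * (2 * (z * (q + 1)))) := by ring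
      _ < _ := h4
      _ = z * (q + 1) * ((q + 3) * Nat.card G) := by ring
  rw [hK] at hΩcard h5
  have h6 : (q + 1) * K < 2 * (q + 2) := by
    refine Nat.lt_of_mul_lt_mul_left (a := ζ) ?_
    nlinarith
  nlinarith

/-- Every prime of `m` has a normal complement. -/
theorem exists_isNPC : ∃ K : Subgroup G, CfsgLib.NPC.IsNPC p K := by
  have hpp : p.Prime := Fact.out
  refine CfsgLib.NPC.hasNormalPComplement_iff.1
    (CfsgLib.NPC.frobenius_criterion fun Q hQ g hg hgp => ?_)
  rw [Subgroup.mem_centralizer_iff]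
  intro s hsQ
  by_cases hsc : s ∈ Subgroup.center G
  · exact (Subgroup.mem_center_iff.1 hsc g).symm
  suffices hgs : Commute g s from hgs.eq.symm
  obtain ⟨P, hQP⟩ := hQ.exists_le_sylow
  obtain ⟨T, hT1, hT2, hT3, hT4, hT5⟩ := exists_Zp p G
  obtain ⟨hfac, hsyl⟩ := hS.sylow_spec hN hp hT1 hT3 hT4 hT5 P
  have hPp := P.isPGroup'
  have hsP : s ∈ (P : Subgroup G) := hQP hsQ
  have hso := orderOf_of_mem hPp hsP
  obtain ⟨hDp, hDc, -, hD, hline⟩ := hS.line_spec hN hp hT1 hT3 hT4 hsc hso
  obtain ⟨hDP, hcen, hmax⟩ := hsyl s hsP hsc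
  set D := T ⊔ Subgroup.zpowers s with hDdef
  have hnormQ : ∀ x ∈ T ⊔ Q, g * x * g⁻¹ ∈ T ⊔ Q := by
    intro x hx
    suffices h : T ⊔ Q ≤ (T ⊔ Q).comap (MulAut.conj g).toMonoidHom by simpa using h hx
    refine sup_le (fun t ht => ?_) fun a ha => ?_
    · show g * t * g⁻¹ ∈ T ⊔ Q
      rw [Subgroup.mem_center_iff.1 (hT1 ht) g, mul_inv_cancel_right]
      exact Subgroup.mem_sup_left ht
    · exact Subgroup.mem_sup_right ((Subgroup.mem_normalizer_iff.1 hg a).1 ha)
  by_cases hQD : Q ≤ D
  · have hTQ : T ⊔ Q = D := le_antisymm (sup_le le_sup_left hQD)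
      (sup_le le_sup_left (Subgroup.zpowers_le.2 (Subgroup.mem_sup_right hsQ)))
    have hgsD : g * s * g⁻¹ ∈ D := hTQ ▸ hnormQ s (Subgroup.mem_sup_right hsQ)
    set π := QuotientGroup.mk' (Subgroup.center G)
    set M0 := (Subgroup.centralizer ({π s} : Set (G ⧸ Subgroup.center G))).comap π with hM0
    have hM0mem : ∀ x : G, x ∈ M0 ↔ Commute (π x) (π s) := fun x => by
      rw [hM0, Subgroup.mem_comap, Subgroup.mem_centralizer_singleton_iff]
      rfl
    have hPM : (P : Subgroup G) ≤ M0 := by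
      intro u hu
      obtain ⟨c, hc, hcs⟩ := hcen u hu
      rw [hM0mem]
      have : π (u * s * u⁻¹) = π s := by
        rw [hcs, map_mul, show π c = 1 from (QuotientGroup.eq_one_iff c).2 hc, one_mul]
      rwa [map_mul, map_mul, map_inv, mul_inv_eq_iff_eq_mul] at this
    have hDM : ∀ d ∈ D, ∀ y ∈ M0, Commute (π y) (π d) := by
      intro d hd y hy
      have h : D ≤ (Subgroup.centralizer ({π y} : Set (G ⧸ Subgroup.center G))).comap π := by
        refine sup_le (fun t ht => ?_) (Subgroup.zpowers_le.2 ?_)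
        · rw [Subgroup.mem_comap, show π t = 1 from (QuotientGroup.eq_one_iff t).2 (hT1 ht)]
          exact one_mem _
        · rw [Subgroup.mem_comap, Subgroup.mem_centralizer_singleton_iff]
          exact ((hM0mem y).1 hy).symm
      exact (Subgroup.mem_centralizer_singleton_iff.1 (Subgroup.mem_comap.1 (h hd))).symm
    have hgD' : g⁻¹ * s * g ∈ D := by
      have he : D.map (MulAut.conj g).toMonoidHom = D := by
        refine Subgroup.eq_of_le_of_card_ge ?_
          (Subgroup.card_map_of_injective (MulAut.conj g).injective).ge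
        rintro _ ⟨d, hd, rfl⟩
        rw [← hTQ] at hd ⊢
        exact hnormQ d hd
      have hsD : s ∈ D.map (MulAut.conj g).toMonoidHom :=
        he.symm ▸ Subgroup.mem_sup_right (Subgroup.mem_zpowers s)
      rwa [Subgroup.mem_map_equiv, MulAut.conj_symm_apply] at hsD
    -- conjugate the Sylow subgroup back inside `M0`
    have hgPM : (P : Subgroup G).map (MulAut.conj g).toMonoidHom ≤ M0 := by
      rintro _ ⟨u, hu, rfl⟩
      rw [hM0mem]
      show Commute (π (g * u * g⁻¹)) (π s)
      have h := (hDM _ hgD' u (hPM hu)).map (MulAut.conj (π g)).toMonoidHom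
      simpa [map_mul, map_inv, mul_assoc] using h
    have hcardP : Nat.card (P : Subgroup G) = p ^ (Nat.card M0).factorization p := by
      obtain ⟨j, hj, hjc⟩ := le_of_isPGroup hPp hPM
      rw [Sylow.card_eq_multiplicity] at hjc ⊢
      have := Nat.pow_right_injective hpp.two_le hjc
      have h3 := (Nat.factorization_le_iff_dvd Nat.card_pos.ne' Nat.card_pos.ne').2
        (Subgroup.card_subgroup_dvd_card M0) p
      exact congrArg _ (by omega)
    obtain ⟨y, hy, hyP⟩ := exists_conj_full (hPp.map (MulAut.conj g).toMonoidHom) hgPM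
      (by rw [Subgroup.card_map_of_injective (MulAut.conj g).injective, hcardP]) hPp hPM hcardP
    set h := y * g
    have hh : h ∈ Subgroup.normalizer ((P : Subgroup G) : Set G) := by
      rw [Subgroup.mem_normalizer_iff]
      intro a
      conv_rhs => rw [hyP, Subgroup.mem_map_equiv, MulAut.conj_symm_apply, Subgroup.mem_map_equiv,
        MulAut.conj_symm_apply]
      simp [h, mul_assoc]
    obtain ⟨a, b, ha, hb, -, hab, ⟨i, hi⟩, hbp⟩ := exists_split p h
    have haP : a ∈ (P : Subgroup G) := le_full_of_normal hPp le_top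
      (by rw [Sylow.card_eq_multiplicity, Subgroup.card_top])
      ((Subgroup.zpowers_le.2 (Subgroup.zpowers_le.2 hh ha))) (isPGroup_zpowers hi) le_top
      (Subgroup.mem_zpowers a)
    have hbM : b ∈ M0 := by
      rw [hM0mem]
      exact (hS.commute_of_normalizer hN hp P (Subgroup.zpowers_le.2 hh hb) hbp s hsP).map π
    have hhM : h ∈ M0 := hab ▸ M0.mul_mem (hPM haP) hbM
    have hgM : g ∈ M0 := by
      have := M0.mul_mem (M0.inv_mem hy) hhM
      rwa [inv_mul_cancel_left] at this
    set c := g * s * g⁻¹ * s⁻¹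
    have hc : c ∈ Subgroup.center G := by
      rw [← QuotientGroup.eq_one_iff]
      show π (g * s * g⁻¹ * s⁻¹) = 1
      simp only [map_mul, map_inv]
      rw [((hM0mem g).1 hgM).eq]
      group
    have hcD : c ∈ D := D.mul_mem hgsD (D.inv_mem (Subgroup.mem_sup_right (Subgroup.mem_zpowers s)))
    obtain ⟨j, hj⟩ := orderOf_of_mem hDp hcD
    exact commute_of_central_commutator hc (show g * s * g⁻¹ = c * s by simp only [c]; group)
      (a := orderOf g) (b := p ^ j) (by rw [pow_orderOf_eq_one]; exact Commute.one_left s)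
      (by rw [← hj, pow_orderOf_eq_one]) (hgp.pow_right j)
  · obtain ⟨v, hv, hvD⟩ := SetLike.not_le_iff_exists.1 hQD
    have hTQ : T ⊔ Q = (P : Subgroup G) := by
      refine le_antisymm (sup_le (hT5 P) hQP) ?_
      rw [← hmax v (hQP hv) hvD]
      exact sup_le (sup_le le_sup_left (Subgroup.zpowers_le.2 (Subgroup.mem_sup_right hsQ)))
        (Subgroup.zpowers_le.2 (Subgroup.mem_sup_right hv))
    refine hS.commute_of_normalizer hN hp P ?_ hgp s hsP
    have he : (P : Subgroup G).map (MulAut.conj g).toMonoidHom = (P : Subgroup G) := by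
      refine Subgroup.eq_of_le_of_card_ge ?_
        (Subgroup.card_map_of_injective (MulAut.conj g).injective).ge
      rw [← hTQ]
      rintro _ ⟨d, hd, rfl⟩
      exact hnormQ d hd
    rw [Subgroup.mem_normalizer_iff]
    intro a
    conv_rhs => rw [← he, Subgroup.mem_map_equiv, MulAut.conj_symm_apply]
    simp [mul_assoc]

end Sizes

/-- Some `p`-element, `p` dividing `m`, has small class size. -/
theorem Sizes.exists_small_pElement {G : Type*} [Group G] [Finite G] {m n : ℕ}
    (hS : Sizes G m n) :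
    ∃ p : ℕ, p.Prime ∧ p ∣ m ∧ ∃ s : G, (Cz s).index = m ∧ ∃ k, orderOf s = p ^ k := by
  by_contra hno
  have hN : AllBig G m n := fun q hq hqm s hsc hsq =>
    (hS.dich s hsc).resolve_left fun h => hno ⟨q, hq, hqm, s, h, hsq⟩
  have hK : ∀ q : m.primeFactors, ∃ K : Subgroup G, CfsgLib.NPC.IsNPC (q : ℕ) K := fun q =>
    haveI : Fact (q : ℕ).Prime := ⟨Nat.prime_of_mem_primeFactors q.2⟩
    hS.exists_isNPC hN (Nat.dvd_of_mem_primeFactors q.2)
  choose K hK using hK
  have hKn : ∀ q, (K q).Normal := fun q => (hK q).1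
  have hm0 : m ≠ 0 := by have := hS.m_gt; omega
  set N0 := ⨅ q, K q with hN0
  haveI hN0n : N0.Normal := Subgroup.normal_iInf_normal hKn
  have hmem0 : ∀ g : G, (orderOf g).Coprime m → g ∈ N0 := fun g hg =>
    Subgroup.mem_iInf.2 fun q => by
      haveI : Fact (q : ℕ).Prime := ⟨Nat.prime_of_mem_primeFactors q.2⟩
      exact (CfsgLib.NPC.mem_iff_coprime (hK q)).2
        (hg.coprime_dvd_right (Nat.dvd_of_mem_primeFactors q.2))
  have hN0co : (Nat.card N0).Coprime m := by
    refine Nat.coprime_of_dvd fun q hq hq0 hqm => ?_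
    haveI : Fact q.Prime := ⟨hq⟩
    obtain ⟨⟨a, ha⟩, hao⟩ := exists_prime_orderOf_dvd_card' (G := N0) q hq0
    rw [Subgroup.orderOf_mk] at hao
    have h := (CfsgLib.NPC.mem_iff_coprime (hK ⟨q, Nat.mem_primeFactors.2 ⟨hq, hqm, hm0⟩⟩)).1
      (Subgroup.mem_iInf.1 ha _)
    rw [hao] at h
    exact hq.ne_one ((Nat.coprime_self q).1 h)
  -- small elements of `N0` are central in `N0`
  have hcen0 : ∀ a ∈ N0, (Cz a).index = m → N0 ≤ Cz a := by
    intro a _ hai
    refine Subgroup.relIndex_eq_one.1 (Nat.eq_one_of_dvd_coprimes hN0co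
      (Subgroup.relIndex_dvd_card _ _) ?_)
    rw [← hai]
    exact CfsgLib.FGStruct.ClassPSq.relIndex_dvd_index_of_normal' (Cz a) N0
  obtain ⟨r, hr, hrm, x, hx, kx, hkx⟩ := hS.exists_small_primary hN
  haveI : Fact r.Prime := ⟨hr⟩
  have hrcop : ∀ k, (r ^ k).Coprime m := fun k =>
    Nat.Coprime.pow_left k (hr.coprime_iff_not_dvd.2 hrm)
  have hxc := hS.noncentral_of_index (Or.inl hx)
  have hx0 : x ∈ N0 := hmem0 x (hkx ▸ hrcop kx)
  have hxN := hcen0 x hx0 hx
  set p := m.minFac
  have hpp : p.Prime := Nat.minFac_prime (by have := hS.m_gt; omega)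
  haveI : Fact p.Prime := ⟨hpp⟩
  have hp : p ∣ m := Nat.minFac_dvd m
  have hrp : ∀ k, (r ^ k).Coprime p := fun k => (hrcop k).coprime_dvd_right hp
  have hp0 : ∀ a ∈ N0, (∃ k, orderOf a = p ^ k) → a = 1 := fun a ha hk =>
    eq_one_of_pow_coprime hk ((hN0co.coprime_dvd_right hp).coprime_dvd_left
      (Subgroup.orderOf_dvd_natCard _ ha))
  obtain ⟨T, hT1, hT2, hT3, hT4, hT5⟩ := exists_Zp p G
  obtain ⟨s, hsx, hsc, hso⟩ := hS.exists_noncentral_pElement hp hxc
  obtain ⟨hDp, hDc, -, hD, hline⟩ := hS.line_spec hN hp hT1 hT3 hT4 hsc hso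
  set D := T ⊔ Subgroup.zpowers s
  obtain ⟨P, hP⟩ := hDp.exists_le_sylow
  obtain ⟨-, hsyl⟩ := hS.sylow_spec hN hp hT1 hT3 hT4 hT5 P
  have hPp := P.isPGroup'
  have hsP : s ∈ (P : Subgroup G) := hP (Subgroup.mem_sup_right (Subgroup.mem_zpowers s))
  obtain ⟨v, hvP, hvD, hvn, -⟩ := exists_normalizer_step hPp (hS.lt_sylow hp hDc hP)
  have hvc : v ∉ Subgroup.center G := fun h =>
    hvD (Subgroup.mem_sup_left (hT4 v h (orderOf_of_mem hPp hvP)))
  have hvo := orderOf_of_mem hPp hvP
  have hxD : ∀ d ∈ D, Commute d x := by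
    intro d hd
    have : D ≤ Cz x := sup_le (hT1.trans (center_le_Cz x)) (Subgroup.zpowers_le.2 hsx)
    exact mem_Cz.1 (this hd)
  -- nothing noncentral commutes with `D` and an element of `P` outside `D`
  have hkill : ∀ a u : G, u ∈ (P : Subgroup G) → u ∉ D → (∀ d ∈ D, Commute d a) → Commute u a →
      a ∈ Subgroup.center G := by
    intro a u huP huD hDa hua
    by_contra hac
    have hle : D ⊔ Subgroup.zpowers u ≤ Cz a :=
      sup_le (fun d hd => mem_Cz.2 (hDa d hd)) (Subgroup.zpowers_le.2 (mem_Cz.2 hua))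
    rw [(hsyl s hsP hsc).2.2 u huP huD] at hle
    exact (hS.lt_sylow hp hDc hP).ne (hS.eq_of_expo hp hac hP hPp hle hDc)
  obtain ⟨e, hev, hec, ke, hke⟩ := hS.exists_rElement hN hp hx ⟨kx, hkx⟩ hvc hvo
  have he0 : e ∈ N0 := hmem0 e (hke ▸ hrcop ke)
  have hxe : Commute x e := (mem_Cz.1 (hxN he0)).symm
  have hev' : Commute v e := (mem_Cz.1 hev).symm
  rcases hS.dich e hec with heS | heB
  · have heN := hcen0 e he0 heS
    set z := x * e with hz
    have hzN : N0 ≤ Cz z := fun a ha =>
      mem_Cz.2 ((mem_Cz.1 (hxN ha)).mul_right (mem_Cz.1 (heN ha)))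
    have hzc : z ∉ Subgroup.center G := fun hzc => hec (by
      refine hkill e v hvP hvD (fun d hd => ?_) hev'
      have hdz : Commute d z := (Subgroup.mem_center_iff.1 hzc d)
      have := (hxD d hd).inv_right.mul_right hdz
      rwa [hz, inv_mul_cancel_left] at this)
    -- a noncentral element of `P` centralising `z`
    obtain ⟨t, htz, htc, hto⟩ := hS.exists_noncentral_pElement hp hzc
    set ι := {q : m.primeFactors // (q : ℕ) ≠ p}
    set Y := ⨅ q : ι, K q.1 with hY
    have hpY : ∀ a : G, (∃ k, orderOf a = p ^ k) → a ∈ Y := fun a ⟨k, hk⟩ =>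
      Subgroup.mem_iInf.2 fun q => by
        haveI : Fact ((q.1 : ℕ)).Prime := ⟨Nat.prime_of_mem_primeFactors q.1.2⟩
        refine (CfsgLib.NPC.mem_iff_coprime (hK q.1)).2 (hk ▸ Nat.Coprime.pow_left k ?_)
        exact (Nat.coprime_primes hpp (Nat.prime_of_mem_primeFactors q.1.2)).2 q.2.symm
    have hN0Y : N0 ≤ Y := le_iInf fun q => iInf_le K q.1
    have hPY : (P : Subgroup G) ≤ Y := fun a ha => hpY a (orderOf_of_mem hPp ha)
    set pp : m.primeFactors := ⟨p, Nat.mem_primeFactors.2 ⟨hpp, hp, hm0⟩⟩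
    obtain ⟨k, hk⟩ := (hK pp).2.2
    have hrel : ∃ j, N0.relIndex Y = p ^ j := by
      haveI := hKn pp
      have h1 : N0 = K pp ⊓ Y := by
        refine le_antisymm (le_inf (iInf_le K pp) hN0Y) (le_iInf fun q => ?_)
        by_cases hq : (q : ℕ) = p
        · rw [show q = pp from Subtype.ext hq]
          exact inf_le_left
        · exact inf_le_right.trans (iInf_le _ (⟨q, hq⟩ : ι))
      obtain ⟨j, -, hj⟩ := (Nat.dvd_prime_pow hpp).1
        (hk ▸ Subgroup.relIndex_dvd_index_of_normal (K pp) Y)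
      exact ⟨j, by rw [h1, Subgroup.inf_relIndex_right, hj]⟩
    obtain ⟨j, hj⟩ := hrel
    have hPc : Nat.card (P : Subgroup G) = p ^ (Nat.card Y).factorization p := by
      obtain ⟨i, hi, hic⟩ := le_of_isPGroup hPp hPY
      rw [Sylow.card_eq_multiplicity] at hic ⊢
      have := Nat.pow_right_injective hpp.two_le hic
      have h3 := (Nat.factorization_le_iff_dvd Nat.card_pos.ne' Nat.card_pos.ne').2
        (Subgroup.card_subgroup_dvd_card Y) p
      exact congrArg _ (by omega)
    have htop : N0 ⊔ (P : Subgroup G) = Y :=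
      eq_of_complement (sup_le hN0Y hPY) le_sup_left hj le_sup_right hPc
    obtain ⟨n0, hn0, u, huP, hnu⟩ := Subgroup.mem_sup_of_normal_left.1 (htop.ge (hpY t hto))
    have huz : Commute u z := by
      have h1 : Commute (n0⁻¹ * t) z :=
        (mem_Cz.1 (hzN (N0.inv_mem hn0))).mul_left (mem_Cz.1 htz)
      rwa [← hnu, inv_mul_cancel_left] at h1
    have huc : u ∉ Subgroup.center G := fun huc => htc (by
      have hn1 : n0 = 1 := by
        refine hp0 n0 hn0 ?_
        have huo := hT4 u huc (orderOf_of_mem hPp huP)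
        obtain ⟨kt, hkt⟩ := hto
        have hsup := hT2.to_sup_of_normal_left' (isPGroup_zpowers hkt)
          (le_trans (fun a _ => Subgroup.mem_centralizer_iff.2 fun c hc =>
            (Subgroup.mem_center_iff.1 (hT1 hc) a).symm) (Subgroup.centralizer_le_normalizer _))
        refine orderOf_of_mem hsup ?_
        rw [show n0 = t * u⁻¹ by rw [← hnu, mul_inv_cancel_right]]
        exact mul_mem (Subgroup.mem_sup_right (Subgroup.mem_zpowers t))
          (inv_mem (Subgroup.mem_sup_left huo))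
      rw [← hnu, hn1, one_mul]
      exact huc)
    have huo := orderOf_of_mem hPp huP
    set a := u * x * u⁻¹ * x⁻¹ with ha
    have hue0 : u * e⁻¹ * u⁻¹ ∈ N0 := hN0n.conj_mem _ (N0.inv_mem he0) u
    have hae : a = e * (u * e⁻¹ * u⁻¹) := by
      have h1 : u * (x * e) * u⁻¹ = x * e := by rw [huz.eq, mul_inv_cancel_right]
      have h2 : u * x * u⁻¹ = x * (e * (u * e⁻¹ * u⁻¹)) := by
        rw [← mul_assoc, ← h1]; group
      rw [ha, h2, (mem_Cz.1 (hxN (N0.mul_mem he0 hue0))).symm.eq, mul_inv_cancel_right]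
    have hconj : ∀ {b : G}, b ∈ (P : Subgroup G) → b ∉ Subgroup.center G →
        u⁻¹ * b * u ∈ T ⊔ Subgroup.zpowers b := by
      intro b hb hbc
      obtain ⟨c, hc, hcb⟩ := (hsyl b hb hbc).2.1 u⁻¹ (inv_mem huP)
      rw [inv_inv] at hcb
      have hcP : c ∈ (P : Subgroup G) := by
        have := mul_mem (mul_mem (mul_mem (inv_mem huP) hb) huP) (inv_mem hb)
        rwa [hcb, mul_inv_cancel_right] at this
      rw [hcb]
      exact mul_mem (Subgroup.mem_sup_left (hT4 c hc (orderOf_of_mem hPp hcP)))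
        (Subgroup.mem_sup_right (Subgroup.mem_zpowers b))
    have hsa : Commute s a := by
      have h1 := (hxD _ (hconj hsP hsc)).map (MulAut.conj u).toMonoidHom
      have h2 : Commute s (u * x * u⁻¹) := by simpa [mul_assoc] using h1
      exact h2.mul_right (mem_Cz.1 hsx).inv_right
    have hva : Commute v a := by
      rw [hae]
      have hev2 : T ⊔ Subgroup.zpowers v ≤ Cz e :=
        sup_le (hT1.trans (center_le_Cz e)) (Subgroup.zpowers_le.2 (mem_Cz.2 hev'))
      have h1 := (mem_Cz.1 (hev2 (hconj hvP hvc))).inv_right.map (MulAut.conj u).toMonoidHom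
      have h2 : Commute v (u * e⁻¹ * u⁻¹) := by simpa [mul_assoc] using h1
      exact hev'.mul_right h2
    have hac : a ∈ Subgroup.center G := by
      refine hkill a v hvP hvD (fun d hd => ?_) hva
      have : D ≤ Cz a := sup_le (hT1.trans (center_le_Cz a)) (Subgroup.zpowers_le.2 (mem_Cz.2 hsa))
      exact mem_Cz.1 (this hd)
    have hux : Commute u x := by
      obtain ⟨i, hi⟩ := huo
      refine commute_of_central_commutator hac (show u * x * u⁻¹ = a * x by rw [ha]; group)
        (a := p ^ i) (b := r ^ kx) (by rw [← hi, pow_orderOf_eq_one]; exact Commute.one_left x) ?_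
        ((hrp kx).symm.pow_left i)
      have := conj_pow_left hac (show u * x * u⁻¹ = a * x by rw [ha]; group) (r ^ kx)
      rw [show x ^ r ^ kx = 1 by rw [← hkx, pow_orderOf_eq_one], mul_one, mul_one,
        mul_inv_cancel] at this
      exact this.symm
    by_cases huD : u ∈ D
    · refine hec (hkill e v hvP hvD (fun d hd => ?_) hev')
      have hue : Commute u e := by
        have := hux.inv_right.mul_right huz
        rwa [hz, inv_mul_cancel_left] at this
      have : T ⊔ Subgroup.zpowers u ≤ Cz e :=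
        sup_le (hT1.trans (center_le_Cz e)) (Subgroup.zpowers_le.2 (mem_Cz.2 hue))
      rw [(hline u huD huc).2] at this
      exact mem_Cz.1 (this hd)
    · exact hxc (hkill x u huP huD hxD hux)
  · obtain ⟨kv, hkv⟩ := hvo
    have hle := hS.Cz_le_of_big heB hev'.symm (by
      rw [hke, hkv]; exact ((hrp ke).pow_right kv))
    exact hxc (hkill x v hvP hvD hxD (mem_Cz.1 (hle (mem_Cz.2 hxe))).symm)

end CfsgLib.ClassSize.Three
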