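import Cfsg.Agent.Lib.ClassSize.ThreeSizesBasic

/-!
# Groups with class sizes `1`, `m`, `m * n`: first consequences
-/

set_option autoImplicit false
set_option linter.style.haveILetI false
set_option linter.unusedSectionVars false

namespace CfsgLib.ClassSize.Three

variable {G : Type*} [Group G]

/-- The class sizes of `G` are exactly `1`, `m` and `m * n`, with `m`, `n > 1` coprime. -/
structure Sizes (G : Type*) [Group G] (m n : ℕ) : Prop where
  m_gt : 1 < m
  n_gt : 1 < n
  cop : m.Coprime n
  dich : ∀ x : G, x ∉ Subgroup.center G → (Cz x).index = m ∨ (Cz x).index = m * n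
  small : ∃ x : G, (Cz x).index = m
  big : ∃ x : G, (Cz x).index = m * n

theorem Sizes.of_range {m n : ℕ} (hm : 1 < m) (hn : 1 < n) (hcop : m.Coprime n)
    (h : Set.range (fun x : G => (Subgroup.centralizer ({x} : Set G)).index) =
      ({1, m, m * n} : Set ℕ)) : Sizes G m n := by
  refine ⟨hm, hn, hcop, fun x hx => ?_, ?_, ?_⟩
  · have h1 : (Cz x).index ∈ ({1, m, m * n} : Set ℕ) := h ▸ Set.mem_range_self x
    simp only [Set.mem_insert_iff, Set.mem_singleton_iff] at h1
    exact h1.resolve_left fun h1 => hx ((index_Cz_eq_one_iff x).1 h1)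
  · obtain ⟨x, hx⟩ : m ∈ Set.range (fun x : G => (Cz x).index) := by rw [h]; simp
    exact ⟨x, hx⟩
  · obtain ⟨x, hx⟩ : m * n ∈ Set.range (fun x : G => (Cz x).index) := by rw [h]; simp
    exact ⟨x, hx⟩

/-- The exponent of `p` in the order of a centraliser, for the primes `p` of `m`. -/
noncomputable def expo (G : Type*) [Group G] (m p : ℕ) : ℕ :=
  (Nat.card G).factorization p - m.factorization p

variable [Finite G]

theorem card_mul_relIndex' {H K : Subgroup G} (h : K ≤ H) :
    Nat.card K * K.relIndex H = Nat.card H := by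
  rw [Subgroup.relIndex, ← Nat.card_congr (Subgroup.subgroupOfEquivOfLe h).toEquiv,
    Subgroup.card_mul_index]

/-- If `C` meets `H` in index prime to `r`, the intersection has full `r`-part. -/
theorem factorization_inf_eq {H C : Subgroup G} {r : ℕ} (h : ¬ r ∣ C.relIndex H) :
    (Nat.card (C ⊓ H : Subgroup G)).factorization r = (Nat.card H).factorization r := by
  have h1 := card_mul_relIndex' (inf_le_right : C ⊓ H ≤ H)
  rw [Subgroup.inf_relIndex_right] at h1
  have h2 : C.relIndex H ≠ 0 := fun e => h (by rw [e]; exact dvd_zero r)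
  rw [← h1, Nat.factorization_mul Nat.card_pos.ne' h2, Finsupp.add_apply,
    Nat.factorization_eq_zero_of_not_dvd h, add_zero]

/-- A subgroup containing the centre and a noncentral `r`-element has larger `r`-part. -/
theorem factorization_center_lt {r : ℕ} [Fact r.Prime] {H : Subgroup G}
    (hH : Subgroup.center G ≤ H) {x : G} (hx : x ∉ Subgroup.center G) (hxH : x ∈ H)
    (hxr : ∃ k, orderOf x = r ^ k) :
    (Nat.card (Subgroup.center G)).factorization r < (Nat.card H).factorization r := by
  obtain ⟨T, hT1, hT2, hT3⟩ := exists_full' r (Subgroup.center G)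
  obtain ⟨k, hk⟩ := hxr
  have hxn : Subgroup.zpowers x ≤ Subgroup.normalizer (T : Set G) :=
    le_trans (fun y _ => Subgroup.mem_centralizer_iff.2 fun t ht =>
      (Subgroup.mem_center_iff.1 (hT1 ht) y).symm) (Subgroup.centralizer_le_normalizer _)
  have hP := hT2.to_sup_of_normal_left' (isPGroup_zpowers hk) hxn
  obtain ⟨j, hj, hjc⟩ := le_of_isPGroup hP (sup_le (hT1.trans hH) (Subgroup.zpowers_le.2 hxH))
  refine lt_of_lt_of_le ?_ hj
  by_contra hlt
  have hTe : T = T ⊔ Subgroup.zpowers x := Subgroup.eq_of_le_of_card_ge le_sup_left (by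
    rw [hT3, hjc]
    exact Nat.pow_le_pow_right (Fact.out : r.Prime).pos (by omega))
  exact hx (hT1 (hTe.ge (le_sup_right (α := Subgroup G) (Subgroup.mem_zpowers x))))

variable {m n : ℕ}

namespace Sizes

variable (hS : Sizes G m n)

include hS

theorem noncentral_of_index {x : G} (hx : (Cz x).index = m ∨ (Cz x).index = m * n) :
    x ∉ Subgroup.center G := fun hc => by
  have h := (index_Cz_eq_one_iff x).2 hc
  have h1 := hS.m_gt
  rcases hx with e | e
  · omega
  · have := Nat.le_mul_of_pos_right m (zero_lt_one.trans hS.n_gt)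
    omega

theorem index_le {x : G} (hx : x ∉ Subgroup.center G) : (Cz x).index ≤ m * n := by
  rcases hS.dich x hx with e | e
  · rw [e]; exact Nat.le_mul_of_pos_right m (zero_lt_one.trans hS.n_gt)
  · rw [e]

theorem not_dvd_n {p : ℕ} [Fact p.Prime] (hp : p ∣ m) : ¬ p ∣ n := fun h =>
  (Fact.out : p.Prime).ne_one (Nat.eq_one_of_dvd_coprimes hS.cop hp h)

theorem factorization_m_pos {p : ℕ} [Fact p.Prime] (hp : p ∣ m) : 0 < m.factorization p :=
  Nat.Prime.factorization_pos_of_dvd Fact.out (by have := hS.m_gt; omega) hp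

theorem factorization_m_le (p : ℕ) : m.factorization p ≤ (Nat.card G).factorization p := by
  obtain ⟨x, hx⟩ := hS.small
  have h : m ∣ Nat.card G := hx ▸ Subgroup.index_dvd_card _
  exact (Nat.factorization_le_iff_dvd (by have := hS.m_gt; omega) Nat.card_pos.ne').2 h p

/-- All centralisers of noncentral elements have the same `p`-part, for `p` prime to `n`. -/
theorem factorization_Cz {p : ℕ} (hpn : ¬ p ∣ n) {x : G} (hx : x ∉ Subgroup.center G) :
    (Nat.card (Cz x)).factorization p = expo G m p := by
  have h1 := (Cz x).card_mul_index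
  have hm0 : m ≠ 0 := by have := hS.m_gt; omega
  have hn0 : n ≠ 0 := by have := hS.n_gt; omega
  have h2 : (Nat.card G).factorization p =
      (Nat.card (Cz x)).factorization p + m.factorization p := by
    rcases hS.dich x hx with e | e <;> rw [e] at h1 <;> rw [← h1]
    · rw [Nat.factorization_mul Nat.card_pos.ne' hm0, Finsupp.add_apply]
    · rw [Nat.factorization_mul Nat.card_pos.ne' (mul_ne_zero hm0 hn0),
        Nat.factorization_mul hm0 hn0, Finsupp.add_apply, Finsupp.add_apply,
        Nat.factorization_eq_zero_of_not_dvd hpn, add_zero]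
  rw [expo, h2, Nat.add_sub_cancel]

theorem card_eq_of_index_eq {x y : G} (h : (Cz x).index = (Cz y).index) :
    Nat.card (Cz x) = Nat.card (Cz y) := by
  refine Nat.eq_of_mul_eq_mul_right
    (Nat.pos_of_ne_zero (Subgroup.index_ne_zero_of_finite (H := Cz y))) ?_
  conv_lhs => rw [← h]
  rw [Subgroup.card_mul_index, Subgroup.card_mul_index]

theorem Cz_eq_of_le {x y : G} (h : (Cz x).index = (Cz y).index) (hle : Cz x ≤ Cz y) :
    Cz x = Cz y :=
  Subgroup.eq_of_le_of_card_ge hle (hS.card_eq_of_index_eq h).ge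

/-- If the centraliser of a small element centralises a noncentral element, they are equal. -/
theorem Cz_eq_of_small {x t : G} (hx : (Cz x).index = m) (ht : t ∉ Subgroup.center G)
    (hle : Cz x ≤ Cz t) : Cz t = Cz x := by
  have h1 : (Cz t).index ∣ m := hx ▸ Subgroup.index_dvd_of_le hle
  have h2 : (Cz t).index = m := (hS.dich t ht).resolve_right fun e => by
    have := Nat.le_of_dvd (by have := hS.m_gt; omega) (e ▸ h1)
    nlinarith [hS.m_gt, hS.n_gt]
  exact (hS.Cz_eq_of_le (hx.trans h2.symm) hle).symm

/-- An element of the largest class size: its centraliser centralises every element of coprime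
order that commutes with it. -/
theorem Cz_le_of_big {x w : G} (hx : (Cz x).index = m * n) (hc : Commute x w)
    (hco : (orderOf x).Coprime (orderOf w)) : Cz x ≤ Cz w := by
  have h := Cz_mul_eq hc hco
  have hle : Cz (x * w) ≤ Cz x := h ▸ inf_le_left
  have hd : (Cz x).index ∣ (Cz (x * w)).index := Subgroup.index_dvd_of_le hle
  have hxw : x * w ∉ Subgroup.center G := fun hz => by
    rw [(index_Cz_eq_one_iff _).2 hz, Nat.dvd_one, hx] at hd
    have h1 := hS.m_gt
    have := Nat.le_mul_of_pos_right m (zero_lt_one.trans hS.n_gt)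
    omega
  have he : (Cz (x * w)).index = (Cz x).index := le_antisymm (hx ▸ hS.index_le hxw)
    (Nat.le_of_dvd (Nat.pos_of_ne_zero Subgroup.index_ne_zero_of_finite) hd)
  rw [← hS.Cz_eq_of_le he hle, h]
  exact inf_le_right

/-- An element of small class size and one of coprime order commuting with it. -/
theorem relIndex_of_small {x w : G} (hx : (Cz x).index = m) (hc : Commute x w)
    (hco : (orderOf x).Coprime (orderOf w)) :
    (Cz w).relIndex (Cz x) = 1 ∨ (Cz w).relIndex (Cz x) = n := by
  have h := Cz_mul_eq hc hco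
  have hle : Cz (x * w) ≤ Cz x := h ▸ inf_le_left
  have hd : m ∣ (Cz (x * w)).index := hx ▸ Subgroup.index_dvd_of_le hle
  have hxw : x * w ∉ Subgroup.center G := fun hz => by
    rw [(index_Cz_eq_one_iff _).2 hz, Nat.dvd_one] at hd
    have := hS.m_gt
    omega
  have hr : (Cz w).relIndex (Cz x) * m = (Cz (x * w)).index := by
    rw [← Subgroup.relIndex_mul_index hle, hx, h, inf_comm, Subgroup.inf_relIndex_right]
  have hm0 : 0 < m := by have := hS.m_gt; omega
  rcases hS.dich _ hxw with e | e
  · exact Or.inl (Nat.eq_of_mul_eq_mul_right hm0 (by rw [hr, e, one_mul]))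
  · exact Or.inr (Nat.eq_of_mul_eq_mul_right hm0 (by rw [hr, e, mul_comm]))

theorem not_dvd_relIndex_of_small {x w : G} (hx : (Cz x).index = m) (hc : Commute x w)
    (hco : (orderOf x).Coprime (orderOf w)) {r : ℕ} (hr : r.Prime) (hrn : ¬ r ∣ n) :
    ¬ r ∣ (Cz w).relIndex (Cz x) := by
  rcases hS.relIndex_of_small hx hc hco with e | e <;> rw [e]
  · exact hr.not_dvd_one
  · exact hrn

theorem factorization_center_lt_expo {p : ℕ} [Fact p.Prime] (hp : p ∣ m) :
    (Nat.card (Subgroup.center G)).factorization p < expo G m p := by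
  obtain ⟨P⟩ : Nonempty (Sylow p G) := inferInstance
  have hnz : ¬ (P : Subgroup G) ≤ Subgroup.center G := fun hP => by
    obtain ⟨x, hx⟩ := hS.small
    have hxc := hS.noncentral_of_index (Or.inl hx)
    have h1 := Subgroup.card_dvd_of_le (hP.trans (center_le_Cz x))
    rw [Sylow.card_eq_multiplicity,
      Nat.Prime.pow_dvd_iff_le_factorization Fact.out Nat.card_pos.ne',
      hS.factorization_Cz (hS.not_dvd_n hp) hxc, expo] at h1
    have := hS.factorization_m_pos hp
    have := hS.factorization_m_le p
    omega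
  obtain ⟨s, hsP, hs⟩ := SetLike.not_le_iff_exists.1 hnz
  rw [← hS.factorization_Cz (hS.not_dvd_n hp) hs]
  exact factorization_center_lt (center_le_Cz s) hs (mem_Cz_self s)
    (orderOf_of_mem P.isPGroup' hsP)

/-- Every noncentral element commutes with a noncentral `p`-element, for `p` dividing `m`. -/
theorem exists_noncentral_pElement {p : ℕ} [Fact p.Prime] (hp : p ∣ m) {u : G}
    (hu : u ∉ Subgroup.center G) :
    ∃ t ∈ Cz u, t ∉ Subgroup.center G ∧ ∃ k, orderOf t = p ^ k := by
  obtain ⟨T, hT1, hT2, hT3⟩ := exists_full' p (Cz u)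
  have hnz : ¬ T ≤ Subgroup.center G := fun hle => by
    obtain ⟨j, hj, hjc⟩ := le_of_isPGroup hT2 hle
    have h := Nat.pow_right_injective (Fact.out : p.Prime).two_le (hjc.symm.trans hT3)
    have := hS.factorization_center_lt_expo hp
    rw [hS.factorization_Cz (hS.not_dvd_n hp) hu] at h
    omega
  obtain ⟨t, htT, ht⟩ := SetLike.not_le_iff_exists.1 hnz
  exact ⟨t, hT1 htT, ht, orderOf_of_mem hT2 htT⟩

/-- A `p`-subgroup of order `p ^ expo` is a largest one in the centraliser of a noncentral element. -/
theorem eq_of_expo {p : ℕ} [Fact p.Prime] (hp : p ∣ m) {u : G} (hu : u ∉ Subgroup.center G)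
    {T Q : Subgroup G} (hTQ : T ≤ Q) (hQ : IsPGroup p Q) (hQu : Q ≤ Cz u)
    (hT : Nat.card T = p ^ expo G m p) : T = Q :=
  eq_of_full hTQ hQ hQu (by rw [hT, hS.factorization_Cz (hS.not_dvd_n hp) hu])

/-- A `p`-element normalising, but not in, a `p`-subgroup of order `p ^ expo` commutes only with
central elements of the centraliser of that subgroup. -/
theorem mem_center_of_commute {p : ℕ} [Fact p.Prime] (hp : p ∣ m) {D : Subgroup G}
    (hD : IsPGroup p D) (hDc : Nat.card D = p ^ expo G m p) {v w : G}
    (hv : ∃ k, orderOf v = p ^ k) (hvn : v ∈ Subgroup.normalizer (D : Set G)) (hvD : v ∉ D)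
    (hDw : ∀ d ∈ D, Commute d w) (hvw : Commute v w) : w ∈ Subgroup.center G := by
  by_contra hw
  obtain ⟨k, hk⟩ := hv
  have hQ := hD.to_sup_of_normal_left' (isPGroup_zpowers hk) (Subgroup.zpowers_le.2 hvn)
  have hle : D ⊔ Subgroup.zpowers v ≤ Cz w :=
    sup_le (fun d hd => mem_Cz.2 (hDw d hd)) (Subgroup.zpowers_le.2 (mem_Cz.2 hvw))
  exact hvD ((hS.eq_of_expo hp hw le_sup_left hQ hle hDc).ge
    (le_sup_right (α := Subgroup G) (Subgroup.mem_zpowers v)))

/-- A Sylow subgroup is larger than the `p`-part of a centraliser. -/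
theorem lt_sylow {p : ℕ} [Fact p.Prime] (hp : p ∣ m) {D : Subgroup G}
    (hDc : Nat.card D = p ^ expo G m p) {P : Sylow p G} (hle : D ≤ (P : Subgroup G)) :
    D < (P : Subgroup G) := by
  refine lt_of_le_of_ne hle fun e => ?_
  have h : Nat.card D = Nat.card (P : Subgroup G) := by rw [e]
  rw [hDc, Sylow.card_eq_multiplicity] at h
  have h := Nat.pow_right_injective (Fact.out : p.Prime).two_le h
  rw [expo] at h
  have := hS.factorization_m_pos hp
  have := hS.factorization_m_le p
  omega

end Sizes

end CfsgLib.ClassSize.Three
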