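import Cfsg.Agent.Lib.ClassSize.ThreeSizesSmallMain

/-!
# Class sizes `1`, `m`, `m * n`: conclusion when some `p`-element is small
-/

set_option autoImplicit false
set_option linter.style.haveILetI false
set_option linter.unusedSectionVars false

namespace CfsgLib.ClassSize.Three

variable {G : Type*} [Group G] [Finite G] {m n p : ℕ} [Fact p.Prime] {L D W : Subgroup G}

theorem ordCompl_eq_card {H N : Subgroup G} (hN : N ≤ H) {k : ℕ} (hk : N.relIndex H = p ^ k)
    (hco : (Nat.card N).Coprime p) :
    ordCompl[p] (Nat.card H) = Nat.card N := by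
  rw [← card_mul_relIndex' hN, hk, Nat.ordCompl_mul, Nat.ordCompl_self_pow Fact.out, mul_one,
    Nat.ordCompl_eq_self_iff_zero_or_not_dvd _ Fact.out]
  exact Or.inr ((Nat.Prime.coprime_iff_not_dvd Fact.out).1 hco.symm)

namespace Sizes

variable (hS : Sizes G m n) (hd : SData G m p L D W) (hp : p ∣ m)

include hS hd hp

theorem normal_of_small : m = p ∧ L.Normal ∧ D.Normal := by
  have hpp : p.Prime := Fact.out
  obtain ⟨huniq, hcard⟩ := hS.unique_prime hd hp
  have hm : m = p ^ m.factorization p := by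
    have hl := Nat.eq_prime_pow_of_unique_prime_dvd (n := m) (p := p) (by have := hS.m_gt; omega)
      fun {d} hd' hdm => huniq d hd' hdm
    generalize hk : m.primeFactorsList.length = k at hl
    subst hl
    rw [hpp.factorization_pow, Finsupp.single_eq_same]
  set O := Cfsg.pCore p G
  have hOp : IsPGroup p O := CfsgLib.CharP.pCore_isPGroup'
  have hOn : O.Normal := CfsgLib.CharP.pCore_normal'
  have hDO : D ≤ O := fun d hdD => by
    obtain ⟨k, hk⟩ := orderOf_of_mem hd.D_p hdD
    by_cases hdc : d ∈ Subgroup.center G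
    · exact CfsgLib.FGStruct.PPowerClass.mem_pCore d hk (a := 0)
        (by rw [pow_zero]; exact (index_Cz_eq_one_iff d).2 hdc)
    · exact CfsgLib.FGStruct.PPowerClass.mem_pCore d hk (a := m.factorization p)
        (by rw [← hm, ← hd.index_L, ← hd.Cz_eq d hdD hdc])
  have hDeq : D = O := by
    by_contra hne
    obtain ⟨o, hoO, hoD, hon, -⟩ := exists_normalizer_step hOp (lt_of_le_of_ne hDO hne)
    obtain ⟨t, ht, htc⟩ := hd.exists_t
    have key : ∀ x ∈ Subgroup.normalizer (D : Set G), ∀ g ∈ L, x * g * x⁻¹ ∈ L := by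
      intro x hx g hg
      rw [← hd.Cz_eq _ ((Subgroup.mem_normalizer_iff.1 hx t).1 ht)
        (fun h => htc (conj_mem_center_iff.1 h)), conj_mem_Cz_iff, hd.Cz_eq t ht htc]
      exact hg
    have hoX : o ∈ Subgroup.normalizer (L : Set G) := by
      rw [Subgroup.mem_normalizer_iff]
      refine fun g => ⟨key o hon g, fun hg => ?_⟩
      simpa [mul_assoc] using key o⁻¹ (inv_mem hon) _ hg
    have hoL : o ∉ L := fun h => hoD (hd.mem_D hS hp h (orderOf_of_mem hOp hoO))
    obtain ⟨r, hr, hrm, w, hwL, hwc, kw, hkw⟩ := hd.primary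
    have hwW : w ∈ W := (hd.W_mem w).2 ⟨hwL, hkw ▸
      Nat.Coprime.pow_left kw ((Nat.coprime_primes hr hpp).2 fun e => hrm (e ▸ hp))⟩
    refine hwc (hd.semireg hS hp (orderOf_of_mem hOp hoO) hoX hoL hwW ⟨1, one_mem _, ?_⟩)
    have h1 : o * w * o⁻¹ * w⁻¹ ∈ O := by
      rw [show o * w * o⁻¹ * w⁻¹ = o * (w * o⁻¹ * w⁻¹) by group]
      exact O.mul_mem hoO (hOn.conj_mem _ (O.inv_mem hoO) w)
    have h2 : o * w * o⁻¹ * w⁻¹ ∈ W := W.mul_mem (hd.conj_W hoX hwW) (W.inv_mem hwW)
    have h3 := eq_one_of_pow_coprime (orderOf_of_mem hOp h1) ((hd.W_mem _).1 h2).2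
    rw [one_mul]
    exact mul_inv_eq_one.1 h3
  have hDn : D.Normal := hDeq ▸ hOn
  have hLn : L.Normal := ⟨fun g hg x => by
    obtain ⟨t, ht, htc⟩ := hd.exists_t
    rw [← hd.Cz_eq _ (hDn.conj_mem t ht x) (fun h => htc (conj_mem_center_iff.1 h)),
      conj_mem_Cz_iff, hd.Cz_eq t ht htc]
    exact hg⟩
  refine ⟨?_, hLn, hDn⟩
  have hX : Subgroup.normalizer (L : Set G) = ⊤ := Subgroup.normalizer_eq_top_iff.2 hLn
  have hM : Nat.card (Subgroup.normalizer (L : Set G) ⧸
      L.subgroupOf (Subgroup.normalizer (L : Set G))) = m := by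
    show L.relIndex (Subgroup.normalizer (L : Set G)) = m
    rw [hX, Subgroup.relIndex_top_right, hd.index_L]
  rw [hM] at hcard
  have := hS.factorization_m_pos hp
  rw [hm, show m.factorization p = 1 by omega, pow_one]

/-- The structure theorem when some `p`-element has small class size. -/
theorem conclusion_of_small :
    m.Prime ∧ m ∣ n - 1 ∧ (∃ M : Subgroup G, M.Normal ∧ (M : Set G) = {x : G |
      (Subgroup.centralizer ({x} : Set G)).index = 1 ∨
      (Subgroup.centralizer ({x} : Set G)).index = m} ∧ M.index = m ∧ IsMulCommutative M) ∧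
      (∃ N : Subgroup G, N.Normal ∧ (Nat.card N).Coprime m ∧ ∃ a : ℕ, N.index = m ^ a) ∧
      ∀ P : Sylow m G, Nat.card (commutator (P : Subgroup G)) = m := by
  obtain ⟨hm, hLn, hDn⟩ := hS.normal_of_small hd hp
  subst hm
  have hpp : m.Prime := Fact.out
  have hm0 : 0 < m := hpp.pos
  have hZL := hd.center_le
  have hidx := hd.index_L
  have hpD : ∀ a ∈ L, (∃ k, orderOf a = m ^ k) → a ∈ D := fun a ha hk => hd.mem_D hS hp ha hk
  -- centralisers of noncentral elements of `L` lie in `L`
  have hCle : ∀ x ∈ L, x ∉ Subgroup.center G → Cz x ≤ L := by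
    intro x hx hxc g hg
    obtain ⟨a, b, ha, hb, -, rfl, ⟨i, hi⟩, hbp⟩ := exists_split m g
    refine L.mul_mem (hd.D_le ?_) ?_
    · have hQ := hd.D_p.to_sup_of_normal_left' (isPGroup_zpowers hi)
        (Subgroup.normalizer_eq_top_iff.2 hDn ▸ le_top)
      have hle : D ⊔ Subgroup.zpowers a ≤ Cz x :=
        sup_le (fun d hd' => mem_Cz.2 (hd.D_comm d hd' x hx))
          (Subgroup.zpowers_le.2 (Subgroup.zpowers_le.2 hg ha))
      exact (hS.eq_of_expo hp hxc le_sup_left hQ hle hd.D_card).ge
        (le_sup_right (α := Subgroup G) (Subgroup.mem_zpowers a))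
    · haveI := hLn
      exact CfsgLib.NPC.mem_of_coprime (N := L) (k := 1) (by rw [hidx, pow_one]) hbp
  obtain ⟨v, ⟨kv, hkv⟩, -, hvL⟩ := hd.exists_v hS hp
  have hCu : ∀ u : G, u ∉ L → Cz u ⊓ L = Subgroup.center G ∧
      Nat.card (Cz u) = Nat.card (Subgroup.center G) * m := by
    intro u hu
    have h1 : Cz u ⊓ L = Subgroup.center G := by
      refine le_antisymm ?_ (le_inf (center_le_Cz u) hZL)
      rintro g ⟨hgu, hgL⟩
      by_contra hgc
      exact hu (hCle g hgL hgc (mem_Cz.2 (mem_Cz.1 hgu).symm))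
    refine ⟨h1, ?_⟩
    haveI := hLn
    have h2 : L.relIndex (Cz u) ∣ m := hidx ▸ Subgroup.relIndex_dvd_index_of_normal L (Cz u)
    rcases (Nat.dvd_prime hpp).1 h2 with h | h
    · exact absurd (Subgroup.relIndex_eq_one.1 h (mem_Cz_self u)) hu
    · rw [← h1, ← card_mul_relIndex' (inf_le_left : Cz u ⊓ L ≤ Cz u),
        Subgroup.inf_relIndex_left, h]
  have hvc : v ∉ Subgroup.center G := fun h => hvL (hZL h)
  obtain ⟨t, htD, htc⟩ := hd.exists_t
  -- `L` is abelian
  have hW : ∀ x ∈ W, x ∉ Subgroup.center G → Cz x = L := by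
    intro x hx hxc
    have hxL := hd.W_le hx
    have hsmall : (Cz x).index = m := by
      refine (hS.dich x hxc).resolve_right fun hbig => ?_
      set H := Subgroup.center G ⊔ Subgroup.zpowers t with hH
      have hHle : H ≤ Cz x := sup_le (center_le_Cz x)
        (Subgroup.zpowers_le.2 (mem_Cz.2 (hd.D_comm t htD x hxL)))
      have hHp : Nat.card (Subgroup.center G) * m ≤ Nat.card H := by
        have hf := factorization_center_lt (r := m) (le_sup_left : Subgroup.center G ≤ H) htc
          (Subgroup.mem_sup_right (Subgroup.mem_zpowers t)) (orderOf_of_mem hd.D_p htD)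
        have h1 := card_mul_relIndex' (le_sup_left : Subgroup.center G ≤ H)
        have h2 : (Subgroup.center G).relIndex H ≠ 0 := fun e => by
          rw [e, mul_zero] at h1
          exact Nat.card_pos.ne h1
        have h3 : m ∣ (Subgroup.center G).relIndex H := by
          by_contra h
          rw [← h1, Nat.factorization_mul Nat.card_pos.ne' h2, Finsupp.add_apply,
            Nat.factorization_eq_zero_of_not_dvd h, add_zero] at hf
          exact lt_irrefl _ hf
        rw [← h1]
        exact Nat.mul_le_mul_left _ (Nat.le_of_dvd (Nat.pos_of_ne_zero h2) h3)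
      have hxH : x ∉ H := by
        intro h
        obtain ⟨z, hz, y, hy, rfl⟩ := Subgroup.mem_sup_of_normal_left.1 h
        obtain ⟨k, hk⟩ := orderOf_of_mem hd.D_p (Subgroup.zpowers_le.2 htD hy)
        obtain ⟨j, hj⟩ := exists_pow_eq_self_of_coprime
          (show (orderOf (z * y)).Coprime (orderOf y) from hk ▸ ((hd.W_mem _).1 hx).2.pow_right k)
        refine hxc (mul_mem hz ?_)
        rw [← hj]
        refine pow_mem ?_ j
        have e : y ^ orderOf (z * y) = (z ^ orderOf (z * y))⁻¹ := by
          rw [eq_inv_iff_mul_eq_one]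
          rw [← ((show Commute z y from (Subgroup.mem_center_iff.1 hz y).symm)).symm.mul_pow,
            ← (Subgroup.mem_center_iff.1 hz y).symm, pow_orderOf_eq_one]
        rw [e]
        exact inv_mem (pow_mem hz _)
      have hlt : Nat.card H < Nat.card (Cz x) := by
        by_contra hge
        exact hxH ((Subgroup.eq_of_le_of_card_ge hHle (not_lt.1 hge)).ge (mem_Cz_self x))
      have h4 := (Cz x).card_mul_index
      rw [hbig] at h4
      have h5 := (Cz v).card_mul_index
      have h6 := hS.index_le hvc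
      have h7 := (hCu v hvL).2
      have h8 : Nat.card (Cz x) ≤ Nat.card (Cz v) := by
        by_contra h
        have := Nat.mul_lt_mul_of_lt_of_le (not_le.1 h) h6
          (Nat.mul_pos hm0 (zero_lt_one.trans hS.n_gt))
        omega
      omega
    refine Subgroup.eq_of_le_of_card_ge (hCle x hxL hxc) ?_
    have h1 := L.card_mul_index
    have h2 := (Cz x).card_mul_index
    rw [hsmall] at h2
    rw [hidx] at h1
    exact (Nat.eq_of_mul_eq_mul_right hm0 (h1.trans h2.symm)).le
  have hab : ∀ a ∈ L, ∀ b ∈ L, Commute a b := by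
    intro a ha b hb
    obtain ⟨d, hdD, w, hw, rfl⟩ := hd.split hS hp ha
    refine (hd.D_comm d hdD b hb).mul_left ?_
    by_cases hwc : w ∈ Subgroup.center G
    · exact (Subgroup.mem_center_iff.1 hwc b).symm
    · exact (mem_Cz.1 ((hW w hw hwc).symm ▸ hb)).symm
  have hin : ∀ x ∈ L, x ∉ Subgroup.center G → (Cz x).index = m := fun x hx hxc => by
    rw [le_antisymm (hCle x hx hxc) fun g hg => mem_Cz.2 (hab g hg x hx), hidx]
  have hout : ∀ u : G, u ∉ L → (Cz u).index = m * n := by
    obtain ⟨y, hy⟩ := hS.big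
    have hyL : y ∉ L := fun h => by
      rw [hin y h (hS.noncentral_of_index (Or.inr hy))] at hy
      have := (Nat.lt_mul_iff_one_lt_right hm0).2 hS.n_gt
      omega
    intro u hu
    rw [← hy]
    refine Nat.eq_of_mul_eq_mul_left (Nat.card_pos (α := Cz u)) ?_
    rw [Subgroup.card_mul_index]
    rw [(hCu u hu).2, ← (hCu y hyL).2, Subgroup.card_mul_index]
  have hLcard : Nat.card L = Nat.card (Subgroup.center G) * (m * n) := by
    refine Nat.eq_of_mul_eq_mul_right hm0 ?_
    have h1 := L.card_mul_index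
    rw [hidx] at h1
    have h2 := (Cz v).card_mul_index
    rw [hout v hvL, (hCu v hvL).2] at h2
    rw [h1, ← h2]
    ring
  -- the part of order prime to `m`
  set Z0 := W ⊓ Subgroup.center G with hZ0
  have hWn : W.Normal := ⟨fun w hw g =>
    hd.conj_W (Subgroup.normalizer_eq_top_iff.2 hLn ▸ Subgroup.mem_top g) hw⟩
  obtain ⟨kW, hkW⟩ := hd.W_index
  have hWco : (Nat.card W).Coprime m := by
    rw [Nat.coprime_comm, hpp.coprime_iff_not_dvd]
    intro h
    obtain ⟨⟨a, ha⟩, hao⟩ := exists_prime_orderOf_dvd_card' (G := W) m h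
    rw [Subgroup.orderOf_mk] at hao
    exact hpp.ne_one (Nat.eq_one_of_dvd_coprimes ((hd.W_mem a).1 ha).2 (dvd_of_eq hao.symm) dvd_rfl)
  have hWidx : W.index = m ^ (kW + 1) := by
    rw [← Subgroup.relIndex_mul_index hd.W_le, hkW, hidx, pow_succ]
  have hWn' : Nat.card W = Nat.card Z0 * n := by
    haveI := hWn
    obtain ⟨j, -, hj⟩ := (Nat.dvd_prime_pow hpp).1
      (hWidx ▸ Subgroup.relIndex_dvd_index_of_normal W (Subgroup.center G))
    have e1 := ordCompl_eq_card hd.W_le hkW hWco
    have e2 := ordCompl_eq_card (inf_le_right : Z0 ≤ Subgroup.center G) (k := j)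
      (by rw [Subgroup.inf_relIndex_right, hj])
      (hWco.coprime_dvd_left (Subgroup.card_dvd_of_le inf_le_left))
    rw [← e1, ← e2, hLcard, Nat.ordCompl_mul, Nat.ordCompl_mul,
      show ordCompl[m] m = 1 by simpa using Nat.ordCompl_self_pow hpp (k := 1), one_mul,
      (Nat.ordCompl_eq_self_iff_zero_or_not_dvd n hpp).2 (Or.inr (hS.not_dvd_n hp))]
  have hn1 : m ∣ n - 1 := by
    have hV : IsPGroup m (Subgroup.zpowers v) := isPGroup_zpowers hkv
    haveI := hWn
    letI : MulAction (Subgroup.zpowers v) W :=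
      MulAction.compHom W ((MulAut.conjNormal (H := W)).comp (Subgroup.zpowers v).subtype)
    have hfix : Nat.card (MulAction.fixedPoints (Subgroup.zpowers v) W) = Nat.card Z0 := by
      refine Nat.card_congr ⟨fun x => ⟨(x.1 : G), x.1.2, ?_⟩,
        fun z => ⟨⟨z, z.2.1⟩, fun g => Subtype.ext ?_⟩, fun x => rfl, fun z => rfl⟩
      · have hvx := congrArg Subtype.val (x.2 ⟨v, Subgroup.mem_zpowers v⟩)
        have hvx' : v * (x.1 : G) * v⁻¹ = x.1 := by
          simpa [MulAction.compHom_smul_def] using hvx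
        exact (hCu v hvL).1.le ⟨mem_Cz.2 (show Commute (x.1 : G) v from
          (mul_inv_eq_iff_eq_mul.1 hvx').symm), hd.W_le x.1.2⟩
      · show (g : G) * (z : G) * (g : G)⁻¹ = z
        rw [Subgroup.mem_center_iff.1 z.2.2 g, mul_inv_cancel_right]
    have h := hV.card_modEq_card_fixedPoints W
    rw [hfix, hWn'] at h
    have hZ0co : Nat.Coprime m (Nat.card Z0) :=
      (hWco.coprime_dvd_left (Subgroup.card_dvd_of_le inf_le_left)).symm
    have h' : n ≡ 1 [MOD m] := by
      refine Nat.ModEq.cancel_left_of_coprime hZ0co ?_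
      rw [mul_one]
      exact h
    exact (Nat.modEq_iff_dvd' (le_of_lt hS.n_gt)).1 h'.symm
  refine ⟨hpp, hn1, ⟨L, hLn, ?_, hidx, ⟨⟨fun a b => Subtype.ext (hab a a.2 b b.2)⟩⟩⟩,
    ⟨W, hWn, hWco, kW + 1, hWidx⟩, fun P => ?_⟩
  · ext x
    simp only [SetLike.mem_coe, Set.mem_ofPred_eq]
    constructor
    · intro hx
      by_cases hxc : x ∈ Subgroup.center G
      · exact Or.inl ((index_Cz_eq_one_iff x).2 hxc)
      · exact Or.inr (hin x hx hxc)
    · intro h
      by_contra hx
      have h2 := hout x hx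
      have := (Nat.lt_mul_iff_one_lt_right hm0).2 hS.n_gt
      rcases h with h | h <;> rw [h] at h2 <;> omega
  · -- the commutator subgroup of a Sylow subgroup
    have hDP : D ≤ (P : Subgroup G) := by
      haveI := hDn
      exact le_sup_left.trans (P.is_maximal' (hd.D_p.to_sup_of_normal_left P.isPGroup')
        le_sup_right).le
    set A := D.subgroupOf (P : Subgroup G)
    haveI : A.Normal := hDn.subgroupOf _
    have hfm : m.factorization m = 1 := hpp.factorization_self
    have hAidx : A.index = m := by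
      have h1 := card_mul_relIndex' hDP
      rw [hd.D_card, Sylow.card_eq_multiplicity] at h1
      have h2 := hS.factorization_m_le m
      refine Nat.eq_of_mul_eq_mul_left (Nat.pow_pos (n := expo G m m) hm0) ?_
      show m ^ expo G m m * D.relIndex (P : Subgroup G) = m ^ expo G m m * m
      rw [h1, ← pow_succ, expo, hfm, Nat.sub_add_cancel (by omega)]
    have hPD : ∀ x ∈ (P : Subgroup G), (∀ y ∈ (P : Subgroup G), Commute y x) →
        x ∈ Subgroup.center G := by
      intro x hx hxP
      by_contra hxc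
      exact (hS.lt_sylow hp hd.D_card hDP).ne
        (hS.eq_of_expo hp hxc hDP P.isPGroup' (fun y hy => mem_Cz.2 (hxP y hy)) hd.D_card)
    have hna : Subgroup.center (P : Subgroup G) ≠ ⊤ := by
      intro htop
      refine (hS.lt_sylow hp hd.D_card hDP).not_ge fun x hx => ?_
      refine hpD x (hZL (hPD x hx fun y hy => ?_)) (orderOf_of_mem P.isPGroup' hx)
      exact congrArg Subtype.val (Subgroup.mem_center_iff.1
        (htop ▸ Subgroup.mem_top (⟨x, hx⟩ : (P : Subgroup G))) ⟨y, hy⟩)
    have hcen : Nat.card (Subgroup.center (P : Subgroup G)) =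
        Nat.card (D ⊓ Subgroup.center G : Subgroup G) := by
      rw [← Subgroup.card_map_of_injective (P : Subgroup G).subtype_injective]
      congr 2
      ext x
      constructor
      · rintro ⟨⟨y, hy⟩, hyc, rfl⟩
        have hyz : y ∈ Subgroup.center G := hPD y hy fun z hz =>
          congrArg Subtype.val (Subgroup.mem_center_iff.1 hyc ⟨z, hz⟩)
        exact ⟨hpD y (hZL hyz) (orderOf_of_mem P.isPGroup' hy), hyz⟩
      · rintro ⟨hxD, hxc⟩
        exact ⟨⟨x, hDP hxD⟩, Subgroup.mem_center_iff.2 fun z =>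
          Subtype.ext (Subgroup.mem_center_iff.1 hxc z), rfl⟩
    have hmain := CfsgLib.PGroup.AbelianMax.card_eq_card_commutator_mul_card_center A
      (fun a ha b hb => Subtype.ext (hab _ (hd.D_le ha) _ (hd.D_le hb))) (by rw [hAidx]; exact hpp) hna
    rw [hcen] at hmain
    have hA : Nat.card A = Nat.card D := Nat.card_congr (Subgroup.subgroupOfEquivOfLe hDP).toEquiv
    have hDZ : Nat.card (D ⊓ Subgroup.center G : Subgroup G) * m = Nat.card D := by
      obtain ⟨T, hT1, hT2, hT3⟩ := exists_full' m (Subgroup.center G)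
      have hTe : T = D ⊓ Subgroup.center G := eq_of_full
        (fun a ha => ⟨hpD a (hZL (hT1 ha)) (orderOf_of_mem hT2 ha), hT1 ha⟩)
        (hd.D_p.to_le inf_le_left) inf_le_right hT3
      obtain ⟨t, ht, htc⟩ := hd.exists_t
      have hexp : expo G m m = (Nat.card (Subgroup.center G)).factorization m + 1 := by
        rw [← hS.factorization_Cz (hS.not_dvd_n hp) htc, hd.Cz_eq t ht htc, hLcard,
          Nat.factorization_mul Nat.card_pos.ne' (by have := hS.n_gt; positivity),
          Nat.factorization_mul hm0.ne' (by have := hS.n_gt; omega), Finsupp.add_apply,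
          Finsupp.add_apply, hfm, Nat.factorization_eq_zero_of_not_dvd (hS.not_dvd_n hp)]
      rw [← hTe, hT3, hd.D_card, hexp, pow_succ]
    refine Nat.eq_of_mul_eq_mul_right (Nat.card_pos (α := (D ⊓ Subgroup.center G : Subgroup G))) ?_
    rw [← hmain, hA, ← hDZ, mul_comm]

end Sizes

end CfsgLib.ClassSize.Three
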