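import Cfsg.Agent.Lib.ClassSize.ThreeSizesSmallP
import Cfsg.Agent.Lib.CharP.PCore
import Cfsg.Agent.Lib.PGroup.AbelianMax

/-!
# Class sizes `1`, `m`, `m * n`: the structure when some `p`-element is small
-/

set_option autoImplicit false
set_option linter.style.haveILetI false
set_option linter.unusedSectionVars false

open scoped commutatorElement

namespace CfsgLib.ClassSize.Three

/-- An abelian group, or one of order `p * q`, acting fixed-point-freely on a nontrivial abelian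
group is cyclic. -/
theorem isCyclic_of_fpf_mulAut {A V : Type*} [Group A] [Group V] [IsMulCommutative V] [Finite A]
    [Finite V] [Nontrivial V] (f : A →* MulAut V)
    (hfpf : ∀ a : A, a ≠ 1 → ∀ v : V, f a v = v → v = 1) :
    (IsMulCommutative A → IsCyclic A) ∧
      ∀ p q : ℕ, p.Prime → q.Prime → Nat.card A = p * q → IsCyclic A := by
  haveI : Finite (SemidirectProduct V A f) := Finite.of_equiv _ SemidirectProduct.equivProd.symm
  set iv : V →* SemidirectProduct V A f := SemidirectProduct.inl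
  set ia : A →* SemidirectProduct V A f := SemidirectProduct.inr
  have hnorm : ia.range ≤ Subgroup.normalizer (iv.range : Set (SemidirectProduct V A f)) := by
    rw [Subgroup.normalizer_eq_top_iff.2 (by
      rw [SemidirectProduct.range_inl_eq_ker_rightHom]; infer_instance)]
    exact le_top
  haveI hcomm : IsMulCommutative iv.range := ⟨⟨by
    rintro ⟨_, x, rfl⟩ ⟨_, y, rfl⟩
    exact Subtype.ext (show iv x * iv y = iv y * iv x by rw [← map_mul, mul_comm', map_mul])⟩⟩
  have hne : iv.range ≠ ⊥ := by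
    obtain ⟨x, hx⟩ := exists_ne (1 : V)
    intro h
    have : iv x ∈ (⊥ : Subgroup (SemidirectProduct V A f)) := h ▸ ⟨x, rfl⟩
    exact hx (SemidirectProduct.inl_injective (by rw [Subgroup.mem_bot.1 this, map_one]))
  have hf : ∀ a ∈ ia.range, a ≠ 1 → iv.range ⊓ Subgroup.centralizer {a} = ⊥ := by
    rintro _ ⟨a, rfl⟩ ha
    rw [eq_bot_iff]
    rintro _ ⟨⟨x, rfl⟩, hx⟩
    replace hx := Subgroup.mem_centralizer_singleton_iff.1 hx
    refine Subgroup.mem_bot.2 ?_
    rw [hfpf a (fun e => ha (by rw [e, map_one])) x ?_, map_one]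
    apply SemidirectProduct.inl_injective (φ := f)
    rw [SemidirectProduct.inl_aut, map_inv]
    exact mul_inv_eq_iff_eq_mul.2 hx.symm
  have hiso : IsCyclic ia.range → IsCyclic A := fun h =>
    (MulEquiv.isCyclic (MonoidHom.ofInjective SemidirectProduct.inr_injective)).2 h
  refine ⟨fun hA => hiso ?_, fun p q hp hq hc => hiso ?_⟩
  · haveI : IsMulCommutative ia.range := ⟨⟨by
      rintro ⟨_, x, rfl⟩ ⟨_, y, rfl⟩
      exact Subtype.ext (show ia x * ia y = ia y * ia x by rw [← map_mul, mul_comm', map_mul])⟩⟩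
    exact CfsgLib.Frobenius.isCyclic_of_commutative_fpf hne hnorm hf
  · exact CfsgLib.Frobenius.isCyclic_of_card_mul_fpf hne hnorm hf hp hq
      (by rw [← hc]; exact Nat.card_congr (MonoidHom.ofInjective SemidirectProduct.inr_injective).toEquiv.symm)

/-- A lift of an element of prime order by an element of prime power order. -/
theorem exists_lift_prime {X M : Type*} [Group X] [Finite X] [Group M] [Finite M] (f : X →* M)
    (hf : Function.Surjective f) {q : ℕ} [Fact q.Prime] {a : M} (ha : orderOf a = q) :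
    ∃ u : X, f u = a ∧ ∃ k, orderOf u = q ^ k := by
  obtain ⟨u, rfl⟩ := hf a
  obtain ⟨u1, u2, hu1, hu2, -, rfl, hk, hco⟩ := exists_split q u
  refine ⟨u1, ?_, hk⟩
  have h1 : f u2 ∈ Subgroup.zpowers (f (u1 * u2)) := by
    obtain ⟨i, hi⟩ := Subgroup.mem_zpowers_iff.1 hu2
    exact ⟨i, by show f (u1 * u2) ^ i = f u2; rw [← map_zpow, hi]⟩
  have h2 : orderOf (f u2) ∣ q := by
    have := orderOf_dvd_of_mem_zpowers h1
    rwa [ha] at this
  have h3 : f u2 = 1 := orderOf_eq_one_iff.1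
    (Nat.eq_one_of_dvd_coprimes hco (orderOf_map_dvd f u2) h2)
  rw [map_mul, h3, mul_one]

variable {G : Type*} [Group G] [Finite G] {m n p : ℕ} [Fact p.Prime] {L D W : Subgroup G}

namespace SData

variable (hd : SData G m p L D W)

include hd

theorem W_le : W ≤ L := fun g hg => ((hd.W_mem g).1 hg).1

theorem center_le : Subgroup.center G ≤ L := by
  obtain ⟨t, ht, htc⟩ := hd.exists_t
  exact hd.Cz_eq t ht htc ▸ center_le_Cz t

theorem mem_D (hS : Sizes G m n) (hp : p ∣ m) {a : G} (ha : a ∈ L)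
    (hak : ∃ k, orderOf a = p ^ k) : a ∈ D := by
  obtain ⟨t, ht, htc⟩ := hd.exists_t
  obtain ⟨k, hk⟩ := hak
  refine le_full_of_normal hd.D_p hd.D_le ?_ ((Subgroup.zpowers_le.2
    (Subgroup.mem_centralizer_iff.2 fun d hd' => hd.D_comm d hd' a ha)).trans
      (Subgroup.centralizer_le_normalizer _))
    (isPGroup_zpowers hk) (Subgroup.zpowers_le.2 ha) (Subgroup.mem_zpowers a)
  rw [hd.D_card, ← hS.factorization_Cz (hS.not_dvd_n hp) htc, hd.Cz_eq t ht htc]

theorem split (hS : Sizes G m n) (hp : p ∣ m) {l : G} (hl : l ∈ L) :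
    ∃ a ∈ D, ∃ b ∈ W, a * b = l := by
  obtain ⟨a, b, ha, hb, -, hab, hak, hbp⟩ := exists_split p l
  exact ⟨a, hd.mem_D hS hp (Subgroup.zpowers_le.2 hl ha) hak, b,
    (hd.W_mem b).2 ⟨Subgroup.zpowers_le.2 hl hb, hbp⟩, hab⟩

theorem conj_D (hS : Sizes G m n) (hp : p ∣ m) {x d : G}
    (hx : x ∈ Subgroup.normalizer (L : Set G)) (hdD : d ∈ D) : x * d * x⁻¹ ∈ D :=
  hd.mem_D hS hp ((Subgroup.mem_normalizer_iff.1 hx d).1 (hd.D_le hdD))
    (by rw [orderOf_conj]; exact orderOf_of_mem hd.D_p hdD)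

theorem conj_W {x w : G} (hx : x ∈ Subgroup.normalizer (L : Set G)) (hw : w ∈ W) :
    x * w * x⁻¹ ∈ W :=
  (hd.W_mem _).2 ⟨(Subgroup.mem_normalizer_iff.1 hx w).1 (hd.W_le hw),
    by rw [orderOf_conj]; exact ((hd.W_mem w).1 hw).2⟩

theorem normalizer_le (hS : Sizes G m n) (hp : p ∣ m) :
    Subgroup.normalizer (L : Set G) ≤ Subgroup.normalizer (D : Set G) := by
  intro x hx
  rw [Subgroup.mem_normalizer_iff]
  refine fun d => ⟨fun h => hd.conj_D hS hp hx h, fun h => ?_⟩
  simpa [mul_assoc] using hd.conj_D hS hp (inv_mem hx) h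

/-- A `p`-element normalising, but not in, `L` fixes only central elements of `W` modulo `Z`. -/
theorem semireg (hS : Sizes G m n) (hp : p ∣ m) {v w : G}
    (hv : ∃ k, orderOf v = p ^ k) (hvn : v ∈ Subgroup.normalizer (L : Set G)) (hvL : v ∉ L)
    (hw : w ∈ W) (hc : ∃ c ∈ Subgroup.center G, v * w * v⁻¹ = c * w) :
    w ∈ Subgroup.center G := by
  obtain ⟨c, hc, hcw⟩ := hc
  obtain ⟨i, hi⟩ := hv
  have hcW : c ∈ W := by
    have := W.mul_mem (hd.conj_W hvn hw) (W.inv_mem hw)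
    rwa [hcw, mul_inv_cancel_right] at this
  refine hS.mem_center_of_commute hp hd.D_p hd.D_card ⟨i, hi⟩ (hd.normalizer_le hS hp hvn)
    (fun h => hvL (hd.D_le h)) (fun d hd' => hd.D_comm d hd' w (hd.W_le hw)) ?_
  exact commute_of_central_commutator hc hcw (a := p ^ i) (b := orderOf c)
    (by rw [← hi, pow_orderOf_eq_one]; exact Commute.one_left w) (pow_orderOf_eq_one c)
    (((hd.W_mem c).1 hcW).2.symm.pow_left i)

/-- A `p`-subgroup normalising `L` fixes a noncentral element of `D` modulo `Z`. -/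
theorem exists_fixed (hS : Sizes G m n) (hp : p ∣ m) {S : Subgroup G} (hSp : IsPGroup p S)
    (hSn : S ≤ Subgroup.normalizer (L : Set G)) :
    ∃ z ∈ D, z ∉ Subgroup.center G ∧ z ^ p ∈ Subgroup.center G ∧
      ∀ u ∈ S, ∃ c ∈ Subgroup.center G, u * z * u⁻¹ = c * z := by
  have hn := hSn.trans (hd.normalizer_le hS hp)
  obtain ⟨t, ht, htc⟩ := hd.exists_t
  obtain ⟨z, hz, hz1, hz2, hz3⟩ := exists_fixed_mod_center (hd.D_p.to_sup_of_normal_left' hSp hn)
    le_sup_left (sup_le Subgroup.le_normalizer hn) (fun h => htc (h ht))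
  exact ⟨z, hz, hz1, hz2, fun u hu => hz3 u (Subgroup.mem_sup_right hu)⟩

/-- A `p`-element outside `L` normalising it. -/
theorem exists_v (hS : Sizes G m n) (hp : p ∣ m) :
    ∃ v : G, (∃ k, orderOf v = p ^ k) ∧ v ∈ Subgroup.normalizer (L : Set G) ∧ v ∉ L := by
  obtain ⟨P, hP⟩ := hd.D_p.exists_le_sylow
  obtain ⟨v, hvP, hvD, hvn, -⟩ :=
    exists_normalizer_step P.isPGroup' (hS.lt_sylow hp hd.D_card hP)
  have hvo := orderOf_of_mem P.isPGroup' hvP
  obtain ⟨t, ht, htc⟩ := hd.exists_t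
  have key : ∀ x ∈ Subgroup.normalizer (D : Set G), ∀ g ∈ L, x * g * x⁻¹ ∈ L := by
    intro x hx g hg
    rw [← hd.Cz_eq _ ((Subgroup.mem_normalizer_iff.1 hx t).1 ht)
      (fun h => htc (conj_mem_center_iff.1 h)), conj_mem_Cz_iff, hd.Cz_eq t ht htc]
    exact hg
  refine ⟨v, hvo, ?_, fun h => hvD (hd.mem_D hS hp h hvo)⟩
  rw [Subgroup.mem_normalizer_iff]
  refine fun g => ⟨key v hvn g, fun hg => ?_⟩
  simpa [mul_assoc] using key v⁻¹ (inv_mem hvn) _ hg

end SData

namespace Sizes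

variable (hS : Sizes G m n) (hd : SData G m p L D W) (hp : p ∣ m)

include hS hd hp

/-- The normaliser of `L` modulo `L` acts fixed-point-freely on a nontrivial abelian group. -/
theorem exists_fpf_action : ∃ (V : Subgroup (G ⧸ Subgroup.center G))
    (f : (Subgroup.normalizer (L : Set G) ⧸ L.subgroupOf (Subgroup.normalizer (L : Set G))) →*
      MulAut V), IsMulCommutative V ∧ V ≠ ⊥ ∧ ∀ a, a ≠ 1 → ∀ x, f a x = x → x = 1 := by
  obtain ⟨r, hr, hrm, w0, hw0L, hw0c, kw, hkw⟩ := hd.primary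
  haveI : Fact r.Prime := ⟨hr⟩
  have hrp : ∀ i, (r ^ i).Coprime p := fun i =>
    Nat.Coprime.pow_left i ((Nat.coprime_primes hr Fact.out).2 fun e => hrm (e ▸ hp))
  have hw0 : w0 ∈ W := (hd.W_mem w0).2 ⟨hw0L, hkw ▸ hrp kw⟩
  obtain ⟨R, hRW, hw0R, hRp, hRc⟩ :=
    exists_full r W (isPGroup_zpowers hkw) (Subgroup.zpowers_le.2 hw0)
  have hWnR := le_normalizer_full hd.W_nil hRp hRW hRc
  have hmemR : ∀ a ∈ L, (∃ k, orderOf a = r ^ k) → a ∈ R := fun a ha ⟨k, hk⟩ => by
    have haW : a ∈ W := (hd.W_mem a).2 ⟨ha, hk ▸ hrp k⟩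
    exact le_full_of_normal hRp hRW hRc ((Subgroup.zpowers_le.2 haW).trans hWnR)
      (isPGroup_zpowers hk) (Subgroup.zpowers_le.2 haW) (Subgroup.mem_zpowers a)
  set π := QuotientGroup.mk' (Subgroup.center G) with hπ
  set X := Subgroup.normalizer (L : Set G) with hX
  set V := R.map π ⊓ Subgroup.centralizer (R.map π : Set (G ⧸ Subgroup.center G)) with hV
  have hconjR : ∀ x ∈ X, ∀ a ∈ R, x * a * x⁻¹ ∈ R := fun x hx a ha =>
    hmemR _ ((Subgroup.mem_normalizer_iff.1 hx a).1 (hd.W_le (hRW ha)))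
      (by rw [orderOf_conj]; exact orderOf_of_mem hRp ha)
  have hconjV : ∀ x ∈ X, ∀ y ∈ V, π x * y * (π x)⁻¹ ∈ V := by
    rintro x hx y ⟨⟨a, ha, rfl⟩, hy⟩
    refine ⟨⟨_, hconjR x hx a ha, by simp [map_mul, map_inv]⟩, ?_⟩
    replace hy := Subgroup.mem_centralizer_iff.1 hy
    refine Subgroup.mem_centralizer_iff.2 ?_
    rintro _ ⟨b, hb, rfl⟩
    have h := hy (π (x⁻¹ * b * x)) ⟨_, by simpa using hconjR x⁻¹ (inv_mem hx) b hb, rfl⟩
    simp only [map_mul, map_inv] at h
    calc π b * (π x * π a * (π x)⁻¹)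
        = π x * (((π x)⁻¹ * π b * π x) * π a) * (π x)⁻¹ := by group
      _ = π x * (π a * ((π x)⁻¹ * π b * π x)) * (π x)⁻¹ := by rw [h]
      _ = π x * π a * (π x)⁻¹ * π b := by group
  let g0 : X →* Subgroup.normalizer (V : Set (G ⧸ Subgroup.center G)) :=
    (π.comp X.subtype).codRestrict _ fun x => by
      rw [Subgroup.mem_normalizer_iff]
      refine fun y => ⟨fun hy => hconjV x x.2 y hy, fun hy => ?_⟩
      have := hconjV (x : G)⁻¹ (inv_mem x.2) _ hy
      simpa [map_inv, mul_assoc] using this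
  let g1 : X →* MulAut V := (Subgroup.normalizerMonoidHom V).comp g0
  have hg1 : ∀ (x : X) (y : V), (g1 x y : G ⧸ Subgroup.center G) = π x * y * (π x)⁻¹ :=
    fun x y => rfl
  have hker : L.subgroupOf X ≤ g1.ker := by
    intro l hl
    rw [MonoidHom.mem_ker]
    refine MulEquiv.ext fun y => Subtype.ext ?_
    rw [hg1]
    obtain ⟨⟨a, haR, hay⟩, hy⟩ := y.2
    obtain ⟨d, hdD, b, hbW, hdb⟩ := hd.split hS hp (Subgroup.mem_subgroupOf.1 hl)
    obtain ⟨b1, b2, hb1, hb2, -, rfl, hb1k, hb2r⟩ := exists_split r b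
    have hb1R : b1 ∈ R :=
      hmemR b1 (hd.W_le (Subgroup.zpowers_le.2 hbW hb1)) hb1k
    obtain ⟨ka, hka⟩ := orderOf_of_mem hRp haR
    have hb2a : Commute b2 a := by
      haveI := hd.W_nil
      have h := CfsgLib.NilpPerm.commute_of_coprime_order (G := W)
        (a := ⟨b2, Subgroup.zpowers_le.2 hbW hb2⟩) (b := ⟨a, hRW haR⟩) (by
          rw [← Subgroup.orderOf_coe, ← Subgroup.orderOf_coe]
          exact hka ▸ hb2r.pow_right ka)
      exact congrArg Subtype.val h.eq
    have hda : Commute d a := hd.D_comm d hdD a (hd.W_le (hRW haR))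
    have h1 : π b1 * π a = π a * π b1 := by
      rw [hay]; exact Subgroup.mem_centralizer_iff.1 hy _ ⟨b1, hb1R, rfl⟩
    show π (l : G) * (y : G ⧸ Subgroup.center G) * (π (l : G))⁻¹ = _
    rw [← hay, ← hdb]
    simp only [map_mul]
    rw [show π d * (π b1 * π b2) * π a = π a * (π d * (π b1 * π b2)) by
      calc π d * (π b1 * π b2) * π a = π d * (π b1 * π (b2 * a)) := by rw [map_mul]; group
        _ = π d * (π b1 * π a * π b2) := by rw [hb2a.eq, map_mul]; group
        _ = π (d * a) * π b1 * π b2 := by rw [h1, map_mul]; group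
        _ = π a * (π d * (π b1 * π b2)) := by rw [hda.eq, map_mul]; group]
    group
    rw [hay]
    rfl
  refine ⟨V, QuotientGroup.lift _ g1 hker, ?_, ?_, ?_⟩
  · exact ⟨⟨fun a b => Subtype.ext
      (Subgroup.mem_centralizer_iff.1 b.2.2 _ a.2.1)⟩⟩
  · obtain ⟨z, hzR, hzc, -, hzf⟩ := exists_fixed_mod_center hRp le_rfl Subgroup.le_normalizer
      (fun h => hw0c (h (hw0R (Subgroup.mem_zpowers w0))))
    intro hbot
    refine hzc ((QuotientGroup.eq_one_iff z).1 ?_)
    have hzV : π z ∈ V := by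
      refine ⟨⟨z, hzR, rfl⟩, ?_⟩
      refine Subgroup.mem_centralizer_iff.2 ?_
      rintro _ ⟨u, hu, rfl⟩
      obtain ⟨c, hc, huc⟩ := hzf u hu
      have : π (u * z * u⁻¹) = π z := by
        rw [huc, map_mul, show π c = 1 from (QuotientGroup.eq_one_iff c).2 hc, one_mul]
      rw [map_mul, map_mul, map_inv, mul_inv_eq_iff_eq_mul] at this
      exact this
    rw [hbot, Subgroup.mem_bot] at hzV
    exact hzV
  · intro a ha x hx
    by_contra hx1
    set q := (orderOf a).minFac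
    have hq : q.Prime := Nat.minFac_prime (fun e => ha (orderOf_eq_one_iff.1 e))
    haveI : Fact q.Prime := ⟨hq⟩
    set a' := a ^ (orderOf a / q)
    have ha' : orderOf a' = q :=
      orderOf_pow_orderOf_div (orderOf_pos a).ne' (Nat.minFac_dvd _)
    have hx' : ∀ k : ℕ, (QuotientGroup.lift _ g1 hker) (a ^ k) x = x := by
      intro k
      induction k with
      | zero => simp
      | succ k ih => rw [pow_succ, map_mul, MulAut.mul_apply, hx, ih]
    obtain ⟨u, hu, huk⟩ := exists_lift_prime (QuotientGroup.mk' (L.subgroupOf X))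
      (QuotientGroup.mk'_surjective _) ha'
    have huL : (u : G) ∉ L := fun h => by
      have h1 : QuotientGroup.mk' (L.subgroupOf X) u = 1 :=
        (QuotientGroup.eq_one_iff u).2 (Subgroup.mem_subgroupOf.2 h)
      rw [hu] at h1
      rw [h1, orderOf_one] at ha'
      exact hq.ne_one ha'.symm
    have hqm : q ∣ m := by
      refine ((Nat.minFac_dvd _).trans (orderOf_dvd_natCard a)).trans ?_
      rw [← hd.index_L]
      exact Subgroup.relIndex_dvd_index_of_le L.le_normalizer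
    obtain ⟨D', W', hd'⟩ := hS.SData_of_prime hp hd hqm
    obtain ⟨⟨b, hbR, hbx⟩, -⟩ := x.2
    have hfix : g1 u x = x := by
      have := hx' (orderOf a / q)
      rw [show a ^ (orderOf a / q) = a' from rfl, ← hu] at this
      exact this
    have h2 := congrArg Subtype.val hfix
    rw [hg1, ← hbx] at h2
    have hrq : ∀ i, (r ^ i).Coprime q := fun i =>
      Nat.Coprime.pow_left i ((Nat.coprime_primes hr hq).2 fun e => hrm (e ▸ hqm))
    obtain ⟨kb, hkb⟩ := orderOf_of_mem hRp hbR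
    obtain ⟨ku, hku⟩ := huk
    have hbc := hd'.semireg hS hqm ⟨ku, by rw [Subgroup.orderOf_coe, hku]⟩ u.2 huL
      ((hd'.W_mem b).2 ⟨hd.W_le (hRW hbR), hkb ▸ hrq kb⟩)
      ⟨(u : G) * b * (u : G)⁻¹ * b⁻¹, by
        rw [← QuotientGroup.eq_one_iff]
        show π ((u : G) * b * (u : G)⁻¹ * b⁻¹) = 1
        simp only [map_mul, map_inv]
        exact mul_inv_eq_one.2 h2, by group⟩
    exact hx1 (Subtype.ext (hbx ▸ (QuotientGroup.eq_one_iff b).2 hbc))

/-- The quotient `N(L) / L` has order equal to the product of the primes of `m`, and `m` is a power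
of `p`. -/
theorem unique_prime :
    (∀ q : ℕ, q.Prime → q ∣ m → q = p) ∧
      (Nat.card (Subgroup.normalizer (L : Set G) ⧸
        L.subgroupOf (Subgroup.normalizer (L : Set G)))).factorization p ≤ 1 := by
  obtain ⟨V, f, hVc, hVne, hf⟩ := hS.exists_fpf_action hd hp
  haveI := hVc
  haveI : Nontrivial V := (Subgroup.nontrivial_iff_ne_bot _).2 hVne
  set X := Subgroup.normalizer (L : Set G) with hX
  set μ := QuotientGroup.mk' (L.subgroupOf X) with hμ
  have hμsurj : Function.Surjective μ := QuotientGroup.mk'_surjective _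
  have hμL : ∀ x : X, μ x = 1 ↔ (x : G) ∈ L := fun x =>
    (QuotientGroup.eq_one_iff x).trans Subgroup.mem_subgroupOf
  have hdvd : Nat.card (X ⧸ L.subgroupOf X) ∣ m := by
    rw [← hd.index_L]
    exact Subgroup.relIndex_dvd_index_of_le L.le_normalizer
  have hfac : ∀ q : ℕ, q.Prime → q ∣ m → (Nat.card (X ⧸ L.subgroupOf X)).factorization q ≤ 1 := by
    intro q hq hqm
    haveI : Fact q.Prime := ⟨hq⟩
    obtain ⟨D', W', hd'⟩ := hS.SData_of_prime hp hd hqm
    obtain ⟨S0⟩ : Nonempty (Sylow q X) := inferInstance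
    set T := S0.mapSurjective hμsurj
    set S := (S0 : Subgroup X).map X.subtype
    obtain ⟨z, hzD, hzc, hzq, hzS⟩ :=
      hd'.exists_fixed hS hqm (S := S) (S0.isPGroup'.map _) (Subgroup.map_subtype_le _)
    have hzL : ∀ g : G, Commute g z → g ∈ L := fun g hg => hd'.Cz_eq z hzD hzc ▸ mem_Cz.2 hg
    have hmemT : ∀ a : (T : Subgroup (X ⧸ L.subgroupOf X)), ∃ u ∈ (S0 : Subgroup X), μ u = a :=
      fun a => a.2
    have hcomm : IsMulCommutative (T : Subgroup (X ⧸ L.subgroupOf X)) := ⟨⟨fun a b => by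
      obtain ⟨u, hu, hua⟩ := hmemT a
      obtain ⟨v, hv, hvb⟩ := hmemT b
      refine Subtype.ext ?_
      show (a : X ⧸ L.subgroupOf X) * b = b * a
      rw [← hua, ← hvb]
      refine (commutatorElement_eq_one_iff_mul_comm.1 ?_)
      rw [← map_commutatorElement, hμL]
      exact hzL _ (commute_pow_and_commutator hzq (hzS u ⟨u, hu, rfl⟩) (hzS v ⟨v, hv, rfl⟩)).2⟩⟩
    have hexp : ∀ a : (T : Subgroup (X ⧸ L.subgroupOf X)), a ^ q = 1 := fun a => by
      obtain ⟨u, hu, hua⟩ := hmemT a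
      refine Subtype.ext ?_
      show (a : X ⧸ L.subgroupOf X) ^ q = 1
      rw [← hua, ← map_pow, hμL]
      exact hzL _ (commute_pow_and_commutator hzq (hzS u ⟨u, hu, rfl⟩) (hzS u ⟨u, hu, rfl⟩)).1
    have hcyc := (isCyclic_of_fpf_mulAut (f.comp (T : Subgroup (X ⧸ L.subgroupOf X)).subtype)
      fun a ha => hf a (fun e => ha (Subtype.ext e))).1 hcomm
    have h1 : Nat.card (T : Subgroup (X ⧸ L.subgroupOf X)) ∣ q := by
      haveI := hcyc
      rw [← IsCyclic.exponent_eq_card]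
      exact Monoid.exponent_dvd_of_forall_pow_eq_one hexp
    rw [Sylow.card_eq_multiplicity] at h1
    exact (Nat.pow_dvd_pow_iff_le_right hq.one_lt).1 (by rwa [pow_one])
  refine ⟨fun q hq hqm => ?_, hfac p Fact.out hp⟩
  by_contra hqp
  haveI : Fact q.Prime := ⟨hq⟩
  set M := X ⧸ L.subgroupOf X
  have hsq : Squarefree (Nat.card M) := by
    rw [Nat.squarefree_iff_factorization_le_one Nat.card_pos.ne']
    intro l
    by_cases hl : l.Prime ∧ l ∣ Nat.card M
    · exact hfac l hl.1 (hl.2.trans hdvd)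
    · rcases not_and_or.1 hl with h | h
      · simp [Nat.factorization_eq_zero_of_not_prime _ h]
      · simp [Nat.factorization_eq_zero_of_not_dvd h]
  -- every prime of `m` divides `|M|`
  have hprimes : ∀ l : ℕ, l.Prime → l ∣ m → l ∣ Nat.card M := by
    intro l hl hlm
    haveI : Fact l.Prime := ⟨hl⟩
    obtain ⟨D', W', hd'⟩ := hS.SData_of_prime hp hd hlm
    obtain ⟨v, ⟨k, hk⟩, hvn, hvL⟩ := hd'.exists_v hS hlm
    obtain ⟨i, hi, hoi⟩ := (Nat.dvd_prime_pow hl).1
      (show orderOf (μ ⟨v, hvn⟩) ∣ l ^ k by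
        rw [← hk, ← Subgroup.orderOf_mk v hvn]; exact orderOf_map_dvd μ _)
    rcases Nat.eq_zero_or_pos i with h0 | h0
    · exact absurd ((hμL ⟨v, hvn⟩).1 (orderOf_eq_one_iff.1 (by rw [hoi, h0, pow_zero]))) hvL
    · exact ((dvd_pow_self l h0.ne').trans (dvd_of_eq hoi.symm)).trans (orderOf_dvd_natCard _)
  -- a normal subgroup of prime order
  obtain ⟨l, a, hl, hla, han⟩ : ∃ (l : ℕ) (a : M), l.Prime ∧ orderOf a = l ∧
      ∀ g : M, g * a * g⁻¹ ∈ Subgroup.zpowers a := by
    haveI := IsZGroup.of_squarefree hsq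
    by_cases hbot : commutator M = ⊥
    · obtain ⟨a, ha⟩ := exists_prime_orderOf_dvd_card' (G := M) q (hprimes q hq hqm)
      refine ⟨q, a, hq, ha, fun g => ?_⟩
      have hga : g * a = a * g := commutatorElement_eq_one_iff_mul_comm.1 (Subgroup.mem_bot.1
        (hbot ▸ Subgroup.commutator_mem_commutator (Subgroup.mem_top g) (Subgroup.mem_top a)))
      rw [hga, mul_inv_cancel_right]
      exact Subgroup.mem_zpowers a
    · obtain ⟨l, hl, hld⟩ :=
        Nat.exists_prime_and_dvd (fun e => hbot (Subgroup.card_eq_one.1 e))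
      haveI : Fact l.Prime := ⟨hl⟩
      obtain ⟨⟨a, haC⟩, ha⟩ := exists_prime_orderOf_dvd_card' (G := commutator M) l hld
      rw [Subgroup.orderOf_mk] at ha
      haveI := IsZGroup.isCyclic_commutator (G := M)
      have hT : Nat.card (Subgroup.zpowers a) = l ^ (Nat.card (commutator M)).factorization l := by
        have h1 : (Nat.card (commutator M)).factorization l = 1 := by
          refine le_antisymm ?_ (hl.factorization_pos_of_dvd Nat.card_pos.ne' hld)
          exact ((Nat.factorization_le_iff_dvd Nat.card_pos.ne' Nat.card_pos.ne').2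
            (Subgroup.card_subgroup_dvd_card _) l).trans
            ((Nat.squarefree_iff_factorization_le_one Nat.card_pos.ne').1 hsq l)
        rw [Nat.card_zpowers, ha, h1, pow_one]
      refine ⟨l, a, hl, ha, fun g => ?_⟩
      have hgC : g * a * g⁻¹ ∈ commutator M :=
        (inferInstance : (commutator M).Normal).conj_mem a haC g
      refine le_full_of_normal (isPGroup_zpowers (k := 1) (by rw [ha, pow_one]))
        (Subgroup.zpowers_le.2 haC) hT
        ((Subgroup.zpowers_le.2 ?_).trans (Subgroup.centralizer_le_normalizer _))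
        (isPGroup_zpowers (k := 1) (by rw [orderOf_conj, ha, pow_one]))
        (Subgroup.zpowers_le.2 hgC) (Subgroup.mem_zpowers _)
      refine Subgroup.mem_centralizer_iff.2 fun y hy => ?_
      exact congrArg Subtype.val (mul_comm' (⟨y, Subgroup.zpowers_le.2 haC hy⟩ : commutator M) ⟨_, hgC⟩)
  obtain ⟨l', hl', hl'm, hne⟩ : ∃ l', l'.Prime ∧ l' ∣ m ∧ l' ≠ l := by
    by_cases h : p = l
    · exact ⟨q, hq, hqm, fun e => hqp (e.trans h.symm)⟩
    · exact ⟨p, Fact.out, hp, h⟩
  haveI : Fact l.Prime := ⟨hl⟩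
  haveI : Fact l'.Prime := ⟨hl'⟩
  obtain ⟨h, hh⟩ := exists_prime_orderOf_dvd_card' (G := M) l' (hprimes l' hl' hl'm)
  have hlm : l ∣ m := (hla ▸ orderOf_dvd_natCard a).trans hdvd
  -- they commute
  have hah : h * a * h⁻¹ = a := by
    set A := Subgroup.zpowers h ⊔ Subgroup.zpowers a
    haveI : (Subgroup.zpowers a).Normal := ⟨fun y hy g => by
      obtain ⟨i, rfl⟩ := Subgroup.mem_zpowers_iff.1 hy
      rw [← conj_zpow]
      exact Subgroup.zpow_mem _ (han g) i⟩
    have hcard : Nat.card A = l * l' := by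
      rw [← card_mul_relIndex' (le_sup_right : Subgroup.zpowers a ≤ A), Subgroup.relIndex_sup_right,
        ← Subgroup.inf_relIndex_right, Subgroup.relIndex, Nat.card_zpowers, hla]
      rw [show (Subgroup.zpowers a ⊓ Subgroup.zpowers h).subgroupOf (Subgroup.zpowers h) = ⊥ by
        rw [Subgroup.subgroupOf_eq_bot, disjoint_iff]
        rw [inf_assoc, inf_idem, ← disjoint_iff]
        exact IsPGroup.disjoint_of_ne l l' hne.symm _ _
          (isPGroup_zpowers (k := 1) (by rw [hla, pow_one]))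
          (isPGroup_zpowers (k := 1) (by rw [hh, pow_one])), Subgroup.index_bot, Nat.card_zpowers, hh]
    have hcyc := (isCyclic_of_fpf_mulAut (f.comp A.subtype)
      fun x hx => hf x (fun e => hx (Subtype.ext e))).2 l l' hl hl' hcard
    haveI := hcyc
    have := congrArg Subtype.val (mul_comm'
      (⟨h, Subgroup.mem_sup_left (Subgroup.mem_zpowers h)⟩ : A)
      ⟨a, Subgroup.mem_sup_right (Subgroup.mem_zpowers a)⟩)
    rw [show h * a = a * h from this, mul_inv_cancel_right]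
  obtain ⟨u, hu, ku, hku⟩ := exists_lift_prime μ hμsurj hla
  obtain ⟨⟨g, hgn⟩, hg⟩ := hμsurj h
  obtain ⟨D', W', hd'⟩ := hS.SData_of_prime hp hd hlm
  obtain ⟨z, hzD, hzc, -, hzu⟩ := hd'.exists_fixed hS hlm (S := Subgroup.zpowers (u : G))
    (isPGroup_zpowers (k := ku) (by rw [Subgroup.orderOf_coe, hku])) (Subgroup.zpowers_le.2 u.2)
  obtain ⟨c, hc, hcz⟩ := hzu _ (Subgroup.mem_zpowers _)
  set z' := g * z * g⁻¹
  have hz'D : z' ∈ D' := hd'.conj_D hS hlm hgn hzD
  obtain ⟨y, hy, hyu⟩ : ∃ y ∈ L, g * (u : G) * g⁻¹ = (u : G) * y := by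
    refine ⟨(u : G)⁻¹ * (g * u * g⁻¹), (hμL (u⁻¹ * (⟨g, hgn⟩ * u * ⟨g, hgn⟩⁻¹))).1 ?_, by group⟩
    simp only [map_mul, map_inv, hu, hg]
    rw [hah, inv_mul_cancel]
  have h1 : (u : G) * z' * (u : G)⁻¹ = c * z' := by
    have hyz : y * z' * y⁻¹ = z' := by
      rw [← (hd'.D_comm z' hz'D y hy).eq, mul_inv_cancel_right]
    calc (u : G) * z' * (u : G)⁻¹ = (u : G) * (y * z' * y⁻¹) * (u : G)⁻¹ := by rw [hyz]
      _ = ((u : G) * y) * z' * ((u : G) * y)⁻¹ := by group
      _ = g * (c * z) * g⁻¹ := by rw [← hyu, ← hcz]; simp only [z']; group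
      _ = c * z' := by
        simp only [z']
        rw [← mul_assoc g c z, Subgroup.mem_center_iff.1 hc g]; group
  have hzz : Commute (u : G) (z⁻¹ * z') := by
    have : (u : G) * (z⁻¹ * z') * (u : G)⁻¹ = z⁻¹ * z' := by
      calc (u : G) * (z⁻¹ * z') * (u : G)⁻¹
          = ((u : G) * z * (u : G)⁻¹)⁻¹ * ((u : G) * z' * (u : G)⁻¹) := by group
        _ = (c * z)⁻¹ * (c * z') := by rw [hcz, h1]
        _ = z⁻¹ * z' := by group
    exact mul_inv_eq_iff_eq_mul.1 this
  have hcen : z⁻¹ * z' ∈ Subgroup.center G := by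
    by_contra hne'
    have huL : (u : G) ∈ L :=
      hd'.Cz_eq _ (mul_mem (inv_mem hzD) hz'D) hne' ▸ mem_Cz.2 hzz
    rw [← hμL, hu] at huL
    rw [huL, orderOf_one] at hla
    exact hl.ne_one hla.symm
  have hgz : g * z * g⁻¹ = (z⁻¹ * z') * z := by
    rw [← Subgroup.mem_center_iff.1 hcen z, mul_inv_cancel_left]
  have hgl : g ^ l' ∈ L := by
    have : μ (⟨g, hgn⟩ ^ l') = 1 := by rw [map_pow, hg, ← hh, pow_orderOf_eq_one]
    exact (hμL _).1 this
  obtain ⟨kz, hkz⟩ := orderOf_of_mem hd'.D_p (mul_mem (inv_mem hzD) hz'D)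
  have hgc : Commute g z := commute_of_central_commutator hcen hgz
    (a := l') (b := l ^ kz) (hd'.D_comm z hzD _ hgl).symm (by rw [← hkz, pow_orderOf_eq_one])
    (Nat.Coprime.pow_right kz ((Nat.coprime_primes hl' hl).2 hne))
  have hgL : g ∈ L := hd'.Cz_eq z hzD hzc ▸ mem_Cz.2 hgc
  have := (hμL ⟨g, hgn⟩).2 hgL
  rw [hg] at this
  rw [this, orderOf_one] at hh
  exact hl'.ne_one hh.symm

end Sizes

end CfsgLib.ClassSize.Three
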