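import Cfsg.Agent.Lib.ClassSize.ThreeSizesCore
import Cfsg.Agent.Lib.FGStruct.PPowerClass
import Cfsg.Agent.Lib.NilpPerm.Bound
import Cfsg.Agent.S0033

/-!
# Class sizes `1`, `m`, `m * n`: a small `p`-element, `p` dividing `m`

The centraliser of a small `p`-element is `D × W` with `D` an abelian `p`-group and `W` nilpotent.
-/

set_option autoImplicit false
set_option linter.style.haveILetI false
set_option linter.unusedSectionVars false

namespace CfsgLib.ClassSize.Three

variable {G : Type*} [Group G] [Finite G] {m n : ℕ}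

/-- An `r`-subgroup of full order of a nilpotent subgroup is normalised by it. -/
theorem le_normalizer_full {W : Subgroup G} (hW : Group.IsNilpotent W) {r : ℕ} [Fact r.Prime]
    {T : Subgroup G} (hT : IsPGroup r T) (hTW : T ≤ W)
    (hTc : Nat.card T = r ^ (Nat.card W).factorization r) :
    W ≤ Subgroup.normalizer (T : Set G) := by
  obtain ⟨S, hS⟩ := (hT.of_equiv (Subgroup.subgroupOfEquivOfLe hTW).symm).exists_le_sylow
  have hSn : (S : Subgroup W).Normal :=
    ((Group.isNilpotent_of_finite_tfae (G := W)).out 0 3 rfl rfl).mp hW r inferInstance S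
  have hTS : T = (S : Subgroup W).map W.subtype := eq_of_full
    (fun z hz => ⟨⟨z, hTW hz⟩, hS (Subgroup.mem_subgroupOf.2 hz), rfl⟩) (S.isPGroup'.map _)
    (Subgroup.map_subtype_le _) hTc
  intro g hg
  have hg' : (⟨g, hg⟩ : W) ∈ Subgroup.normalizer ((S : Subgroup W) : Set W) := by
    rw [Subgroup.normalizer_eq_top_iff.2 hSn]
    trivial
  rw [hTS]
  exact Subgroup.le_normalizer_map W.subtype (Subgroup.mem_map_of_mem W.subtype hg')

/-- In a nilpotent subgroup `W`, an `r`-element commuting with an `r`-subgroup of full order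
commutes with all of `W`. -/
theorem commute_of_full {W : Subgroup G} (hW : Group.IsNilpotent W) {r : ℕ} [Fact r.Prime]
    {T : Subgroup G} (hT : IsPGroup r T) (hTW : T ≤ W)
    (hTc : Nat.card T = r ^ (Nat.card W).factorization r) {x : G} (hxW : x ∈ W)
    (hx : ∃ k, orderOf x = r ^ k) (hxT : ∀ t ∈ T, Commute x t) : ∀ y ∈ W, Commute x y := by
  intro y hy
  obtain ⟨a, b, ha, hb, hab, rfl, ⟨i, hi⟩, hbr⟩ := exists_split r y
  have haW : a ∈ W := Subgroup.zpowers_le.2 hy ha
  have hbW : b ∈ W := Subgroup.zpowers_le.2 hy hb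
  have hnT := le_normalizer_full hW hT hTW hTc
  have haT : a ∈ T := le_full_of_normal hT hTW hTc ((Subgroup.zpowers_le.2 haW).trans hnT)
    (isPGroup_zpowers hi) (Subgroup.zpowers_le.2 haW) (Subgroup.mem_zpowers a)
  have hxb : Commute x b := by
    obtain ⟨k, hk⟩ := hx
    have h := CfsgLib.NilpPerm.commute_of_coprime_order (G := W) (a := ⟨x, hxW⟩) (b := ⟨b, hbW⟩) (by
      rw [← Subgroup.orderOf_coe, ← Subgroup.orderOf_coe]
      exact hk ▸ (hbr.symm.pow_left k))
    exact congrArg Subtype.val h.eq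
  exact (hxT a haT).mul_right hxb

/-- The structure of the centraliser `L` of a small `p`-element. -/
structure SData (G : Type*) [Group G] (m p : ℕ) (L D W : Subgroup G) : Prop where
  D_le : D ≤ L
  D_p : IsPGroup p D
  D_card : Nat.card D = p ^ expo G m p
  D_comm : ∀ d ∈ D, ∀ l ∈ L, Commute d l
  Cz_eq : ∀ t ∈ D, t ∉ Subgroup.center G → Cz t = L
  exists_t : ∃ t ∈ D, t ∉ Subgroup.center G
  W_mem : ∀ g, g ∈ W ↔ g ∈ L ∧ (orderOf g).Coprime p
  W_index : ∃ k, W.relIndex L = p ^ k
  W_nil : Group.IsNilpotent W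
  index_L : L.index = m
  primary : ∃ r : ℕ, r.Prime ∧ ¬ r ∣ m ∧ ∃ w ∈ L, w ∉ Subgroup.center G ∧ ∃ k, orderOf w = r ^ k

namespace Sizes

variable (hS : Sizes G m n)

include hS

/-- A small element commutes with a noncentral element of prime power order prime to `m`. -/
theorem exists_primary_in_small {s : G} (hs : (Cz s).index = m) :
    ∃ r : ℕ, r.Prime ∧ ¬ r ∣ m ∧ ∃ w ∈ Cz s, w ∉ Subgroup.center G ∧
      ∃ k, orderOf w = r ^ k := by
  obtain ⟨y, hy⟩ := hS.big
  have hm0 : 0 < m := by have := hS.m_gt; omega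
  by_contra hno
  have hdvd : Nat.card (Cz s) ∣ Nat.card (Cz y) := by
    refine (Nat.dvd_iff_prime_pow_dvd_dvd _ _).2 fun r k hr hk => ?_
    haveI : Fact r.Prime := ⟨hr⟩
    refine (pow_dvd_pow r ((hr.pow_dvd_iff_le_factorization Nat.card_pos.ne').1 hk)).trans ?_
    by_cases hrm : r ∣ m
    · rw [hS.factorization_Cz (hS.not_dvd_n hrm) (hS.noncentral_of_index (Or.inl hs)),
        ← hS.factorization_Cz (hS.not_dvd_n hrm) (hS.noncentral_of_index (Or.inr hy))]
      exact Nat.ordProj_dvd _ r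
    · obtain ⟨T, hT1, hT2, hT3⟩ := exists_full' r (Cz s)
      rw [← hT3]
      refine Subgroup.card_dvd_of_le fun a ha => center_le_Cz y ?_
      by_contra hc
      exact hno ⟨r, hr, hrm, a, hT1 ha, hc, orderOf_of_mem hT2 ha⟩
  have h1 := (Cz s).card_mul_index
  rw [hs] at h1
  have h2 := (Cz y).card_mul_index
  rw [hy] at h2
  have h3 := Nat.le_of_dvd Nat.card_pos hdvd
  have h4 : Nat.card (Cz y) * (m * n) ≤ Nat.card (Cz y) * m :=
    (h2.trans h1.symm).le.trans (Nat.mul_le_mul_right m h3)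
  have h5 := Nat.le_of_mul_le_mul_left h4 Nat.card_pos
  have h6 : m < m * n := (Nat.lt_mul_iff_one_lt_right hm0).2 hS.n_gt
  omega

/-- The centraliser of a small `p`-element. -/
theorem exists_SData {p : ℕ} [Fact p.Prime] (hp : p ∣ m) {s : G} (hs : (Cz s).index = m)
    (hsp : ∃ k, orderOf s = p ^ k) : ∃ D W : Subgroup G, SData G m p (Cz s) D W := by
  have hpp : p.Prime := Fact.out
  have hpn := hS.not_dvd_n hp
  have hsc := hS.noncentral_of_index (Or.inl hs)
  obtain ⟨ks, hks⟩ := hsp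
  obtain ⟨D, hDL, hDp, hDfull⟩ := exists_full' p (Cz s)
  have hDc : Nat.card D = p ^ expo G m p := by rw [hDfull, hS.factorization_Cz hpn hsc]
  have hsD : s ∈ D :=
    le_full_of_normal hDp hDL hDfull (Subgroup.zpowers_le.2 (Subgroup.centralizer_le_normalizer _
      (Subgroup.mem_centralizer_iff.2 fun d hd => (mem_Cz.1 (hDL hd)).eq)))
      (isPGroup_zpowers hks) (Subgroup.zpowers_le.2 (mem_Cz_self s)) (Subgroup.mem_zpowers s)
  set C := Subgroup.centralizer (D : Set G)
  have hCL : C ≤ Cz s := fun g hg => mem_Cz.2 (Subgroup.mem_centralizer_iff.1 hg s hsD).symm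
  -- `L = D C(D)` by Jordan
  have htop : D ⊔ C = Cz s := by
    refine le_antisymm (sup_le hDL hCL) (Subgroup.subgroupOf_eq_top.1
      (CfsgLib.FGStruct.PPowerClass.eq_top_of_conj_cover _ fun z => ?_))
    obtain ⟨a, b, ha, hb, hab, habz, ⟨i, hi⟩, hbp⟩ := exists_split p (z : G)
    have haL : a ∈ Cz s := Subgroup.zpowers_le.2 z.2 ha
    have hbL : b ∈ Cz s := Subgroup.zpowers_le.2 z.2 hb
    have hnd := hS.not_dvd_relIndex_of_small hs (mem_Cz.1 hbL).symm
      (hks ▸ hbp.symm.pow_left ks) hpp hpn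
    obtain ⟨T, hT1, hT2, hT3, hT4⟩ := exists_full p (Cz b ⊓ Cz s) (isPGroup_zpowers hi)
      (Subgroup.zpowers_le.2 ⟨mem_Cz.2 hab, haL⟩)
    rw [factorization_inf_eq hnd] at hT4
    obtain ⟨h, hh, hTh⟩ := exists_conj_full hDp hDL hDfull hT3 (hT1.trans inf_le_right) hT4
    refine ⟨⟨h, hh⟩, Subgroup.mem_subgroupOf.2 ?_⟩
    show h⁻¹ * (z : G) * h ∈ D ⊔ C
    rw [← habz, show h⁻¹ * (a * b) * h = h⁻¹ * a * h * (h⁻¹ * b * h) by group]
    refine mul_mem (Subgroup.mem_sup_left ?_) (Subgroup.mem_sup_right ?_)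
    · have haT := hT2 (Subgroup.mem_zpowers a)
      rw [hTh, Subgroup.mem_map_equiv, MulAut.conj_symm_apply] at haT
      exact haT
    · refine Subgroup.mem_centralizer_iff.2 fun d hd => ?_
      have hdb : Commute (h * d * h⁻¹) b := mem_Cz.1 (hT1 (by
        rw [hTh]; exact ⟨d, hd, MulAut.conj_apply h d⟩)).1
      have := hdb.map (MulAut.conj h⁻¹).toMonoidHom
      simpa [mul_assoc] using this.eq
  have hLn : Cz s ≤ Subgroup.normalizer (D : Set G) :=
    htop ▸ sup_le Subgroup.le_normalizer (Subgroup.centralizer_le_normalizer _)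
  have hpD : ∀ a ∈ Cz s, (∃ k, orderOf a = p ^ k) → a ∈ D := fun a ha ⟨k, hk⟩ =>
    le_full_of_normal hDp hDL hDfull ((Subgroup.zpowers_le.2 ha).trans hLn) (isPGroup_zpowers hk)
      (Subgroup.zpowers_le.2 ha) (Subgroup.mem_zpowers a)
  have hco : ∀ g ∈ Cz s, (orderOf g).Coprime p → g ∈ C := fun g hg hgp => by
    rw [← htop, ← SetLike.mem_coe,
      Subgroup.coe_mul_of_right_le_normalizer_left D C (Subgroup.centralizer_le_normalizer _)] at hg
    obtain ⟨d, hd, c, hc, rfl⟩ := hg
    have hdc : Commute d c := Subgroup.mem_centralizer_iff.1 hc d hd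
    obtain ⟨j, hj⟩ := exists_pow_eq_self_of_coprime
      (show (Nat.card D).Coprime (orderOf (d * c)) by rw [hDc]; exact hgp.symm.pow_left _)
    have hpow : d ^ Nat.card D = 1 := congrArg Subtype.val (pow_card_eq_one' (x := (⟨d, hd⟩ : D)))
    show d * c ∈ C
    rw [← hj, hdc.mul_pow, hpow, one_mul]
    exact pow_mem (pow_mem hc _) _
  obtain ⟨W, hW, hWi⟩ := exists_complement_in p (Cz s) fun Q hQL hQ g hgL _ hgp q hq =>
    (Subgroup.mem_centralizer_iff.1 (hco g hgL hgp) q (hpD q (hQL hq) (orderOf_of_mem hQ hq))).symm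
  have hWC : W ≤ C := fun g hg => hco g ((hW g).1 hg).1 ((hW g).1 hg).2
  have hWL : W ≤ Cz s := hWC.trans hCL
  -- an element outside `D` normalising `D`
  obtain ⟨P, hP⟩ := hDp.exists_le_sylow
  obtain ⟨v, hvP, hvD, hvn, hvp⟩ := exists_normalizer_step P.isPGroup' (hS.lt_sylow hp hDc hP)
  have hvo := orderOf_of_mem P.isPGroup' hvP
  have hnW : ∀ x ∈ Subgroup.normalizer (D : Set G), ∀ g ∈ W, x * g * x⁻¹ ∈ W := fun x hx g hg => by
    refine (hW _).2 ⟨hCL (Subgroup.mem_centralizer_iff.2 fun d hd => ?_), ?_⟩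
    · have hd' : x⁻¹ * d * x ∈ D := by
        have := (Subgroup.mem_normalizer_iff.1 (inv_mem hx) d).1 hd
        rwa [inv_inv] at this
      calc d * (x * g * x⁻¹) = x * ((x⁻¹ * d * x) * g) * x⁻¹ := by group
        _ = x * (g * (x⁻¹ * d * x)) * x⁻¹ := by
          rw [Subgroup.mem_centralizer_iff.1 (hWC hg) _ hd']
        _ = x * g * x⁻¹ * d := by group
    · rw [orderOf_conj]; exact ((hW g).1 hg).2
  have hfix : ∀ w ∈ W, (∃ c ∈ Subgroup.center G, v * w * v⁻¹ = c * w) →
      w ∈ Subgroup.center G := by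
    rintro w hw ⟨c, hc, hcw⟩
    obtain ⟨i, hi⟩ := hvo
    have hcW : c ∈ W := by
      have := W.mul_mem (hnW v hvn w hw) (W.inv_mem hw)
      rwa [hcw, mul_inv_cancel_right] at this
    have hvw : Commute v w := commute_of_central_commutator hc hcw
      (a := p ^ i) (b := orderOf c) (by rw [← hi, pow_orderOf_eq_one]; exact Commute.one_left w)
      (pow_orderOf_eq_one c) (((hW c).1 hcW).2.symm.pow_left i)
    exact hS.mem_center_of_commute hp hDp hDc ⟨i, hi⟩ hvn hvD
      (fun d hd => Subgroup.mem_centralizer_iff.1 (hWC hw) d hd) hvw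
  -- `W` is nilpotent, by Thompson
  have hWnil : Group.IsNilpotent W := by
    set π := QuotientGroup.mk' (Subgroup.center G)
    set K := W.map π
    have hvK : π v ∈ Subgroup.normalizer (K : Set (G ⧸ Subgroup.center G)) :=
      Subgroup.le_normalizer_map π (Subgroup.mem_map_of_mem π (by
        rw [Subgroup.mem_normalizer_iff]
        refine fun g => ⟨hnW v hvn g, fun hg => ?_⟩
        have := hnW v⁻¹ (inv_mem hvn) _ hg
        simpa [mul_assoc] using this))
    let φ : MulAut K := Subgroup.normalizerMonoidHom K ⟨π v, hvK⟩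
    have hφ : ∀ x : K, (φ x : G ⧸ Subgroup.center G) = π v * x * (π v)⁻¹ := fun x => rfl
    have hfpf : ∀ x : K, φ x = x → x = 1 := by
      rintro ⟨_, w, hw, rfl⟩ hx
      have h := congrArg Subtype.val hx
      rw [hφ] at h
      refine Subtype.ext ((QuotientGroup.eq_one_iff w).2 (hfix w hw ⟨v * w * v⁻¹ * w⁻¹, ?_, by group⟩))
      rw [← QuotientGroup.eq_one_iff]
      show π (v * w * v⁻¹ * w⁻¹) = 1
      simp only [map_mul, map_inv]
      exact mul_inv_eq_one.2 h
    have hK : Group.IsNilpotent K := by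
      by_cases hsub : ∀ x : K, x = 1
      · haveI : Subsingleton K := ⟨fun a b => (hsub a).trans (hsub b).symm⟩
        infer_instance
      · push Not at hsub
        obtain ⟨x, hx⟩ := hsub
        refine Cfsg.Agent.S0033.result φ (fun x => hfpf x) p hpp (orderOf_eq_prime ?_ fun e => ?_)
        · show (Subgroup.normalizerMonoidHom K ⟨π v, hvK⟩) ^ p = 1
          rw [← map_pow]
          ext ⟨_, w, hw, rfl⟩
          show π v ^ p * π w * (π v ^ p)⁻¹ = π w
          rw [← map_pow, ← map_inv, ← map_mul, ← map_mul,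
            Subgroup.mem_centralizer_iff.1 (hWC hw) _ hvp, mul_inv_cancel_right]
        · exact hx (hfpf x (by rw [e]; rfl))
    haveI := hK
    refine Subgroup.isNilpotent_of_ker_le_center
      (((π.comp W.subtype).codRestrict K fun x => Subgroup.mem_map_of_mem π x.2) : W →* K) ?_
    intro x hx
    rw [MonoidHom.ker_codRestrict, MonoidHom.mem_ker] at hx
    refine Subgroup.mem_center_iff.2 fun y => Subtype.ext ?_
    exact Subgroup.mem_center_iff.1 ((QuotientGroup.eq_one_iff _).1 hx) y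
  -- `D` is abelian
  have hDab : ∀ d ∈ D, ∀ d' ∈ D, Commute d d' := by
    by_cases hcen : ∃ w ∈ W, w ∉ Subgroup.center G ∧ ∀ y ∈ W, Commute w y
    · obtain ⟨w', hw', hw'c, hw'W⟩ := hcen
      obtain ⟨r, hr, w, hwz, hwc, hwr⟩ := exists_primary_noncentral hw'c
      obtain ⟨e, rfl⟩ := Subgroup.mem_zpowers_iff.1 hwz
      have hw : w' ^ e ∈ W := W.zpow_mem hw' e
      have hle : Cz s ≤ Cz (w' ^ e) := fun g hg => by
        obtain ⟨a, b, ha, hb, -, rfl, hak, hbp⟩ := exists_split p g
        have haD := hpD a (Subgroup.zpowers_le.2 hg ha) hak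
        have hbW := (hW b).2 ⟨Subgroup.zpowers_le.2 hg hb, hbp⟩
        exact mem_Cz.2 (Commute.mul_left (Subgroup.mem_centralizer_iff.1 (hWC hw) a haD)
          ((hw'W b hbW).zpow_left e).symm)
      have hCw := hS.Cz_eq_of_small hs hwc hle
      have hidx : (Cz (w' ^ e)).index = m := hCw ▸ hs
      intro t ht d hd
      have hwt : Commute (w' ^ e) t :=
        (Subgroup.mem_centralizer_iff.1 (hWC hw) t ht : Commute t (w' ^ e)).symm
      obtain ⟨kt, hkt⟩ := orderOf_of_mem hDp ht
      have hrel := hS.relIndex_of_small hidx hwt (hkt ▸ ((hW _).1 hw).2.pow_right kt)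
      rw [hCw] at hrel
      have hone : (Cz t).relIndex (Cz s) = 1 := by
        refine hrel.resolve_right fun e => ?_
        obtain ⟨k, hk⟩ := hWi
        have hWt : W ≤ Cz t := fun g hg =>
          mem_Cz.2 (Subgroup.mem_centralizer_iff.1 (hWC hg) t ht).symm
        have h1 : (Cz t).relIndex (Cz s) ∣ p ^ k := hk ▸ Subgroup.relIndex_dvd_of_le_left _ hWt
        rw [e] at h1
        have := Nat.eq_one_of_dvd_coprimes ((hpp.coprime_iff_not_dvd.2 hpn).pow_left k) h1 dvd_rfl
        have := hS.n_gt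
        omega
      exact (mem_Cz.1 (Subgroup.relIndex_eq_one.1 hone (hDL hd))).symm
    · push Not at hcen
      obtain ⟨r, hr, hrm, w, hwL, hwc, kw, hkw⟩ := hS.exists_primary_in_small hs
      haveI : Fact r.Prime := ⟨hr⟩
      have hrp : r ≠ p := fun e => hrm (e ▸ hp)
      have hrcop : ∀ i, (r ^ i).Coprime p := fun i =>
        Nat.Coprime.pow_left i ((Nat.coprime_primes hr hpp).2 hrp)
      have hw : w ∈ W := (hW w).2 ⟨hwL, hkw ▸ hrcop kw⟩
      have hbig : (Cz w).index = m * n := by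
        refine (hS.dich w hwc).resolve_left fun hsm => ?_
        obtain ⟨R, hR1, hR2, hR3⟩ := exists_full' r W
        have hnotr : ∀ x ∈ W, (∃ k, orderOf x = r ^ k) → (∀ t ∈ R, Commute x t) →
            x ∈ Subgroup.center G := fun x hx hxr hxR => by
          by_contra hxc
          obtain ⟨y, hy, hxy⟩ := hcen x hx hxc
          exact hxy (commute_of_full hWnil hR2 hR1 hR3 hx hxr hxR y hy)
        have hRL : Nat.card R = r ^ (Nat.card (Cz s)).factorization r := by
          obtain ⟨T, hT1, hT2, hT3⟩ := exists_full' r (Cz s)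
          have hTW : T ≤ W := fun a ha => (hW a).2 ⟨hT1 ha, by
            obtain ⟨i, hi⟩ := orderOf_of_mem hT2 ha
            exact hi ▸ hrcop i⟩
          obtain ⟨j, hj, hjc⟩ := le_of_isPGroup hT2 hTW
          obtain ⟨j', hj', hjc'⟩ := le_of_isPGroup hR2 (hR1.trans hWL)
          have e1 := Nat.pow_right_injective hr.two_le (hjc.symm.trans hT3)
          have e2 := Nat.pow_right_injective hr.two_le (hjc'.symm.trans hR3)
          rw [hR3]
          exact congrArg _ (by omega)
        have hsw : Commute s w := (mem_Cz.1 hwL).symm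
        by_cases hrn : r ∣ n
        · -- `C(w)` contains a Sylow `r`-subgroup of `G`
          obtain ⟨T, hT1, hT2, hT3, hT4⟩ :=
            exists_full r (Cz w) (isPGroup_zpowers hkw) (Subgroup.zpowers_le.2 (mem_Cz_self w))
          have hfac : ∀ x, (Cz x).index = m →
              (Nat.card (Cz x)).factorization r = (Nat.card G).factorization r := fun x hx => by
            rw [← (Cz x).card_mul_index, hx,
              Nat.factorization_mul Nat.card_pos.ne' (by have := hS.m_gt; omega), Finsupp.add_apply,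
              Nat.factorization_eq_zero_of_not_dvd hrm, add_zero]
          rw [hfac w hsm] at hT4
          rw [hfac s hs] at hRL
          obtain ⟨g, -, hg⟩ := exists_conj_full (H := ⊤) hR2 le_top
            (by rw [hRL, Subgroup.card_top]) hT3 le_top (by rw [hT4, Subgroup.card_top])
          have hwT := hT2 (Subgroup.mem_zpowers w)
          rw [hg, Subgroup.mem_map_equiv, MulAut.conj_symm_apply] at hwT
          refine hwc ((conj_mem_center_iff (g := g⁻¹)).1 ?_)
          rw [inv_inv]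
          refine hnotr _ (hR1 hwT) (orderOf_of_mem hR2 hwT) fun t ht => ?_
          have htw : Commute (g * t * g⁻¹) w := mem_Cz.1 (hT1 (by
            rw [hg]; exact ⟨t, ht, MulAut.conj_apply g t⟩))
          have := htw.map (MulAut.conj g⁻¹).toMonoidHom
          exact (show Commute t (g⁻¹ * w * g) by simpa [mul_assoc] using this).symm
        · have hnd := hS.not_dvd_relIndex_of_small hs hsw
            (by rw [hks, hkw]; exact ((hrcop kw).symm.pow_left ks)) hr hrn
          obtain ⟨T, hT1, hT2, hT3⟩ := exists_full' r (Cz w ⊓ Cz s)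
          rw [factorization_inf_eq hnd] at hT3
          have hTW : T ≤ W := fun a ha => (hW a).2 ⟨(hT1 ha).2, by
            obtain ⟨i, hi⟩ := orderOf_of_mem hT2 ha
            exact hi ▸ hrcop i⟩
          refine hwc ?_
          by_contra hxc
          obtain ⟨y, hy, hxy⟩ := hcen w hw hxc
          exact hxy (commute_of_full hWnil hT2 hTW (by rw [hT3, ← hRL, hR3]) hw ⟨kw, hkw⟩
            (fun t ht => (mem_Cz.1 (hT1 ht).1).symm) y hy)
      intro t ht d hd
      have hwt : Commute w t := (Subgroup.mem_centralizer_iff.1 (hWC hw) t ht : Commute t w).symm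
      obtain ⟨kt, hkt⟩ := orderOf_of_mem hDp ht
      have hle := hS.Cz_le_of_big hbig hwt (by rw [hkt]; exact ((hW w).1 hw).2.pow_right kt)
      exact (mem_Cz.1 (hle (mem_Cz.2 (Subgroup.mem_centralizer_iff.1 (hWC hw) d hd)))).symm
  have hDcomm : ∀ d ∈ D, ∀ l ∈ Cz s, Commute d l := fun d hd l hl => by
    obtain ⟨a, b, ha, hb, -, rfl, hak, hbp⟩ := exists_split p l
    exact (hDab d hd a (hpD a (Subgroup.zpowers_le.2 hl ha) hak)).mul_right
      (Subgroup.mem_centralizer_iff.1 (hWC ((hW b).2 ⟨Subgroup.zpowers_le.2 hl hb, hbp⟩)) d hd)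
  exact ⟨D, W, hDL, hDp, hDc, hDcomm,
    fun t ht htc => hS.Cz_eq_of_small hs htc fun l hl => mem_Cz.2 (hDcomm t ht l hl).symm,
    ⟨s, hsD, hsc⟩, hW, hWi, hWnil, hs, hS.exists_primary_in_small hs⟩

/-- If `p` has a small element then so has every prime of `m`, with the same centraliser. -/
theorem SData_of_prime {p : ℕ} [Fact p.Prime] (hp : p ∣ m) {L D W : Subgroup G}
    (hd : SData G m p L D W) {q : ℕ} [Fact q.Prime] (hq : q ∣ m) :
    ∃ D' W' : Subgroup G, SData G m q L D' W' := by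
  by_cases hqp : q = p
  · subst hqp
    exact ⟨D, W, hd⟩
  obtain ⟨s, hsD, hsc⟩ := hd.exists_t
  have hsL := hd.Cz_eq s hsD hsc
  have hs : (Cz s).index = m := hsL ▸ hd.index_L
  obtain ⟨ks, hks⟩ := orderOf_of_mem hd.D_p hsD
  obtain ⟨t, htL, htc, kt, hkt⟩ := hS.exists_noncentral_pElement hq hsc
  have hqc : ∀ i, (q ^ i).Coprime p := fun i =>
    Nat.Coprime.pow_left i ((Nat.coprime_primes Fact.out Fact.out).2 hqp)
  have hnd := hS.not_dvd_relIndex_of_small hs (mem_Cz.1 htL).symm
    (by rw [hks, hkt]; exact (hqc kt).symm.pow_left ks) (r := q) Fact.out (hS.not_dvd_n hq)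
  obtain ⟨T, hT1, hT2, hT3⟩ := exists_full' q (Cz t ⊓ Cz s)
  rw [factorization_inf_eq hnd, hsL] at hT3
  have htW : t ∈ W := (hd.W_mem t).2 ⟨hsL ▸ htL, hkt ▸ hqc kt⟩
  have hTW : T ≤ W := fun a ha => (hd.W_mem a).2 ⟨hsL ▸ (hT1 ha).2, by
    obtain ⟨i, hi⟩ := orderOf_of_mem hT2 ha
    exact hi ▸ hqc i⟩
  have hTc : Nat.card T = q ^ (Nat.card W).factorization q := by
    obtain ⟨R, hR1, hR2, hR3, hR4⟩ := exists_full q W hT2 hTW
    have hle : W ≤ L := fun g hg => ((hd.W_mem g).1 hg).1
    rw [eq_of_full hR2 hR3 (hR1.trans hle) hT3, hR4]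
  have hle : Cz s ≤ Cz t := fun l hl => by
    rw [hsL] at hl
    obtain ⟨a, b, ha, hb, -, rfl, hak, hbp⟩ := exists_split p l
    have haL : a ∈ L := Subgroup.zpowers_le.2 hl ha
    have hbW := (hd.W_mem b).2 ⟨Subgroup.zpowers_le.2 hl hb, hbp⟩
    have hnD : L ≤ Subgroup.normalizer (D : Set G) := le_trans
      (fun g hg => Subgroup.mem_centralizer_iff.2 fun d hd' => hd.D_comm d hd' g hg)
      (Subgroup.centralizer_le_normalizer _)
    have haD : a ∈ D := by
      obtain ⟨i, hi⟩ := hak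
      refine le_full_of_normal hd.D_p hd.D_le ?_ ((Subgroup.zpowers_le.2 haL).trans hnD)
        (isPGroup_zpowers hi) (Subgroup.zpowers_le.2 haL) (Subgroup.mem_zpowers a)
      rw [hd.D_card, ← hS.factorization_Cz (hS.not_dvd_n hp) hsc, hsL]
    exact mem_Cz.2 ((hd.D_comm a haD t (hsL ▸ htL)).mul_left
      (commute_of_full hd.W_nil hT2 hTW hTc htW ⟨kt, hkt⟩
        (fun u hu => (mem_Cz.1 (hT1 hu).1).symm) b hbW).symm)
  have hCt := hS.Cz_eq_of_small hs htc hle
  obtain ⟨D', W', h'⟩ := hS.exists_SData hq (s := t) (hCt ▸ hs) ⟨kt, hkt⟩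
  exact ⟨D', W', by rwa [hCt, hsL] at h'⟩

end Sizes

end CfsgLib.ClassSize.Three
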